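import Cfsg.Agent.Lib.TensorWreathSL.Lev
import Cfsg.Agent.Lib.TensorWreath.Root

/-!
An algebra of matrices of a tensor power that is invariant under the symplectic transvections of every slot, the
adjoint and the exchanges of slots is scalar or everything.
-/

set_option autoImplicit false
set_option linter.unusedSectionVars false
set_option linter.unusedVariables false

namespace CfsgLib.TensorWreathO

open CfsgLib.Aschbacher CfsgLib.AschbacherForm CfsgLib.TensorWreath CfsgLib.TensorWreathSL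
open scoped Matrix MatrixGroups

variable {F : Type*} [Field F] {k s : ℕ} {J₁ : GL (Fin k) F}

/-- An invariant algebra of matrices of the tensor power. -/
structure InvAlg (J₁ : GL (Fin k) F) (S : Subalgebra F (TMat F k s)) : Prop where
  skew : (J₁ : Matrix (Fin k) (Fin k) F)ᵀ = -(J₁ : Matrix (Fin k) (Fin k) F)
  alt : ∀ v, fo J₁ v v = 0
  four : 4 ≤ k
  conj : ∀ l u, ∀ c : F, ∀ X ∈ S, (1 + c • slot l (aR J₁ u)) * X * (1 - c • slot l (aR J₁ u)) ∈ S
  star : ∀ X ∈ S, adjJ (JT s J₁) X ∈ S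
  swap : ∀ a b, ∀ X ∈ S, cj (permGL (Equiv.swap a b) : GL (Fin s → Fin k) F) X ∈ S

/-- The difference of a conjugation by a root. -/
def dlt (a X : TMat F k s) : TMat F k s := a * X - X * a - a * X * a

/-- The image of a vector under a transvection. -/
def tvv (J₁ : GL (Fin k) F) (c : F) (u z : Fin k → F) : Fin k → F := z + (c * fo J₁ u z) • u

theorem conj_rk (hskew : (J₁ : Matrix (Fin k) (Fin k) F)ᵀ = -(J₁ : Matrix (Fin k) (Fin k) F)) (c : F)
    (u p r : Fin k → F) :
    (1 + c • aR J₁ u) * rk J₁ p r * (1 - c • aR J₁ u) = rk J₁ (tvv J₁ c u p) (tvv J₁ c u r) := by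
  have e1 : (1 + c • aR J₁ u) * rk J₁ p r = rk J₁ (tvv J₁ c u p) r := by
    rw [tvv, rk_add_left, rk_smul_left, add_mul, one_mul, Matrix.smul_mul, aR, rk_mul, smul_smul]
  rw [e1, mul_sub, mul_one, Matrix.mul_smul, aR, rk_mul, smul_smul]
  conv_rhs => rw [tvv.eq_1 J₁ c u r, rk_add_right, rk_smul_right, fo_skew J₁ hskew u r, mul_neg, neg_smul,
    ← sub_eq_add_neg]

/-- A factor of a pattern. -/
def Pat (J₁ : GL (Fin k) F) (a : Matrix (Fin k) (Fin k) F) : Prop :=
  (∃ u, u ≠ 0 ∧ a = aR J₁ u) ∨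
    ∃ u w, u ≠ 0 ∧ w ∉ Submodule.span F {u} ∧ fo J₁ u w = 0 ∧ a = rk J₁ u w - rk J₁ w u

theorem slot_mul_pure {f : Fin s → Matrix (Fin k) (Fin k) F} {l : Fin s} (h : f l = 1)
    (A : Matrix (Fin k) (Fin k) F) : slot l A * pure' f = pure' (Function.update f l A) := by
  rw [slot_eq_pure, pure'_mul]
  congr 1
  funext j
  rcases eq_or_ne j l with rfl | hj
  · simp [h]
  · simp [hj]

theorem pure_mul_slot {f : Fin s → Matrix (Fin k) (Fin k) F} {l : Fin s} (h : f l = 1)
    (A : Matrix (Fin k) (Fin k) F) : pure' f * slot l A = pure' (Function.update f l A) := by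
  rw [slot_eq_pure, pure'_mul]
  congr 1
  funext j
  rcases eq_or_ne j l with rfl | hj
  · simp [h]
  · simp [hj]

theorem exists_dual_one {W : Submodule F (Fin k → F)} {u : Fin k → F} (hu : u ∉ W) :
    ∃ x, fo J₁ x u = 1 ∧ ∀ w ∈ W, fo J₁ x w = 0 := by
  obtain ⟨φ, hW, hu'⟩ := Maximal.exists_ann W u hu
  obtain ⟨x, hx⟩ := exists_fw J₁ φ
  exact ⟨x, by rw [fo, hx, hu'], fun w hw => by rw [fo, hx, hW w hw]⟩

theorem not_mem_of_ne_zero {u : Fin k → F} (hu : u ≠ 0) : u ∉ (⊥ : Submodule F (Fin k → F)) := by simpa using hu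

theorem slot_minus' (l : Fin s) (A B : Matrix (Fin k) (Fin k) F) : slot l (A - B) = slot l A - slot l B := by
  rw [sub_eq_add_neg, slot_add, slot_neg, ← sub_eq_add_neg]

namespace InvAlg

variable {S : Subalgebra F (TMat F k s)} (hS : InvAlg J₁ S)

include hS

theorem neg_fo (v w : Fin k → F) : fo J₁ v w = -fo J₁ w v := fo_skew J₁ hS.skew v w

theorem dlt_mem {l : Fin s} {u : Fin k → F} {X : TMat F k s} (hX : X ∈ S) : dlt (slot l (aR J₁ u)) X ∈ S := by
  have := S.sub_mem (hS.conj l u 1 X hX) hX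
  rw [one_smul] at this
  convert this using 1
  simp only [dlt, add_mul, one_mul, mul_sub, mul_one]
  abel

theorem exists_orth {u : Fin k → F} (hu : u ≠ 0) : ∃ w, fo J₁ u w = 0 ∧ w ∉ Submodule.span F {u} := by
  let φ : (Fin k → F) →ₗ[F] F :=
    { toFun := fo J₁ u
      map_add' := fo_add_right J₁ u
      map_smul' := fun c x => fo_smul_right J₁ c u x }
  have hk : 2 ≤ Module.finrank F (LinearMap.ker φ) := by
    have h1 := φ.finrank_range_add_finrank_ker
    have h2 := Submodule.finrank_le (LinearMap.range φ)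
    rw [Module.finrank_self] at h2
    rw [Module.finrank_fintype_fun_eq_card, Fintype.card_fin] at h1
    have := hS.four
    omega
  have hnle : ¬ LinearMap.ker φ ≤ Submodule.span F {u} := fun hle => by
    have := Submodule.finrank_mono hle
    rw [finrank_span_singleton hu] at this
    omega
  obtain ⟨w, hw, hwn⟩ := SetLike.not_le_iff_exists.1 hnle
  exact ⟨w, LinearMap.mem_ker.1 hw, hwn⟩

/-- A matrix with vanishing coefficients at the orthogonal pairs of a slot commutes with the slot. -/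
theorem cent_of_bop {l : Fin s} {B : TMat F k s}
    (h : ∀ u w, u ≠ 0 → w ∉ Submodule.span F {u} → fo J₁ u w = 0 → bop J₁ l u w B = 0) : Cent l B := by
  have hself : ∀ u, bop J₁ l u u B = 0 := fun u => by
    rcases eq_or_ne u 0 with rfl | hu
    · simpa using bop_smul_left J₁ l 0 (0 : Fin k → F) (0 : Fin k → F) B
    obtain ⟨w, huw, hw⟩ := hS.exists_orth hu
    have h2 : u + w ∉ Submodule.span F {u} := fun hm => hw (by
      have := Submodule.sub_mem _ hm (Submodule.mem_span_singleton_self u)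
      rwa [add_sub_cancel_left] at this)
    have := h u (u + w) hu h2 (by rw [fo_add_right, hS.alt, huw, add_zero])
    rwa [bop_add_right, h u w hu hw huw, add_zero] at this
  have horth : ∀ u w, fo J₁ u w = 0 → bop J₁ l u w B = 0 := fun u w huw => by
    by_cases hw : w ∈ Submodule.span F {u}
    · obtain ⟨c, rfl⟩ := Submodule.mem_span_singleton.1 hw
      rw [bop_smul_right, hself, smul_zero]
    rcases eq_or_ne u 0 with rfl | hu
    · simpa using bop_smul_left J₁ l 0 (0 : Fin k → F) w B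
    exact h u w hu hw huw
  have hfac : ∀ u x v, fo J₁ u x = 1 → bop J₁ l u v B = fo J₁ u v • bop J₁ l u x B := fun u x v hx => by
    have := horth u (v + (-fo J₁ u v) • x) (by rw [fo_add_right, fo_smul_right, hx]; ring)
    rwa [bop_add_right, bop_smul_right, neg_smul, ← sub_eq_add_neg, sub_eq_zero] at this
  have hindep : ∀ u u' x x', u ≠ 0 → u' ∉ Submodule.span F {u} → fo J₁ u x = 1 → fo J₁ u' x' = 1 →
      bop J₁ l u x B = bop J₁ l u' x' B := by
    intro u u' x x' hu hu' hx hx'
    obtain ⟨a, ha, ha'⟩ := exists_dual_one (J₁ := J₁) hu'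
    obtain ⟨b, hb, hb'⟩ := exists_dual_one (J₁ := J₁) (W := Submodule.span F {u'}) (u := u) fun hm => by
      obtain ⟨c, hc⟩ := Submodule.mem_span_singleton.1 hm
      have hc0 : c ≠ 0 := fun e => hu (by rw [← hc, e, zero_smul])
      exact hu' (Submodule.mem_span_singleton.2 ⟨c⁻¹, by rw [← hc, inv_smul_smul₀ hc0]⟩)
    have a1 : fo J₁ u a = 0 := by rw [hS.neg_fo, ha' u (Submodule.mem_span_singleton_self _), neg_zero]
    have a2 : fo J₁ u' (-a) = 1 := by rw [← neg_one_smul F a, fo_smul_right, hS.neg_fo, ha]; ring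
    have b1 : fo J₁ u' b = 0 := by rw [hS.neg_fo, hb' u' (Submodule.mem_span_singleton_self _), neg_zero]
    have b2 : fo J₁ u (-b) = 1 := by rw [← neg_one_smul F b, fo_smul_right, hS.neg_fo, hb]; ring
    have a1' : fo J₁ u (-a) = 0 := by rw [← neg_one_smul F a, fo_smul_right, a1, mul_zero]
    have b1' : fo J₁ u' (-b) = 0 := by rw [← neg_one_smul F b, fo_smul_right, b1, mul_zero]
    have s1 : fo J₁ (u + u') (-a) = 1 := by rw [fo_add_left, a1', a2, zero_add]
    have s2 : fo J₁ (u + u') (-b) = 1 := by rw [fo_add_left, b2, b1', add_zero]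
    have e1 : bop J₁ l (u + u') (-a) B = bop J₁ l u' x' B := by
      rw [bop_add_left, horth u (-a) a1', zero_add, hfac u' x' (-a) hx', a2, one_smul]
    have e2 : bop J₁ l (u + u') (-b) B = bop J₁ l u x B := by
      rw [bop_add_left, horth u' (-b) b1', add_zero, hfac u x (-b) hx, b2, one_smul]
    rw [← e1, ← e2, hfac (u + u') (-a) (-b) s1, s2, one_smul]
  obtain ⟨u₀, hu₀⟩ : ∃ u₀ : Fin k → F, u₀ ≠ 0 :=
    ⟨Pi.single ⟨0, by have := hS.four; omega⟩ 1, by simp⟩
  obtain ⟨x₀, hx₀⟩ := exists_partner J₁ hu₀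
  set C := bop J₁ l u₀ x₀ B
  have hform : ∀ u v, bop J₁ l u v B = fo J₁ u v • C := fun u v => by
    by_cases hm : u ∈ Submodule.span F {u₀}
    · obtain ⟨c, rfl⟩ := Submodule.mem_span_singleton.1 hm
      rw [bop_smul_left, hfac u₀ x₀ v hx₀, fo_smul_left, smul_smul]
    obtain ⟨x, hx⟩ := exists_partner J₁ (u := u) fun e => hm (e ▸ zero_mem _)
    rw [hfac u x v hx, ← hindep u₀ u x₀ x hu₀ hm hx₀ hx]
  have hC : Cent l C := cent_bop J₁ l _ _ _
  have hz : ∀ p v w r, slot l (rk J₁ p v) * (B - C) * slot l (rk J₁ w r) = 0 := fun p v w r => by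
    rw [sandwich, sub_eq_add_neg, bop_add, ← neg_one_smul F C, bop_smul, bop_of_cent J₁ l v w hC, hform,
      neg_one_smul, add_neg_cancel, mul_zero]
  have hone : ∑ a : Fin k, slot (F := F) l (Matrix.single a a 1) = 1 := by
    rw [← slot_sum, Matrix.sum_single_one, slot_one]
  have hsingle : ∀ a b : Fin k, ∃ v, Matrix.single a b (1 : F) = rk J₁ (Pi.single a 1) v := fun a b => by
    obtain ⟨v, hv⟩ := exists_fw J₁ (Pi.single b (1 : F))
    exact ⟨v, by rw [rk, hv, Matrix.single_eq_single_vecMulVec_single]⟩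
  have e : B - C = 0 := by
    rw [← one_mul (B - C), ← mul_one (1 * (B - C)), ← hone, Finset.sum_mul, Finset.sum_mul]
    refine Finset.sum_eq_zero fun a _ => ?_
    rw [Finset.mul_sum]
    refine Finset.sum_eq_zero fun b _ => ?_
    obtain ⟨v, hv⟩ := hsingle a a
    obtain ⟨r, hr⟩ := hsingle b b
    rw [hv, hr, hz]
  rw [sub_eq_zero.1 e]
  exact hC

/-- One slot of a pattern. -/
theorem step {T : Finset (Fin s)} {f : Fin s → Matrix (Fin k) (Fin k) F} {B : TMat F k s}
    (hf : ∀ l, l ∉ T → f l = 1) (hB : ∀ l ∈ T, Cent l B) {l : Fin s} (hl : l ∉ T) (hnc : ¬ Cent l B)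
    (h : pure' f * B ∈ S) :
    ∃ a B', Pat J₁ a ∧ B' ≠ 0 ∧ (∀ m ∈ insert l T, Cent m B') ∧
      pure' (Function.update f l a) * B' ∈ S := by
  classical
  obtain ⟨u, w, hu, hw, huw, hne⟩ : ∃ u w, u ≠ 0 ∧ w ∉ Submodule.span F {u} ∧ fo J₁ u w = 0 ∧
      bop J₁ l u w B ≠ 0 := by
    by_contra hcon
    push Not at hcon
    exact hnc (hS.cent_of_bop hcon)
  have hwu : fo J₁ w u = 0 := by rw [hS.neg_fo, huw, neg_zero]
  set B₁ := bop J₁ l u w B with hB₁
  set B₂ := bop J₁ l w u B with hB₂
  have hc₁ : Cent l B₁ := cent_bop J₁ l _ _ _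
  have hc₂ : Cent l B₂ := cent_bop J₁ l _ _ _
  have hrest : ∀ v z m, m ∈ T → Cent m (bop J₁ l v z B) := fun v z m hm A => by
    have hml : m ≠ l := fun e => hl (e ▸ hm)
    rw [bop, Finset.mul_sum, Finset.sum_mul]
    refine Finset.sum_congr rfl fun c _ => ?_
    rw [← mul_assoc, ← mul_assoc, slot_commute hml, mul_assoc (slot l _) (slot m A), hB m hm A, ← mul_assoc,
      mul_assoc _ (slot m A), slot_commute hml, ← mul_assoc]
  have hcomm : ∀ A, slot l A * pure' f = pure' f * slot l A := fun A => by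
    rw [slot_mul_pure (hf l hl), pure_mul_slot (hf l hl)]
  have hd : ∀ z X, pure' f * X ∈ S → pure' f * dlt (slot l (aR J₁ z)) X ∈ S := fun z X hX => by
    have := hS.dlt_mem (l := l) (u := z) hX
    convert this using 1
    simp only [dlt, mul_sub, ← mul_assoc, ← hcomm]
  set Y := slot l (rk J₁ u w) * B₁ + slot l (rk J₁ w u) * B₂ with hY
  have hYmem : pure' f * Y ∈ S := by
    have h1 := S.neg_mem (hd u _ (hd w _ h))
    rw [← mul_neg] at h1
    suffices e : Y = -dlt (slot l (aR J₁ u)) (dlt (slot l (aR J₁ w)) B) by rw [e]; exact h1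
    have z1 : slot l (aR J₁ u) * slot l (aR J₁ w) = 0 := by rw [← slot_mul, aR, aR, rk_mul, huw, zero_smul, slot_zero]
    have z2 : slot l (aR J₁ w) * slot l (aR J₁ u) = 0 := by rw [← slot_mul, aR, aR, rk_mul, hwu, zero_smul, slot_zero]
    have z1' : ∀ Z, slot l (aR J₁ u) * (slot l (aR J₁ w) * Z) = 0 := fun Z => by rw [← mul_assoc, z1, zero_mul]
    have z2' : ∀ Z, slot l (aR J₁ w) * (slot l (aR J₁ u) * Z) = 0 := fun Z => by rw [← mul_assoc, z2, zero_mul]
    rw [hY, hB₁, hB₂, ← sandwich, ← sandwich]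
    show slot l (aR J₁ u) * B * slot l (aR J₁ w) + slot l (aR J₁ w) * B * slot l (aR J₁ u) = _
    simp only [dlt, mul_sub, sub_mul, mul_assoc, z2, z1', mul_zero, sub_zero, zero_sub, neg_mul,
      neg_zero]
    abel
  obtain ⟨x, hxw, hxu⟩ := exists_dual_one (J₁ := J₁) hw
  have hxu : fo J₁ x u = 0 := hxu u (Submodule.mem_span_singleton_self _)
  have hvary : ∀ x, fo J₁ x u = 0 → fo J₁ x w = 1 →
      pure' f * (slot l (rk J₁ x u) * B₂ + slot l (rk J₁ u x) * B₁) ∈ S := fun x hxu hxw => by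
    have hux : fo J₁ u x = 0 := by rw [hS.neg_fo, hxu, neg_zero]
    have hwx : fo J₁ w x = -1 := by rw [hS.neg_fo, hxw]
    suffices e : slot l (rk J₁ x u) * B₂ + slot l (rk J₁ u x) * B₁ = dlt (slot l (aR J₁ x)) Y by
      rw [e]; exact hd x Y hYmem
    have c1 : B₁ * slot l (aR J₁ x) = slot l (aR J₁ x) * B₁ := (hc₁ _).symm
    have c2 : B₂ * slot l (aR J₁ x) = slot l (aR J₁ x) * B₂ := (hc₂ _).symm
    have eL : slot l (aR J₁ x) * Y = slot l (rk J₁ x u) * B₂ := by
      rw [hY, mul_add, ← mul_assoc, ← mul_assoc, ← slot_mul, ← slot_mul, aR, rk_mul, rk_mul, hxu, hxw, zero_smul,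
        slot_zero, zero_mul, zero_add, one_smul]
    have eR : Y * slot l (aR J₁ x) = -(slot l (rk J₁ u x) * B₁) := by
      rw [hY, add_mul, mul_assoc, mul_assoc, c1, c2, ← mul_assoc, ← mul_assoc, ← slot_mul, ← slot_mul, aR, rk_mul,
        rk_mul, hwx, hux, zero_smul, slot_zero, zero_mul, add_zero, neg_smul, one_smul, slot_neg, neg_mul]
    have eM : slot l (aR J₁ x) * Y * slot l (aR J₁ x) = 0 := by
      rw [eL, mul_assoc, c2, ← mul_assoc, ← slot_mul, aR, rk_mul, hux, zero_smul, slot_zero, zero_mul]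
    rw [dlt, eM, eL, eR, sub_zero, sub_neg_eq_add]
  have hins : ∀ B' : TMat F k s, Cent l B' → (∀ m ∈ T, Cent m B') → ∀ m ∈ insert l T, Cent m B' := fun B' h1 h2 m hm => by
    rcases Finset.mem_insert.1 hm with rfl | hm'
    exacts [h1, h2 m hm']
  by_cases hsum : B₁ + B₂ = 0
  · refine ⟨rk J₁ u w - rk J₁ w u, B₁, Or.inr ⟨u, w, hu, hw, huw, rfl⟩, hne, hins _ hc₁ (hrest u w), ?_⟩
    rw [← pure_mul_slot (hf l hl), mul_assoc]
    have e : slot l (rk J₁ u w - rk J₁ w u) * B₁ = Y := by
      rw [hY, eq_neg_of_add_eq_zero_right hsum, mul_neg, ← sub_eq_add_neg, slot_minus', sub_mul]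
    rw [e]
    exact hYmem
  · refine ⟨aR J₁ u, B₁ + B₂, Or.inl ⟨u, hu, rfl⟩, hsum,
      hins _ (fun A => by rw [mul_add, add_mul, hc₁, hc₂])
        (fun m hm A => by rw [mul_add, add_mul, hrest u w m hm, hrest w u m hm]), ?_⟩
    rw [← pure_mul_slot (hf l hl), mul_assoc]
    have h1 := hvary (x + u) (by rw [fo_add_left, hxu, hS.alt, add_zero]) (by rw [fo_add_left, hxw, huw, add_zero])
    have := S.sub_mem h1 (hvary x hxu hxw)
    convert this using 1
    rw [← mul_sub]
    congr 1
    simp only [aR, rk_add_left, rk_add_right, slot_add, add_mul, mul_add]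
    abel

/-- A non-scalar element gives a pattern. -/
theorem exists_pattern {D : TMat F k s} (hD : D ∈ S) (hns : ∀ c : F, D ≠ c • 1) :
    ∃ (T : Finset (Fin s)) (f : Fin s → Matrix (Fin k) (Fin k) F), T.Nonempty ∧ (∀ l ∈ T, Pat J₁ (f l)) ∧
      (∀ l, l ∉ T → f l = 1) ∧ pure' f ∈ S := by
  classical
  suffices h : ∀ (n : ℕ) (T : Finset (Fin s)) (f : Fin s → Matrix (Fin k) (Fin k) F) (B : TMat F k s),
      (Finset.univ \ T).card = n → (∀ l ∈ T, Pat J₁ (f l)) → (∀ l, l ∉ T → f l = 1) → (∀ l ∈ T, Cent l B) →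
      B ≠ 0 → (T.Nonempty ∨ ∀ c : F, B ≠ c • 1) → pure' f * B ∈ S →
      ∃ (T : Finset (Fin s)) (f : Fin s → Matrix (Fin k) (Fin k) F), T.Nonempty ∧ (∀ l ∈ T, Pat J₁ (f l)) ∧
        (∀ l, l ∉ T → f l = 1) ∧ pure' f ∈ S by
    exact h _ ∅ (fun _ => 1) D rfl (by simp) (fun _ _ => rfl) (by simp)
      (fun e => hns 0 (by rw [e, zero_smul])) (Or.inr hns) (by rwa [pure'_one, one_mul])
  intro n
  induction n using Nat.strong_induction_on with
  | _ n ih =>
    intro T f B hn hP hf hB hB0 hor hmem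
    have : NeZero k := ⟨by have := hS.four; omega⟩
    by_cases hall : ∀ l, Cent l B
    · obtain ⟨c, hc⟩ := scalar_of_commutes_slots B fun l a => hall l a
      have hT : T.Nonempty := hor.resolve_right fun h => h c hc
      have hc0 : c ≠ 0 := fun e => hB0 (by rw [hc, e, zero_smul])
      refine ⟨T, f, hT, hP, hf, ?_⟩
      have := S.smul_mem hmem c⁻¹
      rwa [hc, Matrix.mul_smul, mul_one, smul_smul, inv_mul_cancel₀ hc0, one_smul] at this
    push Not at hall
    obtain ⟨l, hnc⟩ := hall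
    have hl : l ∉ T := fun hm => hnc (hB l hm)
    obtain ⟨a, B', ha, hB'0, hB', hm'⟩ := hS.step hf hB hl hnc hmem
    refine ih _ ?_ (insert l T) (Function.update f l a) B' rfl (fun m hm => ?_) (fun m hm => ?_) hB' hB'0
      (Or.inl (Finset.insert_nonempty _ _)) hm'
    · rw [← hn]
      refine Finset.card_lt_card ((Finset.ssubset_iff_of_subset (Finset.sdiff_subset_sdiff (le_refl _)
        (Finset.subset_insert _ _))).2 ⟨l, by simp [hl], by simp⟩)
    · rcases eq_or_ne m l with rfl | hml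
      · simpa using ha
      · rw [Function.update_of_ne hml]
        exact hP m ((Finset.mem_insert.1 hm).resolve_left hml)
    · rw [Finset.mem_insert, not_or] at hm
      rw [Function.update_of_ne hm.1]
      exact hf m hm.2

/-- The pattern of rank-one factors. -/
theorem conj_all (T : Finset (Fin s)) (c : Fin s → F) (v : Fin s → Fin k → F) :
    ∀ f : Fin s → Matrix (Fin k) (Fin k) F, pure' f ∈ S →
      pure' (fun l => if l ∈ T then (1 + c l • aR J₁ (v l)) * f l * (1 - c l • aR J₁ (v l)) else f l) ∈ S := by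
  classical
  induction T using Finset.induction_on with
  | empty => intro f hf; simpa using hf
  | insert a T ha ih =>
    intro f hf
    have := hS.conj a (v a) (c a) _ (ih f hf)
    convert this using 1
    rw [← slot_smul, ← slot_one a, ← slot_add, ← slot_minus', slot_eq_pure, slot_eq_pure, pure'_mul, pure'_mul]
    congr 1
    funext l
    rcases eq_or_ne l a with rfl | hl
    · simp [ha]
    · simp [hl]

theorem mem_of_smul {T : Finset (Fin s)} {g a : Fin s → Matrix (Fin k) (Fin k) F} (c : Fin s → F)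
    (hc : ∀ l ∈ T, c l ≠ 0) (hg : ∀ l, g l = if l ∈ T then c l • a l else a l) (h : pure' g ∈ S) : pure' a ∈ S := by
  classical
  have e : g = fun l => (if l ∈ T then c l else 1) • a l := funext fun l => by
    rw [hg]; split_ifs <;> simp
  rw [e, pure'_smul] at h
  set d := ∏ l, (if l ∈ T then c l else 1)
  have hd : d ≠ 0 := Finset.prod_ne_zero_iff.2 fun l _ => by
    split_ifs with hl
    exacts [hc l hl, one_ne_zero]
  have := S.smul_mem h d⁻¹
  rwa [smul_smul, inv_mul_cancel₀ hd, one_smul] at this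

/-- The product of two patterns on the same slots. -/
theorem mem_mul {T : Finset (Fin s)} {f g a : Fin s → Matrix (Fin k) (Fin k) F} (c : Fin s → F)
    (hc : ∀ l ∈ T, c l ≠ 0) (hout : ∀ l, l ∉ T → f l = 1 ∧ g l = 1 ∧ a l = 1)
    (hin : ∀ l ∈ T, f l * g l = c l • a l) (hf : pure' f ∈ S) (hg : pure' g ∈ S) : pure' a ∈ S := by
  have := S.mul_mem hf hg
  rw [pure'_mul] at this
  refine hS.mem_of_smul c hc (fun l => ?_) this
  by_cases hl : l ∈ T
  · rw [if_pos hl]; exact hin l hl
  · obtain ⟨e1, e2, e3⟩ := hout l hl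
    rw [if_neg hl]
    show f l * g l = a l
    rw [e1, e2, e3, mul_one]

theorem adj_pure (f : Fin s → Matrix (Fin k) (Fin k) F) :
    adjJ (JT s J₁) (pure' f) = pure' fun l => adjJ J₁ (f l) := by
  refine adjJ_eq _ ?_
  show (pure' f)ᵀ * pure' (fun _ : Fin s => (J₁ : Matrix (Fin k) (Fin k) F)) =
    pure' (fun _ : Fin s => (J₁ : Matrix (Fin k) (Fin k) F)) * pure' fun l => adjJ J₁ (f l)
  rw [trans_pure, pure'_mul, pure'_mul]
  exact congrArg _ (funext fun l => adjJ_gram J₁ (f l))

/-- All patterns on some slots. -/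
theorem exists_roots {D : TMat F k s} (hD : D ∈ S) (hns : ∀ c : F, D ≠ c • 1) :
    ∃ (T : Finset (Fin s)) (p : Fin s → Fin k → F), T.Nonempty ∧ (∀ l ∈ T, p l ≠ 0) ∧
      pure' (fun l => if l ∈ T then aR J₁ (p l) else 1) ∈ S := by
  classical
  obtain ⟨T, f, hT, hP, hf, hmem⟩ := hS.exists_pattern hD hns
  -- one multiplication
  have hsq : ∀ l, ∃ (v p r : Fin k → F) (c : F), l ∈ T → c ≠ 0 ∧ p ≠ 0 ∧ (p = r ∨ fo J₁ p r = 1) ∧
      f l * ((1 + (-1 : F) • aR J₁ v) * f l * (1 - (-1 : F) • aR J₁ v)) = c • rk J₁ p r := by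
    intro l
    by_cases hl : l ∈ T
    swap
    · exact ⟨0, 0, 0, 0, fun h => absurd h hl⟩
    rcases hP l hl with ⟨u, hu, e⟩ | ⟨u, w, hu, hw, huw, e⟩
    · obtain ⟨x, hx⟩ := exists_partner J₁ hu
      have ex : fo J₁ x u = -1 := by rw [hS.neg_fo, hx]
      have et : tvv J₁ (-1) x u = u + x := by rw [tvv, ex, neg_mul_neg, one_mul, one_smul]
      refine ⟨x, u, u + x, 1, fun _ => ⟨one_ne_zero, hu, Or.inr (by rw [fo_add_right, hS.alt, hx, zero_add]), ?_⟩⟩
      rw [e, show aR J₁ u = rk J₁ u u from rfl, conj_rk hS.skew, et, rk_mul, fo_add_right, hS.alt, hx, zero_add]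
    · have hu' : u ∉ Submodule.span F {w} := fun hm => by
        obtain ⟨a, ha⟩ := Submodule.mem_span_singleton.1 hm
        have ha0 : a ≠ 0 := fun e => hu (by rw [← ha, e, zero_smul])
        exact hw (Submodule.mem_span_singleton.2 ⟨a⁻¹, by rw [← ha, inv_smul_smul₀ ha0]⟩)
      obtain ⟨x, hx, hx'⟩ := exists_dual_one (J₁ := J₁) hu'
      have hxw : fo J₁ x w = 0 := hx' w (Submodule.mem_span_singleton_self _)
      have hw0 : w ≠ 0 := fun e => hw (e ▸ zero_mem _)
      have eu : tvv J₁ (-1) (-x) u = u + -x := by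
        rw [tvv, ← neg_one_smul F x, fo_smul_left, hx]; module
      have ew : tvv J₁ (-1) (-x) w = w := by
        rw [tvv, ← neg_one_smul F x, fo_smul_left, hxw]; simp
      have hwu : fo J₁ w u = 0 := by rw [hS.neg_fo, huw, neg_zero]
      have hwx : fo J₁ w (-x) = 0 := by rw [← neg_one_smul F x, fo_smul_right, hS.neg_fo, hxw]; ring
      have hux : fo J₁ u (-x) = 1 := by rw [← neg_one_smul F x, fo_smul_right, hS.neg_fo, hx]; ring
      refine ⟨-x, w, w, -1, fun _ => ⟨neg_ne_zero.2 one_ne_zero, hw0, Or.inl rfl, ?_⟩⟩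
      have ec : (1 + (-1 : F) • aR J₁ (-x)) * (rk J₁ u w - rk J₁ w u) * (1 - (-1 : F) • aR J₁ (-x)) =
          rk J₁ (u + -x) w - rk J₁ w (u + -x) := by
        rw [mul_sub _ (rk J₁ u w) (rk J₁ w u), sub_mul, conj_rk hS.skew, conj_rk hS.skew, eu, ew]
      rw [e, ec, sub_mul, mul_sub, mul_sub, rk_mul, rk_mul, rk_mul, rk_mul, fo_add_right, fo_add_right, hwu, hwx, hux, hS.alt, hS.alt,
        huw]
      simp
  choose v p r c hpr using hsq
  have h1 := hS.conj_all T (fun _ => -1) v f hmem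
  have hY : pure' (fun l => if l ∈ T then rk J₁ (p l) (r l) else 1) ∈ S := by
    refine hS.mem_mul c (fun l hl => (hpr l hl).1) (fun l hl => ⟨hf l hl, ?_, ?_⟩) (fun l hl => ?_) hmem h1
    · simp only [if_neg hl, hf l hl]
    · simp only [if_neg hl]
    · simp only [if_pos hl]
      exact (hpr l hl).2.2.2
  -- a sandwich
  have hv' : ∀ l, ∃ v' : Fin k → F, l ∈ T →
      fo J₁ (r l) (tvv J₁ 1 v' (p l)) * fo J₁ (tvv J₁ 1 v' (r l)) (r l) ≠ 0 := by
    intro l
    by_cases hl : l ∈ T
    swap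
    · exact ⟨0, fun h => absurd h hl⟩
    obtain ⟨-, hp0, hor, -⟩ := hpr l hl
    have hr0 : r l ≠ 0 := by
      rcases hor with h | h
      · rwa [← h]
      · exact fun e => one_ne_zero (α := F) (by rw [← h, e]; simp [fo])
    obtain ⟨z, hz⟩ := exists_partner J₁ hr0
    have key : ∀ v', fo J₁ (r l) v' = 1 → fo J₁ (r l) (p l) + fo J₁ v' (p l) ≠ 0 →
        fo J₁ (r l) (tvv J₁ 1 v' (p l)) * fo J₁ (tvv J₁ 1 v' (r l)) (r l) ≠ 0 := fun v' h1 h2 => by
      have e1 : fo J₁ (r l) (tvv J₁ 1 v' (p l)) = fo J₁ (r l) (p l) + fo J₁ v' (p l) := by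
        rw [tvv, fo_add_right, fo_smul_right, h1]; ring
      have e2 : fo J₁ (tvv J₁ 1 v' (r l)) (r l) = 1 := by
        rw [tvv, fo_add_left, fo_smul_left, hS.alt, hS.neg_fo v' (r l), h1]; ring
      rw [e1, e2, mul_one]
      exact h2
    by_cases hbad : fo J₁ (r l) (p l) + fo J₁ z (p l) = 0
    · have hpn : p l ∉ Submodule.span F {r l} := fun hm => by
        rcases hor with h | h
        · rw [h, hS.alt, zero_add, hS.neg_fo, hz] at hbad
          exact one_ne_zero (neg_eq_zero.1 hbad)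
        · obtain ⟨a, ha⟩ := Submodule.mem_span_singleton.1 hm
          rw [← ha, fo_smul_left, hS.alt, mul_zero] at h
          exact zero_ne_one h
      obtain ⟨y, hy, hy'⟩ := exists_dual_one (J₁ := J₁) hpn
      have hry : fo J₁ (r l) y = 0 := by
        rw [hS.neg_fo, hy' _ (Submodule.mem_span_singleton_self _), neg_zero]
      exact ⟨z + y, fun _ => key _ (by rw [fo_add_right, hz, hry, add_zero]) (by
        rw [fo_add_left, hy, ← add_assoc, hbad, zero_add]; exact one_ne_zero)⟩
    · exact ⟨z, fun _ => key z hz hbad⟩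
  choose v' hv' using hv'
  refine ⟨T, p, hT, fun l hl => (hpr l hl).2.1, ?_⟩
  have h2 := hS.conj_all T (fun _ => 1) v' _ hY
  have h3 := hS.star _ hY
  rw [hS.adj_pure] at h3
  refine hS.mem_mul (fun l => -(fo J₁ (r l) (tvv J₁ 1 (v' l) (p l)) * fo J₁ (tvv J₁ 1 (v' l) (r l)) (r l)))
    (fun l hl => neg_ne_zero.2 (hv' l hl)) (fun l hl => ⟨?_, ?_, ?_⟩) (fun l hl => ?_)
    (f := fun l => if l ∈ T then
      fo J₁ (r l) (tvv J₁ 1 (v' l) (p l)) • rk J₁ (p l) (tvv J₁ 1 (v' l) (r l)) else 1) ?_ h3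
  · simp only [if_neg hl]
  · simp only [if_neg hl, adjJ_one]
  · simp only [if_neg hl]
  · simp only [if_pos hl]
    rw [adj_rk J₁ hS.skew, mul_neg, Matrix.smul_mul, rk_mul, smul_smul, aR, neg_smul]
  · have := S.mul_mem hY h2
    rw [pure'_mul] at this
    convert this using 2
    funext l
    by_cases hl : l ∈ T
    · simp only [if_pos hl]
      rw [conj_rk hS.skew, rk_mul]
    · simp only [if_neg hl, mul_one]

/-- All matrices of one slot. -/
theorem exists_slot {D : TMat F k s} (hD : D ∈ S) (hns : ∀ c : F, D ≠ c • 1) :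
    ∃ l, ∀ A, slot l A ∈ S := by
  classical
  have : NeZero k := ⟨by have := hS.four; omega⟩
  obtain ⟨T, p, hT, hp, hmem⟩ := hS.exists_roots hD hns
  -- every vector
  have hop : ∀ q : Fin s → Fin k → F, (∀ l ∈ T, q l ≠ 0) →
      pure' (fun l => if l ∈ T then aR J₁ (q l) else 1) ∈ S → ∀ q' : Fin s → Fin k → F,
      (∀ l ∈ T, fo J₁ (q' l) (q l) ≠ 0) → pure' (fun l => if l ∈ T then aR J₁ (q' l) else 1) ∈ S := by
    intro q _ hq q' hne
    have := hS.conj_all T (fun l => (fo J₁ (q' l) (q l))⁻¹) (fun l => q' l - q l) _ hq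
    convert this using 2
    funext l
    by_cases hl : l ∈ T
    · simp only [if_pos hl]
      rw [show aR J₁ (q l) = rk J₁ (q l) (q l) from rfl, conj_rk hS.skew]
      have e : tvv J₁ (fo J₁ (q' l) (q l))⁻¹ (q' l - q l) (q l) = q' l := by
        have : fo J₁ (q' l - q l) (q l) = fo J₁ (q' l) (q l) := by
          rw [sub_eq_add_neg, fo_add_left, ← neg_one_smul F (q l), fo_smul_left, hS.alt, mul_zero, add_zero]
        rw [tvv, this, inv_mul_cancel₀ (hne l hl), one_smul, add_sub_cancel]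
      rw [e]
      rfl
    · simp only [if_neg hl]
  have hany : ∀ q : Fin s → Fin k → F, (∀ l ∈ T, q l ≠ 0) →
      pure' (fun l => if l ∈ T then aR J₁ (q l) else 1) ∈ S := by
    intro q hq
    have hz : ∀ l, ∃ z, l ∈ T → fo J₁ z (p l) ≠ 0 ∧ fo J₁ (q l) z ≠ 0 := fun l => by
      by_cases hl : l ∈ T
      · obtain ⟨z, h1, h2⟩ := exists_nonorth (J₁ := J₁) hS.neg_fo (hp l hl) (hq l hl)
        exact ⟨z, fun _ => ⟨by rw [hS.neg_fo]; exact neg_ne_zero.2 h1, h2⟩⟩
      · exact ⟨0, fun h => absurd h hl⟩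
    choose z hz using hz
    exact hop z (fun l hl e => (hz l hl).2 (by rw [e]; simp [fo]))
      (hop p hp hmem z fun l hl => (hz l hl).1) q fun l hl => (hz l hl).2
  -- every pair
  have hrk : ∀ a b : Fin s → Fin k → F,
      pure' (fun l => if l ∈ T then rk J₁ (a l) (b l) else 1) ∈ S := by
    intro a b
    by_cases hz0 : ∃ l ∈ T, a l = 0 ∨ b l = 0
    · obtain ⟨l, hl, h0⟩ := hz0
      convert S.zero_mem
      ext x y
      rw [pure', Matrix.of_apply, Finset.prod_eq_zero (Finset.mem_univ l) (by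
        rw [if_pos hl]
        rcases h0 with h | h <;> simp [h, rk, fw])]
      rfl
    push Not at hz0
    have hz : ∀ l, ∃ z, l ∈ T → fo J₁ (a l) z ≠ 0 ∧ fo J₁ z (b l) ≠ 0 := fun l => by
      by_cases hl : l ∈ T
      · obtain ⟨z, h1, h2⟩ := exists_nonorth (J₁ := J₁) hS.neg_fo (hz0 l hl).1 (hz0 l hl).2
        exact ⟨z, fun _ => ⟨h1, by rw [hS.neg_fo]; exact neg_ne_zero.2 h2⟩⟩
      · exact ⟨0, fun h => absurd h hl⟩
    choose z hz using hz
    have hza := S.mul_mem (hany a fun l hl => (hz0 l hl).1) (hany z fun l hl e => (hz l hl).1 (by rw [e]; simp [fo]))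
    rw [pure'_mul] at hza
    refine hS.mem_mul (fun l => fo J₁ (a l) (z l) * fo J₁ (z l) (b l))
      (fun l hl => mul_ne_zero (hz l hl).1 (hz l hl).2) (fun l hl => ⟨?_, ?_, ?_⟩) (fun l hl => ?_) hza
      (hany b fun l hl => (hz0 l hl).2)
    · simp only [if_neg hl, mul_one]
    · simp only [if_neg hl]
    · simp only [if_neg hl]
    · simp only [if_pos hl, aR]
      rw [rk_mul, Matrix.smul_mul, rk_mul, smul_smul]
  -- linearity
  have hlin : ∀ T' : Finset (Fin s), T' ⊆ T → ∀ f : Fin s → Matrix (Fin k) (Fin k) F, (∀ l, l ∉ T → f l = 1) →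
      (∀ l ∈ T, l ∉ T' → ∃ a b, f l = rk J₁ a b) → pure' f ∈ S := by
    intro T'
    induction T' using Finset.induction_on with
    | empty =>
      intro _ f hf hr
      have hr' : ∀ l, ∃ a b : Fin k → F, l ∈ T → f l = rk J₁ a b := fun l => by
        by_cases hl : l ∈ T
        · obtain ⟨a, b, e⟩ := hr l hl (by simp)
          exact ⟨a, b, fun _ => e⟩
        · exact ⟨0, 0, fun h => absurd h hl⟩
      choose a b hab using hr'
      convert hrk a b using 2
      funext l
      by_cases hl : l ∈ T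
      · simp only [if_pos hl, hab l hl]
      · simp only [if_neg hl, hf l hl]
    | insert m T' hm ih =>
      intro hsub f hf hr
      have hmT : m ∈ T := hsub (Finset.mem_insert_self _ _)
      set g := Function.update f m 1 with hg
      have hpure : ∀ A, pure' g * slot m A = pure' (Function.update f m A) := fun A => by
        rw [pure_mul_slot (by simp [hg]), hg, Function.update_idem]
      have hA : ∀ A, pure' g * slot m A ∈ S := fun A => by
        induction A using Matrix.induction_on' with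
        | h_zero => rw [slot_zero, mul_zero]; exact S.zero_mem
        | h_add P Q hP hQ => rw [slot_add, mul_add]; exact S.add_mem hP hQ
        | h_std_basis a b x =>
          obtain ⟨v, hv⟩ := exists_fw J₁ (Pi.single b (1 : F))
          rw [show Matrix.single a b x = x • rk J₁ (Pi.single a 1) v by
            rw [rk, hv, ← Matrix.single_eq_single_vecMulVec_single, Matrix.smul_single, smul_eq_mul, mul_one],
            slot_smul, Matrix.mul_smul, hpure]
          refine S.smul_mem (ih (fun l hl => hsub (Finset.mem_insert_of_mem hl)) _ (fun l hl => ?_)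
            fun l hl hl' => ?_) x
          · rw [Function.update_of_ne (fun e => hl (by rw [e]; exact hmT)), hf l hl]
          · rcases eq_or_ne l m with rfl | hlm
            · exact ⟨_, _, Function.update_self _ _ _⟩
            · rw [Function.update_of_ne hlm]
              exact hr l hl (by simp [hlm, hl'])
      have := hA (f m)
      rwa [hpure, Function.update_eq_self] at this
  obtain ⟨l, hl⟩ := hT
  refine ⟨l, fun A => ?_⟩
  rw [slot_eq_pure]
  refine hlin T (Finset.Subset.refl _) _ (fun m hm => Function.update_of_ne (fun e => hm (by rw [e]; exact hl)) _ _)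
    fun m hm hm' => absurd hm hm'

/-- An invariant algebra with a non-scalar element is everything. -/
theorem eq_top {D : TMat F k s} (hD : D ∈ S) (hns : ∀ c : F, D ≠ c • 1) : S = ⊤ := by
  classical
  obtain ⟨l, hl⟩ := hS.exists_slot hD hns
  have hall : ∀ m A, slot m A ∈ S := fun m A => by
    have := hS.swap l m _ (hl A)
    rwa [permGL_conj_slot, Equiv.swap_apply_left] at this
  refine Subalgebra.ext fun X => iff_of_true ?_ Algebra.mem_top
  induction X using Matrix.induction_on' with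
  | h_zero => exact S.zero_mem
  | h_add P Q hP hQ => exact S.add_mem hP hQ
  | h_std_basis a b x =>
    have hp : ∀ T : Finset (Fin s), pure' (fun m => if m ∈ T then Matrix.single (a m) (b m) (1 : F) else 1) ∈ S := by
      intro T
      induction T using Finset.induction_on with
      | empty => simp only [Finset.notMem_empty, if_false, pure'_one]; exact S.one_mem
      | insert m T hm ih =>
        have := S.mul_mem (hall m (Matrix.single (a m) (b m) (1 : F))) ih
        rw [slot_mul_pure (by simp [hm])] at this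
        convert this using 2
        funext n
        rcases eq_or_ne n m with rfl | hn
        · simp
        · simp [hn]
    have := S.smul_mem (hp Finset.univ) x
    convert this using 1
    ext i j
    simp only [Matrix.smul_apply, pure', Matrix.of_apply, Finset.mem_univ, if_true, Matrix.single_apply, smul_eq_mul]
    by_cases hij : a = i ∧ b = j
    · obtain ⟨rfl, rfl⟩ := hij
      simp
    · rw [if_neg hij]
      obtain ⟨n, hn⟩ : ∃ n, ¬ (a n = i n ∧ b n = j n) := by
        by_contra hcon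
        push Not at hcon
        exact hij ⟨funext fun n => (hcon n).1, funext fun n => (hcon n).2⟩
      rw [Finset.prod_eq_zero (Finset.mem_univ n) (by rw [if_neg hn]), mul_zero]

end InvAlg

end CfsgLib.TensorWreathO
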