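import Cfsg.Agent.Lib.TensorWreathO.Class
import Cfsg.Agent.Lib.TensorWreathSU.Two

/-!
Characteristic two: centralisers of involutions of one slot, and of such an involution times a root of another slot,
lie in the tensor wreath group.
-/

set_option autoImplicit false
set_option linter.unusedSectionVars false
set_option linter.unusedVariables false

namespace CfsgLib.TensorWreathO

open CfsgLib.Aschbacher CfsgLib.AschbacherForm CfsgLib.TensorWreath CfsgLib.TensorWreathSL
open CfsgLib.TensorWreathSU (un un_val un_conj oneAdd_slot factor_eq std_slot_conj slot_mul_pureGL slotGL_comm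
  closure_pair_commute)
open scoped Matrix MatrixGroups

variable {F : Type*} [Field F] [Fintype F] {k s : ℕ} [NeZero k] {J₁ : GL (Fin k) F}
variable {M : Subgroup (GL (Fin (s + 1) → Fin k) F)}

theorem IsRt.oneAdd_mem (hL : ELev J₁ M) {i : Fin (s + 1)} {X : TMat F k (s + 1)} (h : IsRt J₁ i X) :
    oneAdd X (h.sq hL.fr) ∈ M := by
  obtain ⟨x, hx, e⟩ := h.inM hL.sl
  rwa [show oneAdd X (h.sq hL.fr) = x from Units.ext e.symm]

theorem ELev.conj_mem (hL : ELev J₁ M) {i : Fin (s + 1)} {X : TMat F k (s + 1)} (h : IsRt J₁ i X)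
    {g : GL (Fin (s + 1) → Fin k) F} (hg : g ∈ M) : oneAdd (cj g X) (cj_sq g (h.sq hL.fr)) ∈ M := by
  rw [← oneAdd_conj g (h.sq hL.fr)]
  exact mul_mem (mul_mem hg (h.oneAdd_mem hL)) (inv_mem hg)

theorem IsRt.exists_un (hF : Frame J₁ s) {i : Fin (s + 1)} {X : TMat F k (s + 1)} (h : IsRt J₁ i X) :
    ∃ (N : Matrix (Fin k) (Fin k) F) (hN : N * N = 0), N ≠ 0 ∧ X = slot i N ∧
      oneAdd X (h.sq hF) = slotGL i (un N hN) := by
  have h' := h
  obtain ⟨y, c, hy, hc, rfl⟩ := h'
  have hN : (c • aR J₁ y) * (c • aR J₁ y) = 0 := by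
    rw [Matrix.smul_mul, Matrix.mul_smul, hF.aR_sq, smul_zero, smul_zero]
  refine ⟨_, hN, smul_ne_zero hc (rk_ne_zero J₁ hy hy), (slot_smul i c _).symm, Units.ext ?_⟩
  show (1 : TMat F k (s + 1)) + c • slot i (aR J₁ y) = slot i (1 + c • aR J₁ y)
  rw [slot_add, slot_one, slot_smul]

/-- A square-zero element of one slot giving an isometry is skew. -/
theorem Slots.skew_slot (hM : Slots J₁ M) {i : Fin (s + 1)} {N : Matrix (Fin k) (Fin k) F} (hsq : N * N = 0)
    (h : InM M (1 + slot i N)) : adjJ J₁ N = -N := by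
  have e := hM.skew h (by rw [← slot_mul, hsq, slot_zero])
  rw [adj_slot, ← slot_neg] at e
  exact slot_injective i e

/-- A `p`-subgroup containing a root lies in the tensor wreath group. -/
theorem ELev.local_le (hL : ELev J₁ M) {p : ℕ} [Fact p.Prime] {P : Subgroup (GL (Fin (s + 1) → Fin k) F)}
    (hP : IsPGroup p P) (hPM : P ≤ M) {i : Fin (s + 1)} {N : TMat F k (s + 1)} (hN : IsRt J₁ i N)
    (hmem : oneAdd N (hN.sq hL.fr) ∈ P) : P ≤ Std F k (s + 1) := by
  set H := Std F k (s + 1)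
  have h0 : oneAdd N (hN.sq hL.fr) ∈ H := by
    obtain ⟨A, hA, -, -, e⟩ := hN.exists_un hL.fr
    rw [e]; exact slotGL_mem _ _
  have : Finite P := inferInstance
  have := hP.isNilpotent
  have hnc : NormalizerCondition P := Group.normalizerCondition_of_isNilpotent
  have htop : H.subgroupOf P = ⊤ := by
    by_contra hne
    obtain ⟨x, hxn, hx⟩ := SetLike.exists_of_lt (hnc _ (lt_top_iff_ne_top.2 hne))
    refine hx (Subgroup.mem_subgroupOf.2 (hL.std_of_conj (hPM x.2) hN ?_))
    have := (Subgroup.mem_normalizer_iff.1 hxn ⟨oneAdd N (hN.sq hL.fr), hmem⟩).1 (Subgroup.mem_subgroupOf.2 h0)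
    rw [Subgroup.mem_subgroupOf] at this
    rw [← oneAdd_conj x.1 (hN.sq hL.fr)]
    exact this
  intro x hx
  exact Subgroup.mem_subgroupOf.1 (show (⟨x, hx⟩ : P) ∈ H.subgroupOf P by rw [htop]; trivial)

/-- The centraliser of a skew square-zero element of one slot lies in the tensor wreath group. -/
theorem ELev.cent_slot (hL : ELev J₁ M) (i : Fin (s + 1)) {N : Matrix (Fin k) (Fin k) F} (hsq : N * N = 0)
    (hne : N ≠ 0) (had : adjJ J₁ N = -N) {g : GL (Fin (s + 1) → Fin k) F} (hg : g ∈ M)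
    (h : cj g (slot i N) = slot i N) : g ∈ Std F k (s + 1) := by
  obtain ⟨z, hz⟩ : ∃ z, N *ᵥ z ≠ 0 := by
    by_contra hcon
    push Not at hcon
    exact hne (Matrix.ext_of_mulVec_single fun a => by rw [hcon, Matrix.zero_mulVec])
  have hrow : fw J₁ z ᵥ* N = -fw J₁ (N *ᵥ z) := by
    have e := adjJ_gram J₁ N
    rw [had, Matrix.mul_neg] at e
    rw [fw, fw, Matrix.vecMul_vecMul, ← Matrix.vecMul_transpose N z, Matrix.vecMul_vecMul, e, Matrix.vecMul_neg,
      neg_neg]
  have hNN : N * aR J₁ z * N = -aR J₁ (N *ᵥ z) := by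
    rw [aR, rk, Matrix.mul_vecMulVec, Matrix.vecMulVec_mul, hrow, Matrix.vecMulVec_neg]
    rfl
  refine hL.std_of_root hg (IsRt.mk' (i := i) hz) (hL.root_of_perp hg (IsRt.mk' (i := i) hz) (i := i) hz ?_)
  have e : slot i (aR J₁ (N *ᵥ z)) = -(slot i N * slot i (aR J₁ z) * slot i N) := by
    rw [← slot_mul, ← slot_mul, hNN, slot_neg, neg_neg]
  rw [e, map_neg, map_mul, map_mul, h, neg_mul_neg, mul_assoc, ← mul_assoc (slot i N) (slot i N * _),
    ← mul_assoc (slot i N) (slot i N), ← slot_mul i N N, hsq, slot_zero]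
  simp

/-- The centraliser of an involution of one slot lies in the tensor wreath group. -/
theorem ELev.cent_slotGL (hL : ELev J₁ M) {j : Fin (s + 1)} {Z : GL (Fin k) F} (hZM : slotGL j Z ∈ M)
    (hZ2 : Z * Z = 1) (hZ1 : Z ≠ 1) {v : GL (Fin (s + 1) → Fin k) F} (hv : v ∈ M)
    (hc : Commute v (slotGL j Z)) : v ∈ Std F k (s + 1) := by
  set N : Matrix (Fin k) (Fin k) F := Z.1 - 1 with hN
  have hsq : N * N = 0 := by
    have hZZ : Z.1 * Z.1 = 1 := congrArg Units.val hZ2
    rw [hN, sub_mul, mul_sub, hZZ, mul_one, one_mul, show (1 : Matrix (Fin k) (Fin k) F) - Z.1 - (Z.1 - 1) =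
      (2 : F) • (1 - Z.1) by rw [two_smul]; abel, hL.h2, zero_smul]
  have hval : (slotGL j Z : GL (Fin (s + 1) → Fin k) F).1 = 1 + slot j N := by
    rw [slotGL_val, ← slot_one j, ← slot_add, hN, add_sub_cancel]
  refine hL.cent_slot j hsq (fun e => hZ1 (Units.ext (sub_eq_zero.1 e)))
    (hL.sl.skew_slot hsq ⟨_, hZM, hval⟩) hv ((cj_eq_self_iff _ _).2 ?_)
  have := congrArg Units.val hc.eq
  rw [Units.val_mul, Units.val_mul, hval, mul_add, add_mul, mul_one, one_mul] at this
  exact add_left_cancel this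

/-- The dichotomy for a root and a conjugate of a root outside the tensor wreath group. -/
theorem ELev.alt (hL : ELev J₁ M) {i ia : Fin (s + 1)} {X a : TMat F k (s + 1)} (hX : IsRt J₁ i X)
    (ha : IsRt J₁ ia a) {g : GL (Fin (s + 1) → Fin k) F} (hg : g ∈ M) (hgs : g ∉ Std F k (s + 1)) :
    ∃ v ∈ Subgroup.closure ({oneAdd X (hX.sq hL.fr), oneAdd (cj g a) (cj_sq g (ha.sq hL.fr))} :
        Set (GL (Fin (s + 1) → Fin k) F)),
      cj (v * g) a = X ∨ ∃ j, j ≠ i ∧ v * g ∈ Std F k (s + 1) ∧ ∃ hR : IsRt J₁ j (cj (v * g) a),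
        Commute v (oneAdd X (hX.sq hL.fr) * oneAdd (cj (v * g) a) (hR.sq hL.fr)) := by
  set x := oneAdd X (hX.sq hL.fr) with hx
  set y := oneAdd (cj g a) (cj_sq g (ha.sq hL.fr)) with hy
  have hxM : x ∈ M := hX.oneAdd_mem hL
  have hyM : y ∈ M := hL.conj_mem ha hg
  have hcl : Subgroup.closure ({x, y} : Set (GL (Fin (s + 1) → Fin k) F)) ≤ M :=
    (Subgroup.closure_le _).2 (Set.pair_subset_iff.2 ⟨hxM, hyM⟩)
  have hr : ∀ v, v * y * v⁻¹ = oneAdd (cj (v * g) a) (cj_sq _ (ha.sq hL.fr)) := fun v => Units.ext (by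
    rw [hy, oneAdd_conj]
    show 1 + cj v (cj g a) = 1 + cj (v * g) a
    rw [cj_cj])
  rcases dihedral_alt (oneAdd_sq_one hL.h2 (hX.sq hL.fr)) (oneAdd_sq_one hL.h2 (cj_sq g (ha.sq hL.fr))) with
    ⟨v, hv, e⟩ | ⟨v, hv, hP, n, hz1, hz2, hzv, hn⟩
  · exact ⟨v, hv, Or.inl (oneAdd_inj ((hr v).symm.trans e))⟩
  have hvM : v ∈ M := hcl hv
  have : Fact (Nat.Prime 2) := ⟨Nat.prime_two⟩
  have hyv : v * y * v⁻¹ ∈ M := mul_mem (mul_mem hvM hyM) (inv_mem hvM)
  have hPM : Subgroup.closure ({x, v * y * v⁻¹} : Set (GL (Fin (s + 1) → Fin k) F)) ≤ M :=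
    (Subgroup.closure_le _).2 (Set.pair_subset_iff.2 ⟨hxM, hyv⟩)
  have hPs := hL.local_le hP hPM hX (Subgroup.subset_closure (Set.mem_insert _ _))
  have hrs : oneAdd (cj (v * g) a) (cj_sq _ (ha.sq hL.fr)) ∈ Std F k (s + 1) := by
    rw [← hr]; exact hPs (Subgroup.subset_closure (Set.mem_insert_of_mem _ rfl))
  obtain ⟨j, hj⟩ := hL.root_in_std (mul_mem hvM hg) ha hrs
  have hvg := hL.std_of_root (mul_mem hvM hg) ha hj
  have hji : j ≠ i := fun hji => hgs (by
    subst hji
    obtain ⟨Nx, hNx, -, -, eAx⟩ := hX.exists_un hL.fr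
    obtain ⟨Nr, hNr, -, -, eAr⟩ := hj.exists_un hL.fr
    set Z := (un Nr hNr * un Nx hNx) ^ n with hZ
    have hz : (v * y * v⁻¹ * x) ^ n = slotGL j Z := by
      rw [hr, hx, eAx, hZ, map_pow, map_mul, ← eAr]
    have hzM : slotGL j Z ∈ M := hz ▸ pow_mem (mul_mem hyv hxM) n
    rw [hz] at hz1 hz2 hzv
    have hvs : v ∈ Std F k (s + 1) := hL.cent_slotGL hzM
      (Units.ext (slot_injective j (by
        have := congrArg Units.val hz2
        rwa [Units.val_mul, slotGL_val, ← slot_mul, Units.val_one, ← slot_one (F := F) (d := k) j] at this)))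
      (fun e => hz1 (by rw [e, map_one])) hvM hzv.symm
    rw [show g = v⁻¹ * (v * g) by group]
    exact mul_mem (inv_mem hvs) hvg)
  refine ⟨v, hv, Or.inr ⟨j, hji, hvg, hj, ?_⟩⟩
  have hcomm : Commute (oneAdd (cj (v * g) a) (hj.sq hL.fr)) x := Units.ext (by
    show (1 + cj (v * g) a) * (1 + X) = (1 + X) * (1 + cj (v * g) a)
    simp only [mul_add, add_mul, one_mul, mul_one, (hj.isRoot hL.fr).commute_ne hji (hX.isRoot hL.fr)]
    abel)
  have h1 := hn (by rw [hr]; exact hcomm)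
  rw [h1, pow_one, hr] at hzv
  rw [← hcomm.eq]
  exact hzv.symm

/-- A second root of a slot annihilating a given one. -/
theorem ELev.exists_second (hL : ELev J₁ M) {j : Fin (s + 1)} {b : TMat F k (s + 1)} (hb : IsRt J₁ j b) :
    ∃ X, IsRt J₁ j X ∧ X ≠ b ∧ X * b = 0 ∧ b * X = 0 := by
  obtain ⟨y, c, hy, hc, rfl⟩ := hb
  obtain ⟨r, h1, -, h3⟩ := BData.exists_perp_two (h := sd hL.fr 0)
    (by simpa using (by have := hL.h6; omega : 5 ≤ k)) y y
  have hyr : fo J₁ y r = 0 := (BF_fo y r).symm.trans h1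
  have hry : fo J₁ r y = 0 := by rw [hL.fr.fo_neg, hyr, neg_zero]
  have hr : r ≠ 0 := fun e => h3 (e ▸ zero_mem _)
  refine ⟨_, IsRt.mk' hr, fun e => h3 ?_, ?_, ?_⟩
  · rw [← slot_smul] at e
    obtain ⟨z, hz⟩ := exists_partner J₁ hr
    have h4 := congrArg (fun A => A *ᵥ z) (slot_injective j e)
    simp only [aR, Matrix.smul_mulVec, rk_mulVec, hz, one_smul, smul_smul] at h4
    exact Submodule.mem_span_pair.2 ⟨c * fo J₁ y z, 0, by rw [zero_smul, add_zero, h4]⟩
  · rw [Matrix.mul_smul, ← slot_mul, aR, aR, rk_mul, hry, zero_smul, slot_zero, smul_zero]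
  · rw [Matrix.smul_mul, ← slot_mul, aR, aR, rk_mul, hyr, zero_smul, slot_zero, smul_zero]

/-- The centraliser of an involution of one slot times a root of another lies in the tensor wreath group. -/
theorem ELev.cent_two (hL : ELev J₁ M) {i j : Fin (s + 1)} (hij : i ≠ j) {N : Matrix (Fin k) (Fin k) F}
    (hsq : N * N = 0) {b : TMat F k (s + 1)} (hb : IsRt J₁ j b) {g : GL (Fin (s + 1) → Fin k) F} (hg : g ∈ M)
    (h : Commute g (slotGL i (un N hsq) * oneAdd b (hb.sq hL.fr))) : g ∈ Std F k (s + 1) := by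
  by_contra hgs
  obtain ⟨X, hX, hXb, hXb1, hXb2⟩ := hL.exists_second hb
  obtain ⟨Nb, hNb, hNb0, eb, eB⟩ := hb.exists_un hL.fr
  obtain ⟨Nx, hNx, hNx0, ex, eX⟩ := hX.exists_un hL.fr
  set zN := slotGL i (un N hsq)
  set z := zN * oneAdd b (hb.sq hL.fr) with hzd
  have hcb : Commute (oneAdd b (hb.sq hL.fr)) z := (eB ▸ (slotGL_comm hij.symm _ _) :
    Commute (oneAdd b (hb.sq hL.fr)) zN).mul_right (Commute.refl _)
  have hcx : Commute (oneAdd X (hX.sq hL.fr)) z := (eX ▸ (slotGL_comm hij.symm _ _) :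
    Commute (oneAdd X (hX.sq hL.fr)) zN).mul_right (Units.ext (by
      show (1 + X) * (1 + b) = (1 + b) * (1 + X)
      simp only [mul_add, add_mul, one_mul, mul_one, hXb1, hXb2]; abel))
  have hcy : Commute (oneAdd (cj g b) (cj_sq g (hb.sq hL.fr))) z := by
    rw [← oneAdd_conj g (hb.sq hL.fr)]
    exact (h.mul_left hcb).mul_left h.inv_left
  obtain ⟨v, hv, hcase⟩ := hL.alt hX hb hg hgs
  have hvM : v ∈ M := (Subgroup.closure_le _).2 (Set.pair_subset_iff.2
    ⟨hX.oneAdd_mem hL, hL.conj_mem hb hg⟩) hv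
  have hvgz : Commute (v * g) z := (closure_pair_commute hcx hcy hv).mul_left h
  -- the image of the root
  have himg : ∀ (hs : v * g ∈ Std F k (s + 1)) {l} (hl : IsRt J₁ l (cj (v * g) b)),
      cj (v * g) b = b ∨ (l = i ∧ cj (v * g) b = slot i N) := by
    intro hs l hl
    obtain ⟨π, T, hπ, hT⟩ := std_slot_conj hs
    obtain ⟨hA', eA'⟩ := un_conj hsq (T i)
    obtain ⟨hB', eB'⟩ := un_conj hNb (T j)
    have hz : slotGL i (un N hsq) * slotGL j (un Nb hNb) =
        slotGL (π i) (un (cj (T i) N) hA') * slotGL (π j) (un (cj (T j) Nb) hB') := by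
      rw [← eA', ← eB', ← hT, ← hT, ← eB]
      show z = _
      calc z = (v * g) * z * (v * g)⁻¹ := by rw [hvgz.eq, mul_inv_cancel_right]
        _ = _ := by rw [hzd, eB]; simp only [zN]; group
    have hR : cj (v * g) b = slot (π j) (cj (T j) Nb) := by
      have h' := hT j (un Nb hNb)
      rw [eB', ← oneAdd_slot j Nb hNb (by rw [← slot_mul, hNb, slot_zero]),
        ← oneAdd_slot (π j) _ hB' (by rw [← slot_mul, hB', slot_zero]), oneAdd_conj] at h'
      rw [eb]
      exact oneAdd_inj h'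
    have hlπ : l = π j := (hl.isRoot hL.fr).slot_eq _ hR
    subst hlπ
    have hne' : cj (T j) Nb ≠ 0 := fun e => hNb0 ((cj (T j)).injective (e.trans (map_zero _).symm))
    set f := Function.update (Function.update (fun _ => (1 : GL (Fin k) F)) j (un Nb hNb)) i (un N hsq) with hfd
    set f' := Function.update (Function.update (fun _ => (1 : GL (Fin k) F)) (π j) (un (cj (T j) Nb) hB')) (π i)
      (un (cj (T i) N) hA') with hfd'
    have hff : pureGL f' = pureGL f := by
      rw [hfd, hfd', ← slot_mul_pureGL i _ _ (by simp [hij]), ← slot_mul_pureGL (π i) _ _ (by simp [hij]),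
        ← slotGL_eq_pureGL, ← slotGL_eq_pureGL]
      exact hz.symm
    have hf' : (f' (π j)).1 = 1 + cj (T j) Nb := by
      rw [hfd']; simp [hij.symm, un_val]
    by_cases h1 : π j = j
    · left
      have e := factor_eq hff (π j) hB' hNb hf' (by rw [hfd, h1]; simp [hij.symm, un_val])
      rw [hR, e, h1, eb]
    by_cases h2' : π j = i
    · right
      have e := factor_eq hff (π j) hB' hsq hf' (by rw [hfd, h2']; simp [un_val])
      exact ⟨h2', by rw [hR, e, h2']⟩
    exact absurd (factor_eq hff (π j) hB' (A := 0) (by simp) hf' (by rw [hfd]; simp [h1, h2'])) hne'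
  rcases hcase with e | ⟨l, hl, hs, hR, hcomm⟩
  · have hs : v * g ∈ Std F k (s + 1) := hL.std_of_root (mul_mem hvM hg) hb (e ▸ hX : IsRt J₁ j (cj (v * g) b))
    rcases himg hs (e ▸ hX : IsRt J₁ j (cj (v * g) b)) with e' | ⟨e', -⟩
    · exact hXb (e.symm.trans e')
    · exact hij e'.symm
  · rcases himg hs hR with e' | ⟨e1, e'⟩
    · exact hl (((e' ▸ hR : IsRt J₁ l b).isRoot hL.fr).slot_eq _ eb)
    · -- the element commutes with a single-slot involution
      have hRz : oneAdd (cj (v * g) b) (hR.sq hL.fr) = zN := Units.ext (by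
        show 1 + cj (v * g) b = slot i (1 + N)
        rw [e', slot_add, slot_one])
      rw [hRz] at hcomm
      have hzN2 : zN * zN = 1 := hRz ▸ oneAdd_sq_one hL.h2 (hR.sq hL.fr)
      have hXB : Commute v (slotGL j (un Nx hNx * un Nb hNb)) := by
        have h3 := hcomm.mul_right (closure_pair_commute hcx hcy hv)
        rwa [hzd, mul_assoc, ← mul_assoc zN, hzN2, one_mul, eX, eB, ← map_mul] at h3
      have hprod : Nx * Nb = 0 ∧ Nb * Nx = 0 := by
        rw [ex, eb, ← slot_mul, ← slot_zero (F := F) (d := k) j] at hXb1 hXb2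
        exact ⟨slot_injective j hXb1, slot_injective j hXb2⟩
      have hskx : adjJ J₁ Nx = -Nx := hL.sl.skew_slot hNx (by rw [← ex]; exact hX.inM hL.sl)
      have hskb : adjJ J₁ Nb = -Nb := hL.sl.skew_slot hNb (by rw [← eb]; exact hb.inM hL.sl)
      have hsing := hL.cent_slot j (N := Nx + Nb)
        (by rw [add_mul, mul_add, mul_add, hNx, hNb, hprod.1, hprod.2]; simp)
        (fun e => hXb (by
          rw [ex, eb]
          congr 1
          rw [eq_neg_of_add_eq_zero_left e, ← neg_one_smul F Nb, show (-1 : F) = 1 by linear_combination -hL.h2,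
            one_smul]))
        (by rw [adjJ_add, hskx, hskb, neg_add]) hvM ((cj_eq_self_iff _ _).2 (by
          have h4 := congrArg Units.val hXB.eq
          rw [Units.val_mul, Units.val_mul, slotGL_val, Units.val_mul, un_val, un_val,
            show (1 + Nx) * (1 + Nb) = 1 + (Nx + Nb) by rw [add_mul, one_mul, mul_add, mul_one, hprod.1]; abel,
            slot_add, slot_one, mul_add, add_mul, mul_one, one_mul] at h4
          exact add_left_cancel h4))
      exact hgs (by rw [show g = v⁻¹ * (v * g) by group]; exact mul_mem (inv_mem hsing) hs)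

end CfsgLib.TensorWreathO
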