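import Cfsg.Agent.Lib.TensorWreathO.Slot
import Cfsg.Agent.Lib.TensorWreathSL.Two
import Cfsg.Agent.Lib.TensorWreath.Root

/-!
Characteristic two, at least six dimensions in a slot, no twisted roots: an element mapping one root of a slot to a
root lies in the tensor wreath group.
-/

set_option autoImplicit false
set_option linter.unusedSectionVars false
set_option linter.unusedVariables false

namespace CfsgLib.TensorWreathO

open CfsgLib.Aschbacher CfsgLib.AschbacherForm CfsgLib.TensorWreath CfsgLib.TensorWreathSL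
open scoped Matrix MatrixGroups

variable {F : Type*} [Field F] [Finite F] {k s : ℕ} [NeZero k] {J₁ : GL (Fin k) F}

/-- An involution of small displacement in the tensor wreath group moves no slot. -/
theorem perm_one (h6 : 6 ≤ k) (h2 : (2 : F) = 0) {u : GL (Fin (s + 1) → Fin k) F} {π : Equiv.Perm (Fin (s + 1))}
    {A : Fin (s + 1) → GL (Fin k) F} (he : u = permGL π * pureGL A) (hπ : Rep u π) (hu : u * u = 1)
    (hrk : (u.1 - 1).rank ≤ 2 * k ^ s) : π = 1 := by
  classical
  have := Fintype.ofFinite F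
  have hπp : π * π = 1 := (hπ.mul hπ).unique (by omega) (hu ▸ rep_one)
  by_contra hne
  obtain ⟨a, ha⟩ : ∃ a, π a ≠ a := by
    by_contra h
    push Not at h
    exact hne (Equiv.ext h)
  set b := π a
  have hb : π b = a := congrArg (fun σ : Equiv.Perm (Fin (s + 1)) => σ a) hπp
  set T : Fin (s + 1) → GL (Fin k) F := Function.update (fun _ => 1) a (A a) with hT
  set D : GL (Fin (s + 1) → Fin k) F := pureGL T
  set A' : Fin (s + 1) → GL (Fin k) F := fun l => T (π l) * A l * (T l)⁻¹ with hA'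
  have he' : D * u * D⁻¹ = permGL π * pureGL A' := by
    rw [he, ← mul_assoc, AschbacherOrth.pureGL_permGL, pureGL_inv, mul_assoc, mul_assoc, ← AschbacherForm.pureGL_mul,
      ← AschbacherForm.pureGL_mul]
    simp only [hA', mul_assoc]
  have hsq' : (D * u * D⁻¹) * (D * u * D⁻¹) = 1 := by
    rw [show (D * u * D⁻¹) * (D * u * D⁻¹) = D * (u * u) * D⁻¹ by group, hu, mul_one, mul_inv_cancel]
  have hA'a : A' a = 1 := by simp [hA', hT, show π a ≠ a from ha]
  obtain ⟨c, -, hc⟩ : ∃ c : F, c ≠ 0 ∧ (A' b : Matrix (Fin k) (Fin k) F) = c • 1 := by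
    have h3 : (pureGL fun l => A' (π l) * A' l : GL (Fin (s + 1) → Fin k) F) = 1 := by
      rw [← hsq', he', AschbacherForm.pureGL_mul, mul_assoc (permGL π), ← mul_assoc (pureGL A'),
        AschbacherOrth.pureGL_permGL, mul_assoc (permGL π) (pureGL fun l => A' (π l)), ← mul_assoc (permGL π)]
      have : (permGL π : GL (Fin (s + 1) → Fin k) F) * permGL π = 1 := by
        rw [AschbacherOrth.permGL_mul, hπp, permGL_one]
      rw [this, one_mul]
    have := pure_proportional (A := fun l => A' (π l) * A' l) (B := fun _ => (1 : GL (Fin k) F)) (c := 1) (by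
      rw [one_smul]
      simpa [pureGL, pure'_one] using congrArg Units.val h3) a
    simpa [hA'a] using this
  set w0 := D * u * D⁻¹ with hw0
  have hrk' : (w0.1 - 1).rank ≤ 2 * k ^ s := by
    rw [hw0, ← cj_val, ← map_one (cj D), ← map_sub]
    exact (rank_cj_le D _).trans hrk
  clear_value w0
  have hab : a ≠ b := fun e => ha e.symm
  have hent : ∀ x y, w0.1 x y = (if x b = y a then 1 else 0) * ((if x a = y b then c else 0) *
      ∏ l ∈ (Finset.univ.erase a).erase b, (A' l : Matrix (Fin k) (Fin k) F) (x (π l)) (y l)) := fun x y => by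
    rw [he', perm_pure_apply, ← Finset.mul_prod_erase _ _ (Finset.mem_univ a),
      ← Finset.mul_prod_erase _ _ (Finset.mem_erase.2 ⟨hab.symm, Finset.mem_univ b⟩), hb, hA'a, hc,
      Units.val_one, Matrix.one_apply, Matrix.smul_apply, Matrix.one_apply]
    simp [b]
  have hz : ∀ x y, ¬ (x b = y a ∧ x a = y b) → w0.1 x y = 0 := fun x y h => by
    rw [hent]
    by_cases h1 : x b = y a
    · rw [if_neg fun h2 : x a = y b => h ⟨h1, h2⟩, zero_mul, mul_zero]
    · rw [if_neg h1, zero_mul]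
  let κ := {x : Fin (s + 1) → Fin k // x a < x b}
  let r : κ → Fin (s + 1) → Fin k := Subtype.val
  let w : κ → Fin (s + 1) → Fin k := fun x => x.1 ∘ Equiv.swap a b
  have hwr : ∀ x y : κ, r x ≠ w y := fun x y e => by
    have h1 := congrFun e a; have h2 := congrFun e b
    simp only [r, w, Function.comp_apply, Equiv.swap_apply_left, Equiv.swap_apply_right] at h1 h2
    exact lt_asymm x.2 (by rw [h1, h2]; exact y.2)
  have hinv : (w0.1.submatrix r w) * (w0.1.submatrix w r) = 1 := by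
    ext x y
    have e : ((w0 * w0 : GL (Fin (s + 1) → Fin k) F) : TMat F k (s + 1)) (r x) (r y) = (1 : Matrix κ κ F) x y := by
      rw [hsq', Units.val_one, Matrix.one_apply, Matrix.one_apply]
      exact if_congr Subtype.val_injective.eq_iff rfl rfl
    rw [← e, Units.val_mul, Matrix.mul_apply, Matrix.mul_apply]
    simp only [Matrix.submatrix_apply]
    refine Finset.sum_bij_ne_zero (fun z _ _ => w z) (fun _ _ _ => Finset.mem_univ _)
      (fun p _ _ q _ _ e => Subtype.ext (by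
        simpa [w, Function.comp_assoc, comp_swap_swap] using congrArg (· ∘ Equiv.swap a b) e))
      (fun q _ hq => ?_) fun _ _ _ => rfl
    have hp : (r x) b = q a ∧ (r x) a = q b := by
      by_contra h; exact hq (by rw [hz _ _ h, zero_mul])
    have hlt : q b < q a := by rw [← hp.1, ← hp.2]; exact x.2
    have hk : (q ∘ Equiv.swap a b) a < (q ∘ Equiv.swap a b) b := by simpa using hlt
    have hw : w ⟨q ∘ Equiv.swap a b, hk⟩ = q := by simp [w, Function.comp_assoc, comp_swap_swap]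
    exact ⟨⟨_, hk⟩, Finset.mem_univ _, by rw [hw]; exact hq, hw⟩
  have h1 : Fintype.card κ ≤ 2 * k ^ s := by
    refine le_trans ?_ hrk'
    rw [← Matrix.rank_of_isUnit _ (IsUnit.of_mul_eq_one _ hinv),
      show w0.1.submatrix r w = (w0.1 - 1).submatrix r w from Matrix.ext fun p q => by
        simp [hwr p q]]
    exact Matrix.rank_submatrix_le _ _ _
  have hcount := card_lt_pairs (m := k) hab
  change 2 * Fintype.card κ + k ^ s = k ^ (s + 1) at hcount
  rw [pow_succ] at hcount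
  have hpos : 0 < k ^ s := pow_pos (by omega) _
  have : k ^ s * 6 ≤ k ^ s * k := Nat.mul_le_mul_left _ h6
  omega

/-- The standing hypotheses of the inductive step in characteristic two. -/
structure ELev (J₁ : GL (Fin k) F) (M : Subgroup (GL (Fin (s + 1) → Fin k) F)) : Prop where
  fr : Frame J₁ s
  sl : Slots J₁ M
  h6 : 6 ≤ k
  h2 : (2 : F) = 0
  nt : ¬ Twist fr M
  rest : ∀ i, M.comap (emb i) ≤ Std F k s

variable {M : Subgroup (GL (Fin (s + 1) → Fin k) F)}

theorem IsRt.isRoot (hF : Frame J₁ s) {i : Fin (s + 1)} {X : TMat F k (s + 1)} (h : IsRt J₁ i X) : IsRoot i X := by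
  obtain ⟨y, c, hy, hc, rfl⟩ := h
  refine ⟨c • y, fw J₁ y, smul_ne_zero hc hy, fun e => hy ((fw_eq_zero J₁).1 e), ?_, ?_⟩
  · rw [dotProduct_smul, show fw J₁ y ⬝ᵥ y = fo J₁ y y from rfl, hF.fo_zero, smul_zero]
  · rw [← slot_smul, Matrix.smul_vecMulVec]
    rfl

theorem IsRt.mk' {i : Fin (s + 1)} {y : Fin k → F} (hy : y ≠ 0) : IsRt J₁ i (slot i (aR J₁ y)) :=
  ⟨y, 1, hy, one_ne_zero, (one_smul F _).symm⟩

theorem IsRt.commute_slot {i l : Fin (s + 1)} (h : i ≠ l) {X : TMat F k (s + 1)} (hX : IsRt J₁ l X)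
    (A : Matrix (Fin k) (Fin k) F) : slot i A * X = X * slot i A := by
  obtain ⟨y, c, -, -, rfl⟩ := hX
  rw [Matrix.mul_smul, Matrix.smul_mul, slot_commute h]

theorem rank_cj {n : ℕ} (g : GL (Fin n → Fin k) F) (N : TMat F k n) : (cj g N).rank = N.rank :=
  le_antisymm (rank_cj_le g N) (calc N.rank = (cj g⁻¹ (cj g N)).rank := by rw [cj_inv_cj]
    _ ≤ _ := rank_cj_le _ _)

theorem Slots.conj_inM {g : GL (Fin (s + 1) → Fin k) F} (hg : g ∈ M) {X : TMat F k (s + 1)}
    (h : InM M (1 + X)) : InM M (1 + cj g X) := by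
  obtain ⟨x, hx, e⟩ := h
  exact ⟨g * x * g⁻¹, mul_mem (mul_mem hg hx) (inv_mem hg), by rw [← cj_val, e, map_add, map_one]⟩

theorem alg_surj {g : GL (Fin (s + 1) → Fin k) F} {i j : Fin (s + 1)}
    (h : ∀ A, ∃ A', cj g (slot j A) = slot i A') (B : Matrix (Fin k) (Fin k) F) :
    ∃ A, cj g (slot j A) = slot i B := by
  choose θ hθ using h
  have hlin : ∀ a a', θ (a + a') = θ a + θ a' := fun a a' => slot_injective i (by
    rw [← hθ, slot_add, slot_add, map_add, hθ, hθ])
  have hsmul : ∀ (c : F) a, θ (c • a) = c • θ a := fun c a => slot_injective i (by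
    rw [← hθ, slot_smul, slot_smul, map_smul, hθ])
  have hinj : Function.Injective θ := fun a a' e => slot_injective j ((cj g).injective (by rw [hθ, hθ, e]))
  obtain ⟨a, ha⟩ := (LinearMap.injective_iff_surjective (f := (⟨⟨θ, hlin⟩, hsmul⟩ : Matrix (Fin k) (Fin k) F →ₗ[F]
    Matrix (Fin k) (Fin k) F))).1 hinj B
  exact ⟨a, by rw [hθ]; exact congrArg _ ha⟩

theorem ELev.exists_perp (hL : ELev J₁ M) (u v : Fin k → F) : ∃ r, r ≠ 0 ∧ fo J₁ u r = 0 ∧ fo J₁ v r = 0 := by
  obtain ⟨r, h1, h2, h3⟩ := BData.exists_perp_two (h := sd hL.fr 0) (by simpa using (by have := hL.h6; omega : 5 ≤ k)) u v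
  exact ⟨r, fun e => h3 (e ▸ zero_mem _), (BF_fo u r).symm.trans h1, (BF_fo v r).symm.trans h2⟩

/-- A conjugate of a root orthogonal to a line of a slot is a root. -/
theorem ELev.root_of_perp (hL : ELev J₁ M) {g : GL (Fin (s + 1) → Fin k) F} (hg : g ∈ M) {j : Fin (s + 1)}
    {r : TMat F k (s + 1)} (hr : IsRt J₁ j r) {i : Fin (s + 1)} {w : Fin k → F} (hw : w ≠ 0)
    (h : slot i (aR J₁ w) * cj g r = 0) : IsRt J₁ i (cj g r) :=
  hL.sl.root_of_perp hL.fr (by have := hL.h6; omega) hL.nt (Slots.conj_inM hg (hr.inM hL.sl))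
    (cj_sq g (hr.sq hL.fr)) (by rw [rank_cj, hr.rank_eq hL.fr]) hw h

theorem ELev.map_root (hL : ELev J₁ M) {g : GL (Fin (s + 1) → Fin k) F} (hg : g ∈ M) {i j : Fin (s + 1)}
    {r₀ : TMat F k (s + 1)} (h₀ : IsRt J₁ j r₀) (h : IsRt J₁ i (cj g r₀)) {r : TMat F k (s + 1)}
    (hr : IsRt J₁ j r) : IsRt J₁ i (cj g r) := by
  have step : ∀ {r₁ r₂}, IsRt J₁ j r₂ → IsRt J₁ i (cj g r₁) → r₁ * r₂ = 0 → IsRt J₁ i (cj g r₂) := by
    intro r₁ r₂ h2 h1 e
    obtain ⟨y, c, hy, hc, ey⟩ := h1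
    refine hL.root_of_perp hg h2 hy ((smul_eq_zero.1 (?_ : c • (slot i (aR J₁ y) * cj g r₂) = 0)).resolve_left hc)
    rw [← Matrix.smul_mul, ← ey, ← map_mul, e, map_zero]
  obtain ⟨u, c, -, -, eu⟩ := id h₀
  obtain ⟨v, d, -, -, ev⟩ := id hr
  obtain ⟨z, hz, huz, hvz⟩ := hL.exists_perp u v
  have hzv : fo J₁ z v = 0 := by rw [hL.fr.fo_neg, hvz, neg_zero]
  have e1 : r₀ * slot j (aR J₁ z) = 0 := by
    rw [eu, Matrix.smul_mul, ← slot_mul, aR, aR, rk_mul, huz, zero_smul, slot_zero, smul_zero]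
  refine step hr (step (IsRt.mk' hz) h e1) ?_
  rw [ev, Matrix.mul_smul, ← slot_mul, aR, aR, rk_mul, hzv, zero_smul, slot_zero, smul_zero]

theorem ELev.map_alg (hL : ELev J₁ M) {g : GL (Fin (s + 1) → Fin k) F} (hg : g ∈ M) {i j : Fin (s + 1)}
    {r₀ : TMat F k (s + 1)} (h₀ : IsRt J₁ j r₀) (h : IsRt J₁ i (cj g r₀)) (A : Matrix (Fin k) (Fin k) F) :
    ∃ A', cj g (slot j A) = slot i A' := by
  let S : Submodule F (Matrix (Fin k) (Fin k) F) :=
    { carrier := {A | ∃ A', cj g (slot j A) = slot i A'}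
      zero_mem' := ⟨0, by rw [slot_zero, map_zero, slot_zero]⟩
      add_mem' := by
        rintro P Q ⟨P', e⟩ ⟨Q', e'⟩
        exact ⟨P' + Q', by rw [slot_add, map_add, e, e', slot_add]⟩
      smul_mem' := by
        rintro c P ⟨P', e⟩
        exact ⟨c • P', by rw [slot_smul, map_smul, e, slot_smul]⟩ }
  have hmul : ∀ u v, fo J₁ u v ≠ 0 → rk J₁ u v ∈ S := by
    intro u v huv
    have hu : u ≠ 0 := fun e => huv (by rw [e]; simp [fo, fw])
    have hv : v ≠ 0 := fun e => huv (by rw [e]; simp [fo, fw])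
    obtain ⟨y, c, -, -, ey⟩ := hL.map_root hg h₀ h (IsRt.mk' hu)
    obtain ⟨z, d, -, -, ez⟩ := hL.map_root hg h₀ h (IsRt.mk' hv)
    have hm : fo J₁ u v • rk J₁ u v ∈ S := ⟨(c * d) • (aR J₁ y * aR J₁ z), by
      rw [← rk_mul, slot_mul, map_mul, show slot j (rk J₁ u u) = slot j (aR J₁ u) from rfl,
        show slot j (rk J₁ v v) = slot j (aR J₁ v) from rfl, ey, ez, Matrix.smul_mul, Matrix.mul_smul, smul_smul,
        slot_smul, slot_mul]⟩
    have := S.smul_mem (fo J₁ u v)⁻¹ hm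
    rwa [smul_smul, inv_mul_cancel₀ huv, one_smul] at this
  have hrk : ∀ u v, rk J₁ u v ∈ S := by
    intro u v
    by_cases hu : u = 0
    · rw [hu, show rk J₁ (0 : Fin k → F) v = 0 by simp [rk]]
      exact S.zero_mem
    by_cases huv : fo J₁ u v = 0
    · obtain ⟨x, hx⟩ := exists_partner J₁ hu
      have h1 := hmul u (v + x) (by rw [fo_add_right, huv, hx, zero_add]; exact one_ne_zero)
      have h2 := hmul u x (by rw [hx]; exact one_ne_zero)
      have := S.sub_mem h1 h2
      rwa [rk_add_right, add_sub_cancel_right] at this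
    · exact hmul u v huv
  show A ∈ S
  induction A using Matrix.induction_on' with
  | h_zero => exact S.zero_mem
  | h_add P Q hP hQ => exact S.add_mem hP hQ
  | h_std_basis a b x =>
    obtain ⟨v, hv⟩ := exists_fw J₁ (Pi.single b (1 : F))
    have := S.smul_mem x (hrk (Pi.single a 1) v)
    rwa [rk, hv, ← Matrix.single_eq_single_vecMulVec_single, Matrix.smul_single, smul_eq_mul, mul_one] at this

/-- A conjugate of a root in the tensor wreath group is a root. -/
theorem ELev.root_in_std (hL : ELev J₁ M) {g : GL (Fin (s + 1) → Fin k) F} (hg : g ∈ M) {i0 : Fin (s + 1)}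
    {r : TMat F k (s + 1)} (hr : IsRt J₁ i0 r) (h : oneAdd (cj g r) (cj_sq g (hr.sq hL.fr)) ∈ Std F k (s + 1)) :
    ∃ j, IsRt J₁ j (cj g r) := by
  classical
  have h6 := hL.h6
  set u := oneAdd (cj g r) (cj_sq g (hr.sq hL.fr)) with hu
  have hu1 : u.1 - 1 = cj g r := by show 1 + cj g r - 1 = _; rw [add_sub_cancel_left]
  have hsq : (u.1 - 1) * (u.1 - 1) = 0 := by rw [hu1]; exact cj_sq g (hr.sq hL.fr)
  have hrk : (u.1 - 1).rank ≤ k ^ s := by rw [hu1, rank_cj, hr.rank_eq hL.fr]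
  obtain ⟨π, A, he, hπ⟩ := exists_rep_of_std h
  have hπ1 := perm_one h6 hL.h2 he hπ (oneAdd_sq_one hL.h2 _) (by omega)
  obtain ⟨l, a, ha⟩ : ∃ l a, cj u (slot l a) ≠ slot l a := by
    by_contra hcon
    push Not at hcon
    obtain ⟨c, hc⟩ := scalar_of_commutes_slots (u : TMat F k (s + 1)) fun l a =>
      ((cj_eq_self_iff u _).1 (hcon l a)).symm
    have h1 : (u.1 - 1) = (c - 1) • (1 : TMat F k (s + 1)) := by rw [hc, sub_smul, one_smul]
    rw [h1, Matrix.smul_mul, one_mul, smul_smul] at hsq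
    have h0 : c - 1 = 0 := by
      rcases smul_eq_zero.1 hsq with e | e
      · exact mul_self_eq_zero.1 e
      · exact absurd e one_ne_zero
    rw [h0, zero_smul, hu1] at h1
    exact (hr.isRoot hL.fr).ne_zero ((cj g).injective (by rw [h1, map_zero]))
  obtain ⟨A', B, -, e⟩ := std_split (by omega) hL.fr.pos h hπ (i := l) (by rw [hπ1]; rfl)
  obtain ⟨v, φ, hv, -, -, eX⟩ := hu1 ▸ pure_root (by omega) e hsq hrk fun c hc => ha (by
    rw [e, slot_emb_conj, cj_scalar A' hc])
  refine ⟨l, hL.root_of_perp hg hr hv ?_⟩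
  rw [eX, ← slot_mul, aR, rk, vmv_smul_mul, show fw J₁ v ⬝ᵥ v = fo J₁ v v from rfl, hL.fr.fo_zero, zero_smul,
    slot_zero]

/-- An element mapping a root to a root lies in the tensor wreath group. -/
theorem ELev.std_of_root (hL : ELev J₁ M) {g : GL (Fin (s + 1) → Fin k) F} (hg : g ∈ M) {j : Fin (s + 1)}
    {r₀ : TMat F k (s + 1)} (h₀ : IsRt J₁ j r₀) {i : Fin (s + 1)} (h : IsRt J₁ i (cj g r₀)) :
    g ∈ Std F k (s + 1) := by
  classical
  have hsurj := alg_surj (hL.map_alg hg h₀ h)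
  set o : Fin k → F := Pi.single 0 1
  have ho : o ≠ 0 := by simp [o]
  have hall : ∀ l, ∃ i', ∀ A, ∃ A', cj g (slot l A) = slot i' A' := by
    intro l
    rcases eq_or_ne l j with rfl | hl
    · exact ⟨i, hL.map_alg hg h₀ h⟩
    have hr : IsRt J₁ l (slot l (aR J₁ o)) := IsRt.mk' ho
    set X := cj g (slot l (aR J₁ o)) with hX
    obtain ⟨X', hX'⟩ := (cent_iff i X).1 fun B => by
      obtain ⟨A, hA⟩ := hsurj B
      rw [hX, ← hA, ← map_mul, ← map_mul, hr.commute_slot hl.symm]
    have hsq' : X' * X' = 0 := embM_injective i (by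
      rw [map_mul, ← hX', map_zero, hX]
      exact cj_sq g (hr.sq hL.fr))
    have hval : (emb i (oneAdd X' hsq') : GL (Fin (s + 1) → Fin k) F).1 = 1 + X := by
      rw [emb_val, hX', show (oneAdd X' hsq' : TMat F k s) = 1 + X' from rfl, map_add, map_one]
    obtain ⟨x, hx, ex⟩ := Slots.conj_inM hg (hr.inM hL.sl)
    have hmem : oneAdd X' hsq' ∈ M.comap (emb i) := by
      show emb i (oneAdd X' hsq') ∈ M
      rwa [show emb i (oneAdd X' hsq') = x from Units.ext (hval.trans ex.symm)]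
    obtain ⟨i', hi'⟩ := hL.root_in_std hg hr (by
      rw [show oneAdd (cj g (slot l (aR J₁ o))) (cj_sq g (hr.sq hL.fr)) = emb i (oneAdd X' hsq') from
        Units.ext hval.symm]
      exact emb_mem i (hL.rest i hmem))
    exact ⟨i', hL.map_alg hg hr hi'⟩
  choose J hJ using hall
  have hinj : Function.Injective J := by
    intro l l' e
    by_contra hne
    obtain ⟨b, hb⟩ := hJ l' (aR J₁ o)
    rw [← e] at hb
    obtain ⟨c, hc⟩ : b ∈ Set.range (Matrix.scalar (Fin k) : F →+* _) := by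
      refine Matrix.mem_range_scalar_of_commute_single fun x y _ => slot_injective (J l) ?_
      obtain ⟨a, ha⟩ := alg_surj (hJ l) (Matrix.single x y 1)
      rw [slot_mul, slot_mul, ← hb, ← ha, ← map_mul, ← map_mul, slot_commute hne]
    have h0 : b * b = 0 := slot_injective (J l) (by
      rw [slot_mul, ← hb, ← map_mul, ← slot_mul, hL.fr.aR_sq, slot_zero, map_zero, slot_zero])
    rw [← hc, ← map_mul, ← map_zero (Matrix.scalar (Fin k) : F →+* _)] at h0
    rw [← hc, mul_self_eq_zero.1 (Matrix.scalar_inj.1 h0), map_zero, slot_zero] at hb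
    exact rk_ne_zero J₁ ho ho (slot_injective l' (((cj g).injective (hb.trans (map_zero _).symm)).trans
      (slot_zero l').symm))
  exact std_of_rep (π := Equiv.ofBijective _ (Finite.injective_iff_bijective.1 hinj)) s.succ_pos hJ

/-- An element conjugating a root into the tensor wreath group lies in it. -/
theorem ELev.std_of_conj (hL : ELev J₁ M) {g : GL (Fin (s + 1) → Fin k) F} (hg : g ∈ M) {j : Fin (s + 1)}
    {r : TMat F k (s + 1)} (hr : IsRt J₁ j r) (h : oneAdd (cj g r) (cj_sq g (hr.sq hL.fr)) ∈ Std F k (s + 1)) :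
    g ∈ Std F k (s + 1) :=
  let ⟨_, hi⟩ := hL.root_in_std hg hr h
  hL.std_of_root hg hr hi

end CfsgLib.TensorWreathO
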