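import Cfsg.Agent.Lib.OrthMax.TensorSp.Ops

/-! A space with a symmetric form that is the product of two alternating forms, and a group of isometries containing
the transvections of the second factor: the algebra of root coefficients. -/

set_option autoImplicit false
set_option linter.unusedSectionVars false
set_option linter.unusedVariables false
set_option linter.unusedSimpArgs false

namespace CfsgLib.TensorWreathO

open CfsgLib.Geometry CfsgLib.OrthMax
open CfsgLib.TensorSp (In)

variable {F V U W : Type*} [Field F] [AddCommGroup V] [Module F V] [AddCommGroup U] [Module F U]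
  [AddCommGroup W] [Module F W]
variable [FiniteDimensional F V] [FiniteDimensional F U] [FiniteDimensional F W]

/-- All elements preserve the form. -/
def Iso (B : LinearMap.BilinForm F V) (M : Subgroup (V ≃ₗ[F] V)) : Prop := ∀ g ∈ M, ∀ x y, B (g x) (g y) = B x y

/-- A symmetric form that is the product of two alternating forms. -/
structure BData (B : LinearMap.BilinForm F V) (U W : Type*) [AddCommGroup U] [Module F U] [AddCommGroup W]
    [Module F W] where
  /-- Pure tensors. -/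
  tp : U →ₗ[F] W →ₗ[F] V
  /-- The form on the first factor. -/
  fU : LinearMap.BilinForm F U
  /-- The form on the second factor. -/
  gW : LinearMap.BilinForm F W
  fAlt : fU.IsAlt
  gAlt : gW.IsAlt
  fnd : fU.Nondegenerate
  gnd : gW.Nondegenerate
  symm : ∀ x y, B x y = B y x
  pol : ∀ u u' w w', B (tp u w) (tp u' w') = fU u u' * gW w w'
  sep : ∀ T, (∀ u w, B (tp u w) T = 0) → T = 0

variable {B : LinearMap.BilinForm F V} {M : Subgroup (V ≃ₗ[F] V)}

/-- The two factors exchanged. -/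
def BData.swap (h : BData B U W) : BData B W U where
  tp := h.tp.flip
  fU := h.gW
  gW := h.fU
  fAlt := h.gAlt
  gAlt := h.fAlt
  fnd := h.gnd
  gnd := h.fnd
  pol u u' w w' := by rw [LinearMap.flip_apply, LinearMap.flip_apply, h.pol, mul_comm]
  symm := h.symm
  sep T hT := h.sep T fun u w => hT w u

namespace BData

variable (h : BData B U W)

theorem f_self (u : U) : h.fU u u = 0 := h.fAlt u

theorem g_self (w : W) : h.gW w w = 0 := h.gAlt w

theorem f_swap (u x : U) : h.fU u x = - h.fU x u := (LinearMap.BilinForm.IsAlt.neg_eq h.fAlt x u).symm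

theorem g_swap (u x : W) : h.gW u x = - h.gW x u := (LinearMap.BilinForm.IsAlt.neg_eq h.gAlt x u).symm

theorem g_swap_zero {u x : W} (e : h.gW u x = 0) : h.gW x u = 0 := by rw [h.g_swap, e, neg_zero]

theorem flip_nd : h.fU.flip.Nondegenerate := LinearMap.flip_nondegenerate.2 h.fnd

/-- Contraction with a vector of the second factor. -/
noncomputable def c : W →ₗ[F] V →ₗ[F] U :=
  LinearMap.mk₂ F (fun w T => (h.fU.flip.toDual h.flip_nd).symm ((B T) ∘ₗ h.tp.flip w))
    (fun w w' T => by rw [map_add, LinearMap.comp_add, map_add])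
    (fun s w T => by rw [map_smul, LinearMap.comp_smul, map_smul])
    (fun w T T' => by rw [map_add, LinearMap.add_comp, map_add])
    (fun s w T => by rw [map_smul, LinearMap.smul_comp, map_smul])

theorem pol_c (u : U) (w : W) (T : V) : h.fU u (h.c w T) = B (h.tp u w) T := by
  simp only [c, LinearMap.mk₂_apply]
  show h.fU.flip _ u = _
  rw [LinearMap.BilinForm.apply_toDual_symm_apply, LinearMap.comp_apply, LinearMap.flip_apply,
    h.symm]

theorem ext_f {x y : U} (e : ∀ u, h.fU u x = h.fU u y) : x = y :=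
  sub_eq_zero.1 (h.fnd.2 (x - y) fun u => by rw [map_sub, e u, sub_self])

theorem ext_f' {x y : U} (e : ∀ u, h.fU x u = h.fU y u) : x = y :=
  h.ext_f fun u => by rw [h.f_swap u x, e u, ← h.f_swap]

theorem polar_tp (u : U) (w : W) (T : V) : B (h.tp u w) T = h.fU u (h.c w T) := (h.pol_c u w T).symm

theorem polar_tp' (u : U) (w : W) (T : V) : B T (h.tp u w) = h.fU u (h.c w T) := by
  rw [h.symm, h.polar_tp]

@[simp] theorem c_tp (u : U) (w w' : W) : h.c w (h.tp u w') = h.gW w w' • u :=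
  h.ext_f fun x => by rw [h.pol_c, h.pol, map_smul, smul_eq_mul, mul_comm]

theorem eq_zero_of_c {T : V} (e : ∀ w, h.c w T = 0) : T = 0 :=
  h.sep T fun u w => by rw [h.polar_tp, e, map_zero]

theorem exists_g_one {w : W} (hw : w ≠ 0) : ∃ x, h.gW x w = 1 := by
  obtain ⟨x, hx⟩ : ∃ x, h.gW x w ≠ 0 := by
    by_contra e
    push Not at e
    exact hw (h.gnd.2 w e)
  exact ⟨(h.gW x w)⁻¹ • x, by rw [map_smul, LinearMap.smul_apply, smul_eq_mul, inv_mul_cancel₀ hx]⟩

theorem mem_span_of_perp {w v : W} (e : ∀ x, h.gW x w = 0 → h.gW x v = 0) : v ∈ Submodule.span F {w} := by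
  by_cases hw : w = 0
  · subst hw
    rw [h.gnd.2 v fun x => e x (by rw [map_zero])]
    exact zero_mem _
  obtain ⟨x₀, hx₀⟩ := h.exists_g_one hw
  refine Submodule.mem_span_singleton.2 ⟨h.gW x₀ v, (sub_eq_zero.1 (h.gnd.2 _ fun x => ?_)).symm⟩
  have h1 := e (x - h.gW x w • x₀) (by
    rw [map_sub, map_smul, LinearMap.sub_apply, LinearMap.smul_apply, hx₀, smul_eq_mul, mul_one, sub_self])
  rw [map_sub, map_smul, LinearMap.sub_apply, LinearMap.smul_apply, smul_eq_mul] at h1
  rw [map_sub, map_smul, smul_eq_mul]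
  linear_combination h1

theorem exists_perp_one {w v : W} (hv : v ∉ Submodule.span F {w}) : ∃ x, h.gW x w = 0 ∧ h.gW x v = 1 := by
  obtain ⟨x, hxw, hxv⟩ : ∃ x, h.gW x w = 0 ∧ h.gW x v ≠ 0 := by
    by_contra e
    push Not at e
    exact hv (h.mem_span_of_perp e)
  exact ⟨(h.gW x v)⁻¹ • x, by rw [map_smul, LinearMap.smul_apply, hxw, smul_zero],
    by rw [map_smul, LinearMap.smul_apply, smul_eq_mul, inv_mul_cancel₀ hxv]⟩

theorem exists_common {w a b : W} (ha : a ∉ Submodule.span F {w}) (hb : b ∉ Submodule.span F {w}) :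
    ∃ x, h.gW x w = 0 ∧ h.gW x a ≠ 0 ∧ h.gW x b ≠ 0 := by
  obtain ⟨x, hx, hxa⟩ := h.exists_perp_one ha
  obtain ⟨y, hy, hyb⟩ := h.exists_perp_one hb
  by_cases h1 : h.gW x b = 0
  · by_cases h2 : h.gW y a = 0
    · exact ⟨x + y, by rw [map_add, LinearMap.add_apply, hx, hy, add_zero],
        by rw [map_add, LinearMap.add_apply, hxa, h2, add_zero]; exact one_ne_zero,
        by rw [map_add, LinearMap.add_apply, h1, hyb, zero_add]; exact one_ne_zero⟩
    · exact ⟨y, hy, h2, by rw [hyb]; exact one_ne_zero⟩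
  · exact ⟨x, hx, by rw [hxa]; exact one_ne_zero, h1⟩

theorem tp_ne_zero {u : U} {w : W} (hu : u ≠ 0) (hw : w ≠ 0) : h.tp u w ≠ 0 := fun e => by
  obtain ⟨x, hx⟩ := h.exists_g_one hw
  have := h.c_tp u x w
  rw [e, map_zero, hx, one_smul] at this
  exact hu this.symm

/-- The pure tensors with a given second factor. -/
def A (w : W) : Submodule F V := LinearMap.range (h.tp.flip w)

theorem mem_A {w : W} {T : V} : T ∈ h.A w ↔ ∃ u, h.tp u w = T := Iff.rfl

theorem tp_mem_A (u : U) (w : W) : h.tp u w ∈ h.A w := ⟨u, rfl⟩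

theorem c_A {w v : W} {T : V} (hwv : h.gW v w = 0) (hT : T ∈ h.A w) : h.c v T = 0 := by
  obtain ⟨u, rfl⟩ := hT
  rw [LinearMap.flip_apply, h.c_tp, hwv, zero_smul]

theorem tp_injective {w : W} (hw : w ≠ 0) : Function.Injective (h.tp.flip w) :=
  (injective_iff_map_eq_zero _).2 fun u e => by_contra fun hu => h.tp_ne_zero hu hw e

theorem finrank_A {w : W} (hw : w ≠ 0) : Module.finrank F (h.A w) = Module.finrank F U :=
  LinearMap.finrank_range_of_inj (h.tp_injective hw)

theorem tp_mem_A_iff {w v : W} {u : U} (hu : u ≠ 0) (hm : h.tp u v ∈ h.A w) : v ∈ Submodule.span F {w} := by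
  refine h.mem_span_of_perp fun x hx => ?_
  have := h.c_A hx hm
  rw [h.c_tp, smul_eq_zero] at this
  exact this.resolve_right hu

theorem mem_A_of_c {w : W} (hw : w ≠ 0) {T : V} (e : ∀ x, h.gW x w = 0 → h.c x T = 0) : T ∈ h.A w := by
  obtain ⟨x₀, hx₀⟩ := h.exists_g_one hw
  refine ⟨h.c x₀ T, (sub_eq_zero.1 (h.eq_zero_of_c fun x => ?_)).symm⟩
  have h1 := e (x - h.gW x w • x₀) (by
    rw [map_sub, map_smul, LinearMap.sub_apply, LinearMap.smul_apply, hx₀, smul_eq_mul, mul_one, sub_self])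
  rw [map_sub, map_smul, LinearMap.sub_apply, LinearMap.smul_apply] at h1
  rw [map_sub, LinearMap.flip_apply, h.c_tp]
  exact h1

theorem mem_A_of_perp {w : W} (hw : w ≠ 0) {T : V}
    (e : ∀ u v, h.gW v w = 0 → B (h.tp u v) T = 0) : T ∈ h.A w :=
  h.mem_A_of_c hw fun x hx => h.ext_f fun u => by rw [map_zero, h.pol_c, e u x hx]

/-- The vectors orthogonal to `A w` are spanned by the pure tensors orthogonal to it. -/
theorem mem_span_perp (hQ : B.Nondegenerate) {w : W} (hw : w ≠ 0) {T : V} (hT : h.c w T = 0) :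
    T ∈ Submodule.span F {S | ∃ u v, h.gW v w = 0 ∧ h.tp u v = S} := by
  rw [← LinearMap.BilinForm.orthogonal_orthogonal hQ (fun x y e => by rw [h.symm]; exact e) (Submodule.span F _)]
  intro R hR
  have hA : R ∈ h.A w := h.mem_A_of_perp hw fun u v hv => hR _ (Submodule.subset_span ⟨u, v, hv, rfl⟩)
  obtain ⟨u, rfl⟩ := hA
  show B _ T = 0
  rw [LinearMap.flip_apply, h.polar_tp, hT, map_zero]

/-- A map killing the pure tensors orthogonal to `A w` kills that whole orthogonal. -/
theorem map_eq_zero_of_tp (hQ : B.Nondegenerate) {X : Type*} [AddCommGroup X] [Module F X]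
    (φ : V →ₗ[F] X) {w : W} (hw : w ≠ 0) (e : ∀ u v, h.gW v w = 0 → φ (h.tp u v) = 0) {T : V}
    (hT : h.c w T = 0) : φ T = 0 :=
  (Submodule.span_le (p := LinearMap.ker φ)).2 (by rintro _ ⟨u, v, hv, rfl⟩; exact e u v hv)
    (h.mem_span_perp hQ hw hT)

/-- The basic endomorphisms. -/
noncomputable def P (a b : W) (D : Module.End F U) : Module.End F V := h.tp.flip a ∘ₗ D ∘ₗ h.c b

theorem P_apply (a b : W) (D : Module.End F U) (T : V) : h.P a b D T = h.tp (D (h.c b T)) a := rfl

theorem P_mul (a b a' b' : W) (D D' : Module.End F U) :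
    h.P a b D * h.P a' b' D' = h.gW b a' • h.P a b' (D * D') := LinearMap.ext fun T => by
  simp [P_apply, Module.End.mul_apply]

theorem P_mul_zero {b a' : W} (e : h.gW b a' = 0) (a b' : W) (D D' : Module.End F U) :
    h.P a b D * h.P a' b' D' = 0 := by rw [P_mul, e, zero_smul]

theorem P_neg (a b : W) (D : Module.End F U) : h.P a b (-D) = - h.P a b D :=
  LinearMap.ext fun T => by simp [P_apply]

theorem P_add (a b : W) (D D' : Module.End F U) : h.P a b (D + D') = h.P a b D + h.P a b D' :=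
  LinearMap.ext fun T => by simp [P_apply]

theorem P_smul (a b : W) (s : F) (D : Module.End F U) : h.P a b (s • D) = s • h.P a b D :=
  LinearMap.ext fun T => by simp [P_apply]

theorem P_add_add (a b : W) (D : Module.End F U) :
    h.P (a + b) (a + b) D = h.P a a D + h.P b b D + (h.P a b D + h.P b a D) :=
  LinearMap.ext fun T => by simp only [P_apply, LinearMap.add_apply, map_add]; abel


end BData

namespace BData

variable (h : BData B U W)

/-- The group preserves the form and contains the transvections of the second factor. -/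
structure Tau (M : Subgroup (V ≃ₗ[F] V)) : Prop where
  iso : Iso B M
  tau : ∀ (w : W) (s : F), In M (s • h.P w w 1)


/-- `M` induces `ρ` on the second factor. -/
def Act (M : Subgroup (V ≃ₗ[F] V)) (ρ : Module.End F W) : Prop :=
  ∃ k ∈ M, ∀ u x, k (h.tp u x) = h.tp u (ρ x)

variable {h}

theorem Act.one : h.Act M 1 := ⟨1, one_mem M, fun u x => rfl⟩

theorem Act.mul {ρ σ : Module.End F W} (hρ : h.Act M ρ) (hσ : h.Act M σ) : h.Act M (ρ * σ) := by
  obtain ⟨k, hk, ek⟩ := hρ
  obtain ⟨l, hl, el⟩ := hσ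
  exact ⟨k * l, mul_mem hk hl, fun u x => by rw [LinearEquiv.mul_apply, el, ek, Module.End.mul_apply]⟩

theorem Act.preserves [Nontrivial U] (hM : Iso B M) {ρ : Module.End F W} (hρ : h.Act M ρ) (x y : W) :
    h.gW (ρ x) (ρ y) = h.gW x y := by
  obtain ⟨k, hk, ek⟩ := hρ
  obtain ⟨u, hu⟩ := exists_ne (0 : U)
  obtain ⟨u', hu'⟩ : ∃ u', h.fU u' u ≠ 0 := by
    by_contra e
    push Not at e
    exact hu (h.fnd.2 u e)
  have e := hM _ hk (h.tp u' x) (h.tp u y)
  rw [ek, ek, h.pol, h.pol] at e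
  exact mul_left_cancel₀ hu' e

theorem Act.injective [Nontrivial U] (hM : Iso B M) {ρ : Module.End F W} (hρ : h.Act M ρ) :
    Function.Injective ρ := (injective_iff_map_eq_zero _).2 fun x e => h.gnd.2 x fun y => by
  rw [← hρ.preserves hM y x, e, map_zero]

theorem Act.surjective [Nontrivial U] (hM : Iso B M) {ρ : Module.End F W} (hρ : h.Act M ρ) :
    Function.Surjective ρ := LinearMap.injective_iff_surjective.1 (hρ.injective hM)

theorem c_act (hM : Iso B M) {ρ : Module.End F W} {k : V ≃ₗ[F] V} (hk : k ∈ M)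
    (ek : ∀ u x, k (h.tp u x) = h.tp u (ρ x)) (b : W) (T : V) : h.c (ρ b) (k T) = h.c b T :=
  h.ext_f fun u => by rw [h.pol_c, h.pol_c, ← ek, hM _ hk]

/-- Transport by an action on the second factor. -/
theorem _root_.CfsgLib.TensorSp.In.actB (hM : Iso B M) {ρ : Module.End F W} (hρ : h.Act M ρ) {a b : W} {D D' : Module.End F U}
    (hX : In M (h.P a b D + h.P b a D')) : In M (h.P (ρ a) (ρ b) D + h.P (ρ b) (ρ a) D') := by
  obtain ⟨k, hk, ek⟩ := hρ
  refine hX.conj hk fun T => ?_
  simp only [LinearMap.add_apply, map_add, P_apply, ek, c_act hM hk ek]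

theorem _root_.CfsgLib.TensorSp.In.actB₁ (hM : Iso B M) {ρ : Module.End F W} (hρ : h.Act M ρ) {a : W} {D : Module.End F U}
    (hX : In M (h.P a a D)) : In M (h.P (ρ a) (ρ a) D) := by
  obtain ⟨k, hk, ek⟩ := hρ
  exact hX.conj hk fun T => by simp only [P_apply, ek, c_act hM hk ek]

theorem c_swapAct (hM : Iso B M) {γ : Module.End F U} (hγ : Function.Surjective γ)
    (hγp : ∀ u u', h.fU (γ u) (γ u') = h.fU u u') {k : V ≃ₗ[F] V} (hk : k ∈ M)
    (ek : ∀ x u, k (h.swap.tp x u) = h.swap.tp x (γ u)) (b : W) (T : V) : h.c b (k T) = γ (h.c b T) :=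
  h.ext_f fun u => by
    obtain ⟨v, rfl⟩ := hγ u
    rw [hγp, h.pol_c, h.pol_c, ← hM _ hk (h.tp v b) T]
    exact congrArg (fun S => B S (k T)) (ek b v).symm

/-- Transport by an action on the first factor. -/
theorem _root_.CfsgLib.TensorSp.In.actBU [Nontrivial W] (hM : Iso B M) {γ : Module.End F U} (hγ : h.swap.Act M γ) {a b : W}
    {D D' E E' : Module.End F U} (e : γ * D = E * γ) (e' : γ * D' = E' * γ)
    (hX : In M (h.P a b D + h.P b a D')) : In M (h.P a b E + h.P b a E') := by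
  have hs := hγ.surjective hM
  have hp := hγ.preserves hM
  obtain ⟨k, hk, ek⟩ := hγ
  refine hX.conj hk fun T => ?_
  have ek' : ∀ u x, k (h.tp u x) = h.tp (γ u) x := fun u x => ek x u
  simp only [LinearMap.add_apply, map_add, P_apply, ek', c_swapAct hM hs hp hk ek]
  rw [show γ (D (h.c b T)) = E (γ (h.c b T)) from LinearMap.congr_fun e _,
    show γ (D' (h.c a T)) = E' (γ (h.c a T)) from LinearMap.congr_fun e' _]

variable (hG : h.Tau M)

include hG

/-- The symplectic transvections act. -/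
theorem act_tv (d : W) (s : F) : h.Act M (1 + s • (h.gW d).smulRight d) := by
  obtain ⟨k, hk, ek⟩ := hG.tau d s
  refine ⟨k, hk, fun u x => (ek _).trans ?_⟩
  simp only [LinearMap.smul_apply, P_apply, Module.End.one_apply, c_tp, map_smul, LinearMap.add_apply,
    LinearMap.smulRight_apply, map_add]

theorem exists_move {a b : W} (hab : h.gW b a ≠ 0) :
    ∃ ρ, h.Act M ρ ∧ ρ a = b ∧ ∀ x, h.gW (b - a) x = 0 → ρ x = x := by
  refine ⟨_, act_tv hG (b - a) (h.gW b a)⁻¹, ?_, fun x hx => by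
    simp only [LinearMap.add_apply, Module.End.one_apply, LinearMap.smul_apply, LinearMap.smulRight_apply, hx,
      zero_smul, smul_zero, add_zero]⟩
  have : h.gW (b - a) a = h.gW b a := by rw [map_sub, LinearMap.sub_apply, h.g_self, sub_zero]
  simp only [LinearMap.add_apply, Module.End.one_apply, LinearMap.smul_apply, LinearMap.smulRight_apply, this,
    smul_smul, inv_mul_cancel₀ hab, one_smul, add_sub_cancel]

/-- Transitivity on the vectors orthogonal to a fixed one. -/
theorem exists_move_fix {w a b : W} (haw : h.gW a w = 0) (hbw : h.gW b w = 0)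
    (ha : a ∉ Submodule.span F {w}) (hb : b ∉ Submodule.span F {w}) :
    ∃ ρ, h.Act M ρ ∧ ρ w = w ∧ ρ a = b := by
  obtain ⟨x, hxw, hxa, hxb⟩ := h.exists_common ha hb
  obtain ⟨ρ, hρ, e1, f1⟩ := exists_move hG hxa
  obtain ⟨σ, hσ, e2, f2⟩ := exists_move hG (a := x) (b := b) (fun e => hxb (h.g_swap_zero e))
  refine ⟨σ * ρ, hσ.mul hρ, ?_, by rw [Module.End.mul_apply, e1, e2]⟩
  rw [Module.End.mul_apply, f1 _ (by rw [map_sub, LinearMap.sub_apply, hxw, haw, sub_zero]),
    f2 _ (by rw [map_sub, LinearMap.sub_apply, hxw, hbw, sub_zero])]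

theorem exists_move_zero {a b : W} (ha : a ≠ 0) (hb : b ≠ 0) : ∃ ρ, h.Act M ρ ∧ ρ a = b := by
  obtain ⟨ρ, hρ, -, e⟩ := exists_move_fix hG (w := 0) (a := a) (b := b) (map_zero _) (map_zero _)
    (by rwa [Submodule.span_zero_singleton, Submodule.mem_bot])
    (by rwa [Submodule.span_zero_singleton, Submodule.mem_bot])
  exact ⟨ρ, hρ, e⟩

/-- Transitivity on isotropic independent pairs. -/
theorem exists_move_pair [Nontrivial U] {w v w' v' : W} (hwv : h.gW w v = 0) (hw : w ≠ 0)
    (hv : v ∉ Submodule.span F {w}) (hwv' : h.gW w' v' = 0) (hw' : w' ≠ 0) (hv' : v' ∉ Submodule.span F {w'}) :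
    ∃ ρ, h.Act M ρ ∧ ρ w = w' ∧ ρ v = v' := by
  obtain ⟨ρ, hρ, e⟩ := exists_move_zero hG hw hw'
  have hvw : h.gW (ρ v) w' = 0 := by rw [← e, hρ.preserves hG.iso]; exact h.g_swap_zero hwv
  have hm : ρ v ∉ Submodule.span F {w'} := fun hm => hv (by
    obtain ⟨s, hs⟩ := Submodule.mem_span_singleton.1 hm
    exact Submodule.mem_span_singleton.2 ⟨s, hρ.injective hG.iso (by rw [map_smul, e, hs])⟩)
  obtain ⟨σ, hσ, f1, f2⟩ := exists_move_fix hG hvw (h.g_swap_zero hwv') hm hv'
  exact ⟨σ * ρ, hσ.mul hρ, by rw [Module.End.mul_apply, e, f1], by rw [Module.End.mul_apply, f2]⟩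

end BData

namespace BData

variable (h : BData B U W)

/-- The endomorphisms `D` whose root elements at isotropic pairs lie in `M`. -/
def InD (M : Subgroup (V ≃ₗ[F] V)) (D : Module.End F U) : Prop :=
  ∃ D' : Module.End F U, (∀ u x, h.fU (D u) x = h.fU u (D' x)) ∧
    ∀ w v : W, w ≠ 0 → v ∉ Submodule.span F {w} → h.gW w v = 0 → In M (h.P w v D + h.P v w D')

/-- A rank one endomorphism. -/
def rk (x r : U) : Module.End F U := (h.fU r).smulRight x

theorem rk_apply (x r u : U) : h.rk x r u = h.fU r u • x := rfl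

theorem rk_mul (x r y s : U) : h.rk x r * h.rk y s = h.fU r y • h.rk x s := LinearMap.ext fun u => by
  simp [rk_apply, smul_smul, mul_comm]

theorem adj_symm {D D' : Module.End F U} (e : ∀ u x, h.fU (D u) x = h.fU u (D' x)) (u x : U) :
    h.fU (D' u) x = h.fU u (D x) := by
  rw [h.f_swap, ← e, ← h.f_swap]

theorem adj_unique {D D₁ D₂ : Module.End F U} (e₁ : ∀ u x, h.fU (D u) x = h.fU u (D₁ x))
    (e₂ : ∀ u x, h.fU (D u) x = h.fU u (D₂ x)) : D₁ = D₂ :=
  LinearMap.ext fun x => h.ext_f fun u => by rw [← e₁, e₂]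

variable {h}
variable [Nontrivial U] [Nontrivial W] (hG : h.Tau M)

/-- It suffices to have the root elements at the pairs with a given first vector. -/
theorem InD.of_single (hG : h.Tau M) {D D' : Module.End F U} (hadj : ∀ u x, h.fU (D u) x = h.fU u (D' x))
    {w : W} (hw : w ≠ 0)
    (H : ∀ v, h.gW w v = 0 → v ∉ Submodule.span F {w} → In M (h.P w v D + h.P v w D')) : h.InD M D := by
  refine ⟨D', hadj, fun w₁ v₁ hw₁ hv₁ hg₁ => ?_⟩
  obtain ⟨ρ, hρ, e⟩ := exists_move_zero hG hw hw₁
  obtain ⟨v, rfl⟩ := hρ.surjective hG.iso v₁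
  have := (H v (by rw [← hρ.preserves hG.iso, e]; exact hg₁) fun hm => hv₁ (by
    obtain ⟨s, rfl⟩ := Submodule.mem_span_singleton.1 hm
    exact Submodule.mem_span_singleton.2 ⟨s, by rw [map_smul, e]⟩)).actB hG.iso hρ
  rwa [e] at this

include hG

/-- A self-adjoint endomorphism giving an element of the root group of `A w`. -/
theorem InD.of_tau {G : Module.End F U} (hadj : ∀ u x, h.fU (G u) x = h.fU u (G x)) {w : W} (hw : w ≠ 0)
    (hX : In M (h.P w w G)) : h.InD M G := by
  have hall : ∀ a, a ≠ 0 → In M (h.P a a G) := fun a ha => by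
    obtain ⟨ρ, hρ, e⟩ := exists_move_zero hG hw ha
    have := hX.actB₁ hG.iso hρ
    rwa [e] at this
  refine ⟨G, hadj, fun a b ha hb hab => ?_⟩
  have hb0 : b ≠ 0 := fun e => hb (e ▸ zero_mem _)
  have hs0 : a + b ≠ 0 := fun e => hb (Submodule.mem_span_singleton.2 ⟨-1, by
    rw [neg_one_smul, eq_neg_of_add_eq_zero_left e, neg_neg]⟩)
  have hba := h.g_swap_zero hab
  have hz : ∀ {p q : W}, (p = a ∨ p = b) → (q = a ∨ q = b) → h.gW p q = 0 := by
    rintro p q (rfl | rfl) (rfl | rfl)
    exacts [h.g_self _, hab, hba, h.g_self _]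
  have h1 := (hall a ha).neg (h.P_mul_zero (h.g_self a) _ _ _ _)
  have h2 := (hall b hb0).neg (h.P_mul_zero (h.g_self b) _ _ _ _)
  have h3 := ((hall _ hs0).add h1 (by
    rw [P_add_add]; simp [add_mul, P_mul, hz, hab, hba, h.g_self])).add h2 (by
    rw [P_add_add]; simp [add_mul, P_mul, hz, hab, hba, h.g_self])
  rwa [P_add_add, show h.P a a G + h.P b b G + (h.P a b G + h.P b a G) + -h.P a a G + -h.P b b G =
    h.P a b G + h.P b a G by abel] at h3

theorem InD.scalar (s : F) : h.InD M (s • 1) := by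
  obtain ⟨w, hw⟩ := exists_ne (0 : W)
  refine InD.of_tau hG (fun u x => by simp) hw ?_
  rw [P_smul]; exact hG.tau w s

theorem InD.add {D E : Module.End F U} (hD : h.InD M D) (hE : h.InD M E) : h.InD M (D + E) := by
  obtain ⟨D', hD', hD⟩ := hD
  obtain ⟨E', hE', hE⟩ := hE
  refine ⟨D' + E', fun u x => by simp [map_add, hD', hE'], fun w v hw hv hwv => ?_⟩
  have := (hD w v hw hv hwv).add (hE w v hw hv hwv)
    (by simp [add_mul, mul_add, P_mul, h.g_self, hwv, h.g_swap_zero hwv])
  rwa [P_add, P_add, show h.P w v D + h.P w v E + (h.P v w D' + h.P v w E') =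
    h.P w v D + h.P v w D' + (h.P w v E + h.P v w E') by abel]

omit [Nontrivial U] [Nontrivial W] hG in
theorem InD.star {D D' : Module.End F U} (hD : h.InD M D) (e : ∀ u x, h.fU (D u) x = h.fU u (D' x)) :
    h.InD M D' := by
  obtain ⟨D₁, hD₁, hD⟩ := hD
  obtain rfl := h.adj_unique hD₁ e
  refine ⟨D, h.adj_symm e, fun w v hw hv hwv => ?_⟩
  have hv0 : v ≠ 0 := fun e => hv (e ▸ zero_mem _)
  have := hD v w hv0 (fun hm => hv (by
    obtain ⟨s, rfl⟩ := Submodule.mem_span_singleton.1 hm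
    have hs : s ≠ 0 := fun e => hw (by rw [e, zero_smul])
    exact Submodule.mem_span_singleton.2 ⟨s⁻¹, by rw [smul_smul, inv_mul_cancel₀ hs, one_smul]⟩))
    (h.g_swap_zero hwv)
  rwa [add_comm] at this

omit hG in
theorem exists_two {w c b : W} (hc : c ∉ Submodule.span F {w}) (hb : b ∉ Submodule.span F ({w, c} : Set W)) :
    ∃ x, h.gW x w = 0 ∧ h.gW x c = 0 ∧ h.gW x b = 1 := by
  obtain ⟨x₀, hx₀w, hx₀c⟩ := h.exists_perp_one hc
  obtain ⟨x, hxw, hxb⟩ := h.exists_perp_one (w := w) (v := b - h.gW x₀ b • c) (fun hm => hb (by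
    obtain ⟨s, hs⟩ := Submodule.mem_span_singleton.1 hm
    exact Submodule.mem_span_pair.2 ⟨s, h.gW x₀ b, by rw [hs, sub_add_cancel]⟩))
  refine ⟨x - h.gW x c • x₀, ?_, ?_, ?_⟩
  · simp [hxw, hx₀w]
  · simp [hx₀c]
  · simp only [map_sub, map_smul, smul_eq_mul] at hxb
    simp only [map_sub, map_smul, LinearMap.sub_apply, LinearMap.smul_apply, smul_eq_mul]
    linear_combination hxb

omit hG in
theorem exists_perp_two (h5 : 5 ≤ Module.finrank F W) (w c : W) :
    ∃ b, h.gW w b = 0 ∧ h.gW c b = 0 ∧ b ∉ Submodule.span F ({w, c} : Set W) := by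
  classical
  let φ : W →ₗ[F] F × F := (h.gW w).prod (h.gW c)
  have hk : 3 ≤ Module.finrank F (LinearMap.ker φ) := by
    have h1 := φ.finrank_range_add_finrank_ker
    have h2 := Submodule.finrank_le (LinearMap.range φ)
    rw [Module.finrank_prod, Module.finrank_self] at h2
    omega
  have hnle : ¬ LinearMap.ker φ ≤ Submodule.span F ({w, c} : Set W) := fun hle => by
    have h3 : Module.finrank F (Submodule.span F ({w, c} : Set W)) ≤ 2 := finrank_pair_le (F := F) w c
    have := Submodule.finrank_mono hle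
    omega
  obtain ⟨b, hb, hbn⟩ := SetLike.not_le_iff_exists.1 hnle
  exact ⟨b, congrArg Prod.fst (LinearMap.mem_ker.1 hb), congrArg Prod.snd (LinearMap.mem_ker.1 hb), hbn⟩

theorem InD.mul (h5 : 5 ≤ Module.finrank F W) {D E : Module.End F U} (hD : h.InD M D) (hE : h.InD M E) :
    h.InD M (D * E) := by
  obtain ⟨D', hD', hD⟩ := hD
  obtain ⟨E', hE', hE⟩ := hE
  refine ⟨E' * D', fun u x => by rw [Module.End.mul_apply, hD', hE', Module.End.mul_apply],
    fun w c hw hc hwc => ?_⟩
  obtain ⟨b, hwb, hcb, hb⟩ := exists_perp_two (h := h) h5 w c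
  obtain ⟨b', hb'w, hb'c, hb'b⟩ := exists_two (h := h) hc hb
  have hbw : b ∉ Submodule.span F {w} := fun hm => hb (Submodule.span_mono (by simp) hm)
  have hc0 : c ≠ 0 := fun e => hc (e ▸ zero_mem _)
  have hbc := h.g_swap_zero hcb
  have hbb' : h.gW b b' = -1 := by rw [h.g_swap, hb'b]
  have hb'0 : b' ≠ 0 := fun e => by rw [e, map_zero, LinearMap.zero_apply] at hb'b; exact zero_ne_one hb'b
  have hcb' : c ∉ Submodule.span F {b'} := fun hm => hc0 (by
    obtain ⟨s, rfl⟩ := Submodule.mem_span_singleton.1 hm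
    rw [map_smul, LinearMap.smul_apply, hb'b, smul_eq_mul, mul_one] at hcb
    rw [hcb, zero_smul])
  have hX := hD w b hw hbw hwb
  have hY := hE b' c hb'0 hcb' hb'c
  have hwb' := h.g_swap_zero hb'w
  have hcb'' := h.g_swap_zero hb'c
  have hcw := h.g_swap_zero hwc
  have hbw' := h.g_swap_zero hwb
  have hXX : (h.P w b D + h.P b w D') * (h.P w b D + h.P b w D') = 0 := by
    simp [add_mul, mul_add, P_mul, h.g_self, hwb, hbw']
  have hYY : (h.P b' c E + h.P c b' E') * (h.P b' c E + h.P c b' E') = 0 := by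
    simp [add_mul, mul_add, P_mul, h.g_self, hb'c, hcb'']
  have hXY : (h.P w b D + h.P b w D') * (h.P b' c E + h.P c b' E') = - h.P w c (D * E) := by
    simp [add_mul, mul_add, P_mul, hbb', hbc, hwb', hwc]
  have hYX : (h.P b' c E + h.P c b' E') * (h.P w b D + h.P b w D') = h.P c w (E' * D') := by
    simp [add_mul, mul_add, P_mul, hb'w, hb'b, hcw, hcb]
  have hZ := hX.comm hY hXX hYY (by rw [hXY]; simp [mul_add, P_mul, hcw, hcb])
    (by rw [hXY, hYX]; simp [sub_mul, mul_add, P_mul, hcb'', h.g_self, hwb', hwc])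
  rw [hXY, hYX] at hZ
  have := hZ.neg (by simp [sub_mul, mul_sub, P_mul, h.g_self, hwc, hcw])
  rwa [neg_sub, sub_neg_eq_add, add_comm] at this

theorem InD.smul (h5 : 5 ≤ Module.finrank F W) (s : F) {D : Module.End F U} (hD : h.InD M D) :
    h.InD M (s • D) := by
  have := (InD.scalar hG s).mul hG h5 hD
  rwa [smul_mul_assoc, one_mul] at this

theorem InD.sub (h5 : 5 ≤ Module.finrank F W) {D E : Module.End F U} (hD : h.InD M D) (hE : h.InD M E) :
    h.InD M (D - E) := by
  have := hD.add hG (hE.smul hG h5 (-1))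
  rwa [neg_one_smul, ← sub_eq_add_neg] at this

/-- Conjugation by the first factor. -/
theorem InD.conj {γ D : Module.End F U} (hγ : h.swap.Act M γ) (hD : h.InD M D) :
    ∃ E, h.InD M E ∧ γ * D = E * γ := by
  obtain ⟨D', hD', hD⟩ := hD
  let e := LinearEquiv.ofBijective γ ⟨hγ.injective hG.iso, hγ.surjective hG.iso⟩
  have he : ∀ u, e u = γ u := fun u => rfl
  let E : Module.End F U := γ ∘ₗ D ∘ₗ e.symm.toLinearMap
  let E' : Module.End F U := γ ∘ₗ D' ∘ₗ e.symm.toLinearMap
  have h1 : γ * D = E * γ := LinearMap.ext fun u => congrArg (fun v => γ (D v)) (e.symm_apply_apply u).symm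
  have h2 : γ * D' = E' * γ := LinearMap.ext fun u => congrArg (fun v => γ (D' v)) (e.symm_apply_apply u).symm
  have hp : ∀ u u', h.fU (γ u) (γ u') = h.fU u u' := hγ.preserves hG.iso
  refine ⟨E, ⟨E', fun u x => ?_, fun w v hw hv hwv => In.actBU hG.iso hγ h1 h2 (hD w v hw hv hwv)⟩, h1⟩
  obtain ⟨a, rfl⟩ := e.surjective u
  obtain ⟨b, rfl⟩ := e.surjective x
  simp only [E, E', LinearMap.comp_apply, LinearEquiv.coe_coe, LinearEquiv.symm_apply_apply]
  rw [he, he, hp, hp, hD']

end BData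

end CfsgLib.TensorWreathO
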