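import Cfsg.Agent.Lib.TensorWreathO.Cent

/-!
Characteristic two, at least six dimensions in a slot, no twisted roots: the isometries containing the roots of all
slots lie in the tensor wreath group.
-/

set_option autoImplicit false
set_option linter.unusedSectionVars false
set_option linter.unusedVariables false

namespace CfsgLib.TensorWreathO

open CfsgLib.Aschbacher CfsgLib.AschbacherForm CfsgLib.TensorWreath CfsgLib.TensorWreathSL
open CfsgLib.TensorWreathSU (un un_val un_conj oneAdd_slot std_slot_conj slotGL_comm)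
open scoped Matrix MatrixGroups

variable {F : Type*} [Field F] [Fintype F] {k s : ℕ} [NeZero k] {J₁ : GL (Fin k) F}
variable {M : Subgroup (GL (Fin (s + 1) → Fin k) F)}

theorem rank_add_le₂ {ι : Type} [Fintype ι] [DecidableEq ι] (A B : Matrix ι ι F) :
    (A + B).rank ≤ A.rank + B.rank := by
  rw [Matrix.rank, Matrix.rank, Matrix.rank, Matrix.mulVecLin_add]
  exact le_trans (Submodule.finrank_mono (LinearMap.range_add_le _ _))
    (Submodule.finrank_add_le_finrank_add_finrank _ _)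

theorem pure'_conj_slot_cj (A : Fin (s + 1) → GL (Fin k) F) (i : Fin (s + 1)) (a : Matrix (Fin k) (Fin k) F) :
    cj (pureGL A) (slot i a) = slot i (cj (A i) a) := by
  rw [cj_apply, cj_apply]; exact pure'_conj_slot A i a

/-- An involution of the tensor wreath group fixing the slots commutes with a root of the first slot. -/
theorem ELev.exists_fixed (hL : ELev J₁ M) {r : GL (Fin (s + 1) → Fin k) F} (hrM : r ∈ M)
    {A : Fin (s + 1) → GL (Fin k) F} (he : r = pureGL A) (hr2 : r * r = 1) :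
    ∃ R, IsRt J₁ 0 R ∧ cj r R = R := by
  classical
  obtain ⟨lam, -, hlam⟩ : ∃ c : F, c ≠ 0 ∧ ((A 0 * A 0 : GL (Fin k) F) : Matrix (Fin k) (Fin k) F) = c • 1 := by
    have h3 : (pureGL fun l => A l * A l : GL (Fin (s + 1) → Fin k) F) = 1 := by
      rw [AschbacherForm.pureGL_mul, ← he, hr2]
    have := pure_proportional (A := fun l => A l * A l) (B := fun _ => (1 : GL (Fin k) F)) (c := 1) (by
      rw [one_smul]
      simpa [pureGL, pure'_one] using congrArg Units.val h3) 0
    simpa using this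
  obtain ⟨p, hp⟩ := CharP.exists F
  have : Fact p.Prime := ⟨CharP.char_is_prime F p⟩
  obtain rfl : p = 2 := by
    have hdvd : p ∣ 2 := (CharP.cast_eq_zero_iff F p 2).1 (by exact_mod_cast hL.h2)
    exact (Nat.prime_dvd_prime_iff_eq Fact.out Nat.prime_two).1 hdvd
  obtain ⟨μ, hμ⟩ := (Finite.injective_iff_surjective.1 (frobenius_inj F 2)) lam
  rw [frobenius_def] at hμ
  set z : Fin k → F := Pi.single 0 1
  obtain ⟨w, hw0, hw⟩ : ∃ w : Fin k → F, w ≠ 0 ∧ (A 0 : Matrix (Fin k) (Fin k) F) *ᵥ w = μ • w := by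
    by_cases h0 : (A 0 : Matrix (Fin k) (Fin k) F) *ᵥ z + μ • z = 0
    · refine ⟨z, by simp [z], ?_⟩
      rw [eq_neg_of_add_eq_zero_left h0, ← neg_one_smul F (μ • z),
        show (-1 : F) = 1 by linear_combination -hL.h2, one_smul]
    · refine ⟨_, h0, ?_⟩
      rw [Matrix.mulVec_add, Matrix.mulVec_mulVec, ← Units.val_mul, hlam, Matrix.smul_mulVec, Matrix.one_mulVec,
        Matrix.mulVec_smul, smul_add, smul_smul, ← hμ, sq]
      abel
  set R : TMat F k (s + 1) := slot 0 (aR J₁ w) with hR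
  have hRt : IsRt J₁ (0 : Fin (s + 1)) R := IsRt.mk' hw0
  set φ : Fin k → F := fw J₁ w ᵥ* (↑(A 0)⁻¹ : Matrix (Fin k) (Fin k) F) with hφ
  have himg : cj r R = slot 0 (Matrix.vecMulVec (μ • w) φ) := by
    rw [he, hR, pure'_conj_slot_cj, aR, rk, cj_vmv, hw]
  obtain ⟨y, c, hy, hc, e⟩ := hL.root_of_perp hrM hRt hw0 (i := 0) (by
    rw [himg, ← slot_mul, aR, rk, vmv_smul_mul, dotProduct_smul, show fw J₁ w ⬝ᵥ w = fo J₁ w w from rfl,
      hL.fr.fo_zero, smul_zero, zero_smul, slot_zero])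
  rw [himg, ← slot_smul] at e
  obtain ⟨x, hx⟩ := exists_partner J₁ hy
  have h4 := congrArg (fun B => B *ᵥ x) (slot_injective 0 e)
  simp only [aR, Matrix.smul_mulVec, rk_mulVec, Matrix.vecMulVec_mulVec, op_smul_eq_smul, hx, one_smul,
    smul_smul] at h4
  set d := c⁻¹ * ((φ ⬝ᵥ x) * μ) with hd
  have hyw : y = d • w := by
    rw [hd, ← smul_smul c⁻¹, h4, inv_smul_smul₀ hc]
  have hR' : cj r R = (c * (d * d)) • R := by
    rw [himg, e, hR, ← slot_smul, hyw, aR, aR, rk_smul_left, rk_smul_right, smul_smul, smul_smul, mul_assoc]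
  have h1 : cj r (cj r R) = R := by rw [cj_cj, hr2, cj_one]
  rw [hR', map_smul, hR', smul_smul] at h1
  have hne : R ≠ 0 := (hRt.isRoot hL.fr).ne_zero
  have h2 : (c * (d * d)) * (c * (d * d)) = 1 := by
    have : ((c * (d * d)) * (c * (d * d)) - 1) • R = 0 := by rw [sub_smul, one_smul, h1, sub_self]
    exact sub_eq_zero.1 ((smul_eq_zero.1 this).resolve_right hne)
  refine ⟨R, hRt, ?_⟩
  rcases mul_self_eq_one_iff.1 h2 with h | h
  · rw [hR', h, one_smul]
  · rw [hR', h, show (-1 : F) = 1 by linear_combination -hL.h2, one_smul]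

/-- The inductive step in characteristic two. -/
theorem ELev.le_std (hL : ELev J₁ M) : M ≤ Std F k (s + 1) := by
  classical
  intro g hg
  by_contra hgs
  have hF := hL.fr
  set o : Fin k → F := Pi.single 0 1
  have ho : o ≠ 0 := by simp [o]
  obtain ⟨u, hou, -, hun⟩ := BData.exists_perp_two (h := sd hF 0)
    (by simpa using (by have := hL.h6; omega : 5 ≤ k)) o o
  have hu0 : u ≠ 0 := fun e => hun (e ▸ zero_mem _)
  have hou : fo J₁ o u = 0 := (BF_fo o u).symm.trans hou
  have huo : fo J₁ u o = 0 := by rw [hF.fo_neg, hou, neg_zero]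
  set N : Matrix (Fin k) (Fin k) F := aR J₁ o + aR J₁ u with hN
  have hsq : N * N = 0 := by
    rw [hN, aR, aR, add_mul, mul_add, mul_add, rk_mul, rk_mul, rk_mul, rk_mul, hF.fo_zero, hF.fo_zero, hou, huo]
    simp
  set X : TMat F k (s + 1) := slot 0 (aR J₁ o) with hXdef
  have hX : IsRt J₁ (0 : Fin (s + 1)) X := IsRt.mk' ho
  have hU : IsRt J₁ (0 : Fin (s + 1)) (slot 0 (aR J₁ u)) := IsRt.mk' hu0
  set P : TMat F k (s + 1) := slot 0 N with hPdef
  have hPsq : P * P = 0 := by rw [hPdef, ← slot_mul, hsq, slot_zero]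
  set p := oneAdd P hPsq with hpdef
  have hpM : p ∈ M := by
    have e : p = oneAdd X (hX.sq hF) * oneAdd (slot 0 (aR J₁ u)) (hU.sq hF) := Units.ext (by
      show 1 + P = (1 + X) * (1 + slot 0 (aR J₁ u))
      rw [add_mul, one_mul, mul_add, mul_one, hXdef, ← slot_mul, hPdef, hN, slot_add, aR, aR, rk_mul, hou, zero_smul,
        slot_zero]
      abel)
    rw [e]
    exact mul_mem (hX.oneAdd_mem hL) (hU.oneAdd_mem hL)
  have hpS : p = slotGL 0 (un N hsq) := oneAdd_slot 0 N hsq hPsq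
  have hp2 : p * p = 1 := oneAdd_sq_one hL.h2 hPsq
  have hnot : ∀ j, ¬ IsRt J₁ j P := by
    intro j hj
    have hj0 := (hj.isRoot hF).slot_eq N hPdef
    subst hj0
    obtain ⟨y, c, hy, hc, e⟩ := hj
    rw [hPdef, ← slot_smul] at e
    have e' := slot_injective 0 e
    obtain ⟨z, hz1, hz2⟩ := (sd hF 0).exists_perp_one (w := u) (v := o) (fun hm => hun (by
      obtain ⟨a, ha⟩ := Submodule.mem_span_singleton.1 hm
      have ha0 : a ≠ 0 := fun e => ho (by rw [← ha, e, zero_smul])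
      exact Submodule.mem_span_pair.2 ⟨a⁻¹, 0, by rw [zero_smul, add_zero, ← ha, inv_smul_smul₀ ha0]⟩))
    obtain ⟨z', hz1', hz2'⟩ := (sd hF 0).exists_perp_one (w := o) (v := u) (fun hm => hun (by
      obtain ⟨a, ha⟩ := Submodule.mem_span_singleton.1 hm
      exact Submodule.mem_span_pair.2 ⟨a, 0, by rw [zero_smul, add_zero, ha]⟩))
    have hb : ∀ {a b : Fin k → F}, (sd hF (0 : Fin (s + 1))).gW a b = fo J₁ a b := fun {a b} => BF_fo a b
    rw [hb] at hz1 hz2 hz1' hz2'
    have n1 : fo J₁ o z = -1 := by rw [hF.fo_neg, hz2]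
    have n2 : fo J₁ u z = 0 := by rw [hF.fo_neg, hz1, neg_zero]
    have n1' : fo J₁ o z' = 0 := by rw [hF.fo_neg, hz1', neg_zero]
    have n2' : fo J₁ u z' = -1 := by rw [hF.fo_neg, hz2']
    have a1 := congrArg (fun B => B *ᵥ z) e'
    have a2 := congrArg (fun B => B *ᵥ z') e'
    simp only [hN, aR, Matrix.add_mulVec, Matrix.smul_mulVec, rk_mulVec, n1, n2, n1', n2', smul_smul, zero_smul,
      add_zero, zero_add] at a1 a2
    refine hun (Submodule.mem_span_pair.2 ?_)
    by_cases hq : c * fo J₁ y z = 0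
    · exact absurd (by rw [hq, zero_smul, neg_one_smul, neg_eq_zero] at a1; exact a1) ho
    · exfalso
      refine hu0 ?_
      have ey : y = (c * fo J₁ y z)⁻¹ • ((-1 : F) • o) := by rw [a1, inv_smul_smul₀ hq]
      have : fo J₁ y z' = 0 := by rw [ey, fo_smul_left, fo_smul_left, n1', mul_zero, mul_zero]
      rw [this, mul_zero, zero_smul, neg_one_smul, neg_eq_zero] at a2
      exact a2
  set x := oneAdd X (hX.sq hF) with hx
  have hxM : x ∈ M := hX.oneAdd_mem hL
  set y := g * p * g⁻¹ with hy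
  have hyM : y ∈ M := mul_mem (mul_mem hg hpM) (inv_mem hg)
  have hy2 : y * y = 1 := by rw [hy, show g * p * g⁻¹ * (g * p * g⁻¹) = g * (p * p) * g⁻¹ by group, hp2, mul_one,
    mul_inv_cancel]
  have hcl : Subgroup.closure ({x, y} : Set (GL (Fin (s + 1) → Fin k) F)) ≤ M :=
    (Subgroup.closure_le _).2 (Set.pair_subset_iff.2 ⟨hxM, hyM⟩)
  rcases dihedral_alt (oneAdd_sq_one hL.h2 (hX.sq hF)) hy2 with ⟨v, hv, e⟩ | ⟨v, hv, hP, n, hz1, hz2, hzv, hn⟩
  · -- the element of higher rank is no conjugate of a root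
    have hh : v * g ∈ M := mul_mem (hcl hv) hg
    have e1 : cj (v * g) P = X := by
      refine oneAdd_inj (h := cj_sq _ hPsq) (h' := hX.sq hF) ?_
      rw [← oneAdd_conj _ hPsq, ← hpdef]
      refine Eq.trans ?_ e
      rw [hy]
      group
    have e2 : cj (v * g)⁻¹ X = P := by rw [← e1, cj_inv_cj]
    obtain ⟨j, hj⟩ := hL.root_in_std (inv_mem hh) hX (by
      rw [show oneAdd (cj (v * g)⁻¹ X) (cj_sq _ (hX.sq hF)) = p from Units.ext (by
        show 1 + cj (v * g)⁻¹ X = 1 + P
        rw [e2]), hpS]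
      exact slotGL_mem _ _)
    exact hnot j (e2 ▸ hj)
  have hvM : v ∈ M := hcl hv
  have : Fact (Nat.Prime 2) := ⟨Nat.prime_two⟩
  set h := v * g with hh
  have hhM : h ∈ M := mul_mem hvM hg
  set r := v * y * v⁻¹ with hr
  have hrM : r ∈ M := mul_mem (mul_mem hvM hyM) (inv_mem hvM)
  have hrh : r = h * p * h⁻¹ := by rw [hr, hy, hh]; group
  have hr2 : r * r = 1 := by rw [hrh, show h * p * h⁻¹ * (h * p * h⁻¹) = h * (p * p) * h⁻¹ by group, hp2, mul_one,
    mul_inv_cancel]
  have hPM : Subgroup.closure ({x, r} : Set (GL (Fin (s + 1) → Fin k) F)) ≤ M :=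
    (Subgroup.closure_le _).2 (Set.pair_subset_iff.2 ⟨hxM, hrM⟩)
  have hrS : r ∈ Std F k (s + 1) := hL.local_le hP hPM hX (Subgroup.subset_closure (Set.mem_insert _ _))
    (Subgroup.subset_closure (Set.mem_insert_of_mem _ rfl))
  obtain ⟨π, A, he, hπ⟩ := exists_rep_of_std hrS
  have hrk : (r.1 - 1).rank ≤ 2 * k ^ s := by
    rw [hrh, ← cj_val, hpdef, show (oneAdd P hPsq).1 = 1 + P from rfl, map_add, map_one, add_sub_cancel_left, rank_cj,
      hPdef, hN, slot_add]
    refine (rank_add_le₂ _ _).trans ?_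
    rw [hX.rank_eq hF, hU.rank_eq hF, two_mul]
  rw [perm_one hL.h6 hL.h2 he hπ hr2 hrk, AschbacherForm.permGL_one, one_mul] at he
  -- the conjugating element of the pair
  obtain ⟨R, hR, hrR⟩ := hL.exists_fixed hrM he hr2
  set q := h⁻¹ * oneAdd R (hR.sq hF) * h with hq
  have hqM : q ∈ M := mul_mem (mul_mem (inv_mem hhM) (hR.oneAdd_mem hL)) hhM
  have hqS : q ∈ Std F k (s + 1) := by
    refine hL.cent_slotGL (j := 0) (Z := un N hsq) (hpS ▸ hpM)
      (Units.ext (slot_injective (0 : Fin (s + 1)) ?_)) (fun e => ?_) hqM ?_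
    · have := congrArg Units.val hp2
      rw [hpS, Units.val_mul, slotGL_val, ← slot_mul, Units.val_one] at this
      rw [Units.val_mul, this, Units.val_one, slot_one]
    · have h1 : N = 0 := by
        have := congrArg Units.val e
        rwa [un_val, Units.val_one, add_eq_left] at this
      obtain ⟨z, hz⟩ := exists_partner J₁ hu0
      have a1 := congrArg (fun B => B *ᵥ z) h1
      simp only [hN, aR, Matrix.add_mulVec, rk_mulVec, hz, one_smul, Matrix.zero_mulVec] at a1
      exact hun (Submodule.mem_span_pair.2 ⟨-fo J₁ o z, 0, by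
        rw [zero_smul, add_zero, neg_smul, eq_neg_of_add_eq_zero_right a1]⟩)
    · rw [← hpS]
      have hc : r * oneAdd R (hR.sq hF) * r⁻¹ = oneAdd R (hR.sq hF) := by
        rw [oneAdd_conj]
        exact Units.ext (by show 1 + cj r R = 1 + R; rw [hrR])
      show q * p = p * q
      calc q * p = h⁻¹ * (oneAdd R (hR.sq hF) * r) * h := by rw [hq, hrh]; group
        _ = h⁻¹ * (r * oneAdd R (hR.sq hF)) * h := by
          nth_rw 1 [← hc]
          rw [inv_mul_cancel_right]
        _ = p * q := by rw [hq, hrh]; group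
  have hhS : h ∈ Std F k (s + 1) := by
    have e : oneAdd (cj h⁻¹ R) (cj_sq _ (hR.sq hF)) = q := by
      rw [← oneAdd_conj h⁻¹ (hR.sq hF), hq, inv_inv]
    have := hL.std_of_conj (inv_mem hhM) hR (e ▸ hqS)
    simpa using inv_mem this
  obtain ⟨τ, T, hτ, hT⟩ := std_slot_conj hhS
  obtain ⟨hsq', eN⟩ := un_conj hsq (T 0)
  have hrslot : r = slotGL (τ 0) (un (cj (T 0) N) hsq') := by rw [hrh, hpS, hT, eN]
  obtain ⟨Nx, hNx, -, -, eX⟩ := hX.exists_un hF
  refine hgs ?_
  rw [show g = v⁻¹ * h by rw [hh]; group]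
  refine mul_mem (inv_mem ?_) hhS
  rcases eq_or_ne (τ 0) 0 with h0 | h0
  · set Z := (un (cj (T 0) N) hsq' * un Nx hNx) ^ n with hZ
    have hz : (r * x) ^ n = slotGL 0 Z := by rw [hrslot, h0, hx, eX, hZ, map_pow, map_mul]
    have hzM : slotGL 0 Z ∈ M := hz ▸ pow_mem (mul_mem hrM hxM) n
    rw [hz] at hz1 hz2 hzv
    exact hL.cent_slotGL hzM
      (Units.ext (slot_injective (0 : Fin (s + 1)) (by
        have := congrArg Units.val hz2
        rwa [Units.val_mul, slotGL_val, ← slot_mul, Units.val_one,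
          ← slot_one (F := F) (d := k) (0 : Fin (s + 1))] at this)))
      (fun e => hz1 (by rw [e, map_one])) hvM hzv.symm
  · have hcomm : Commute r x := by rw [hrslot, hx, eX]; exact slotGL_comm h0 _ _
    rw [hn hcomm, pow_one, hrslot] at hzv
    exact hL.cent_two h0 hsq' hX hvM hzv.symm

/-- The slots of the others. -/
theorem Slots.comap {M : Subgroup (GL (Fin (s + 1 + 1) → Fin k) F)} (hM : Slots J₁ M) (hF : Frame J₁ (s + 1))
    (i : Fin (s + 1 + 1)) : Slots J₁ (M.comap (emb i)) := by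
  refine ⟨fun g hg => embM_injective i ?_, fun l u c => ?_⟩
  · have e := hM.iso (emb i g) hg
    rw [emb_val, trans_embM, JT_split i, ← mul_assoc, ← slot_embM_comm, mul_assoc, mul_assoc, ← map_mul,
      ← map_mul] at e
    rw [← mul_assoc] at e
    exact (slotGL i J₁).isUnit.mul_left_cancel e
  · obtain ⟨x, hx, e⟩ := hM.root (i.succAbove l) u c
    have hsq : (c • slot l (aR J₁ u)) * (c • slot l (aR J₁ u)) = 0 := by
      rw [Matrix.smul_mul, Matrix.mul_smul, ← slot_mul, hF.aR_sq, slot_zero, smul_zero, smul_zero]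
    obtain ⟨y, hy⟩ : ∃ y : GL (Fin (s + 1) → Fin k) F, y.1 = 1 + c • slot l (aR J₁ u) :=
      ⟨oneAdd _ hsq, rfl⟩
    refine ⟨y, ?_, hy⟩
    show emb i y ∈ M
    rwa [show emb i y = x from Units.ext (by
      rw [emb_val, hy, e, map_add, map_one, map_smul, embM_slot])]

theorem frame_two (h2 : (2 : F) = 0) (hskew : (J₁ : Matrix (Fin k) (Fin k) F)ᵀ = -(J₁ : Matrix (Fin k) (Fin k) F))
    (hdiag : ∀ a, (J₁ : Matrix (Fin k) (Fin k) F) a a = 0) {n : ℕ} (hn : 0 < n) : Frame J₁ n :=
  ⟨hskew, hdiag, by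
    have e : (-1 : F) = 1 := by linear_combination -h2
    rw [e, one_pow], hn⟩

/-- A twist of the other slots is a twist. -/
theorem Twist.of_comap {M : Subgroup (GL (Fin (s + 1 + 1) → Fin k) F)} (hF : Frame J₁ (s + 1)) (hF' : Frame J₁ s)
    (i : Fin (s + 1 + 1)) (h : Twist hF' (M.comap (emb i))) : Twist hF M := by
  obtain ⟨i', D, ⟨D', hD', hD⟩, hns⟩ := h
  set j := i.succAbove i'
  obtain ⟨C, rfl⟩ := Matrix.toLin'.surjective D
  have hC' : D' = Matrix.toLin' (adjJ (JT s J₁) C) := (sd hF' i').adj_unique hD' (adj_toLin C)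
  have hcent : ∀ B : TMat F k s, ∃ E, embM i (embM i' B) = embM j E := fun B => by
    refine (cent_iff j _).1 fun A => ?_
    rw [← embM_slot i i', ← map_mul, ← map_mul, slot_embM_comm]
  obtain ⟨E, hE⟩ := hcent C
  refine ⟨j, Matrix.toLin' E, ⟨Matrix.toLin' (adjJ (JT (s + 1) J₁) E), adj_toLin E, fun w v hw hv hwv => ?_⟩,
    toLin_ne_smul fun c e => hns c ?_⟩
  · have h1 := hD w v hw hv hwv
    rw [hC', P_eq, P_eq, ← map_add, in_iff] at h1
    obtain ⟨x, hx, ex⟩ := h1
    rw [P_eq, P_eq, ← map_add, in_iff]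
    refine ⟨emb i x, hx, ?_⟩
    have hE' : embM i (embM i' (adjJ (JT s J₁) C)) = embM j (adjJ (JT (s + 1) J₁) E) := by
      rw [← adj_embM, ← adj_embM, hE, adj_embM]
    rw [emb_val, ex, map_add, map_one, map_add, map_mul, map_mul, embM_slot, embM_slot, hE, hE']
  · have h2 : embM i (embM i' C) = embM i (embM i' (c • 1)) := by
      rw [hE, e, map_smul, map_one, map_smul, map_one, map_smul, map_one]
    rw [embM_injective i' (embM_injective i h2), map_smul, Matrix.toLin'_one]
    rfl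

/-- Characteristic two, without twists. -/
theorem le_std_even (h2 : (2 : F) = 0) (h6 : 6 ≤ k)
    (hskew : (J₁ : Matrix (Fin k) (Fin k) F)ᵀ = -(J₁ : Matrix (Fin k) (Fin k) F))
    (hdiag : ∀ a, (J₁ : Matrix (Fin k) (Fin k) F) a a = 0) :
    ∀ (s : ℕ) (M : Subgroup (GL (Fin (s + 1) → Fin k) F)), Slots J₁ M →
      (∀ hF : Frame J₁ s, ¬ Twist hF M) → M ≤ Std F k (s + 1) := by
  intro s
  induction s with
  | zero =>
    intro M _ _ g _
    refine std_of_rep (π := 1) Nat.one_pos fun i a =>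
      ⟨Matrix.of fun p q => cj g (slot i a) (fun _ => p) (fun _ => q), Matrix.ext fun x y => ?_⟩
    have hx : ∀ x : Fin 1 → Fin k, (fun _ => x i) = x := fun x => funext fun j => by
      rw [Subsingleton.elim (α := Fin 1) j i]
    show _ = slot i _ x y
    conv_rhs => rw [slot, Matrix.of_apply, Matrix.of_apply,
      if_pos (fun j hj => absurd (Subsingleton.elim (α := Fin 1) j i) hj)]
    rw [hx, hx]
  | succ s ih =>
    intro M hM hnt
    have hF : Frame J₁ (s + 1) := frame_two h2 hskew hdiag s.succ_pos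
    refine ELev.le_std ⟨hF, hM, h6, h2, hnt hF, fun i => ih _ (hM.comap hF i) fun hF' h => ?_⟩
    exact hnt hF (h.of_comap hF hF' i)

end CfsgLib.TensorWreathO
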