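import Cfsg.Agent.Lib.Classical.SympBasic
import Cfsg.Agent.Lib.OrthMax.TensorSp.Bridge

/-! The isometries of an alternating form are products of transvections. -/

set_option autoImplicit false
set_option linter.unusedSectionVars false
set_option linter.unusedVariables false

namespace CfsgLib.TensorWreathO

open CfsgLib.Classical
open scoped Matrix

variable {F U : Type*} [Field F] [Finite F] [AddCommGroup U] [Module F U] [FiniteDimensional F U]

/-- A symplectic matrix as a linear automorphism. -/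
noncomputable def spAct {m : ℕ} (S : Matrix.symplecticGroup (Fin m) F) :
    (Fin m ⊕ Fin m → F) ≃ₗ[F] (Fin m ⊕ Fin m → F) where
  toFun x := S.1.mulVec x
  invFun x := (S⁻¹).1.mulVec x
  map_add' x y := Matrix.mulVec_add _ x y
  map_smul' c x := Matrix.mulVec_smul _ c x
  left_inv x := by
    show (S⁻¹).1.mulVec (S.1.mulVec x) = x
    rw [← sp_mul_mulVec, inv_mul_cancel, sp_one_mulVec]
  right_inv x := by
    show S.1.mulVec ((S⁻¹).1.mulVec x) = x
    rw [← sp_mul_mulVec, mul_inv_cancel, sp_one_mulVec]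

theorem spAct_apply {m : ℕ} (S : Matrix.symplecticGroup (Fin m) F) (x : Fin m ⊕ Fin m → F) :
    spAct S x = S.1.mulVec x := rfl

/-- A group containing every transvection contains every isometry. -/
theorem isometry_mem_of_tv (B : LinearMap.BilinForm F U) (hA : B.IsAlt) (hnd : B.Nondegenerate)
    {H : Subgroup (U ≃ₗ[F] U)} (h : ∀ (v : U) (c : F), ∃ g ∈ H, ∀ x, g x = x + (c * B v x) • v)
    {g : U ≃ₗ[F] U} (hg : ∀ x y, B (g x) (g y) = B x y) : g ∈ H := by
  classical
  obtain ⟨m, b, h1, h2, h3⟩ := CfsgLib.Geometry.exists_sympBasis_of_nondeg hA (⊤ : Submodule F U)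
    (fun x _ hx => hnd.1 x fun y => hx y trivial)
  set E : (Fin m ⊕ Fin m → F) ≃ₗ[F] U :=
    (b.map (Submodule.topEquiv : (⊤ : Submodule F U) ≃ₗ[F] U)).equivFun.symm with hE
  have hEs : ∀ p, E (Pi.single p 1) = (b p : U) := fun p => by
    simp [hE, Module.Basis.equivFun_symm_apply, Pi.single_apply]
  have hform : ∀ u v, B (E u) (E v) = -sbil u v := by
    intro u v
    have hskew : ∀ x y, B x y = -B y x := fun x y => (LinearMap.BilinForm.IsAlt.neg_eq hA y x).symm
    have e : ∀ w : Fin m ⊕ Fin m → F, E w = ∑ p, w p • (b p : U) := fun w => by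
      conv_lhs => rw [show w = ∑ p, w p • (Pi.single p 1 : Fin m ⊕ Fin m → F) from
        funext fun q => by simp [Pi.single_apply]]
      simp [map_sum, map_smul, hEs]
    have e2 : B (E u) (E v) = ∑ p, ∑ q, u p * v q * B (b p : U) (b q : U) := by
      rw [e u, map_sum, LinearMap.sum_apply]
      refine Finset.sum_congr rfl fun p _ => ?_
      rw [map_smul, LinearMap.smul_apply, e v, map_sum, smul_eq_mul, Finset.mul_sum]
      refine Finset.sum_congr rfl fun q _ => ?_
      rw [map_smul, smul_eq_mul, mul_assoc]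
    have h4 : ∀ i j : Fin m, B (b (.inr i) : U) (b (.inl j) : U) = if i = j then -1 else 0 := fun i j => by
      rw [hskew, h1]
      rcases eq_or_ne i j with rfl | hij <;> simp [*, Ne.symm]
    rw [e2, sbil_apply]
    simp only [Fintype.sum_sum_type, h1, h2, h3, h4, mul_ite, mul_one, mul_zero, mul_neg, Finset.sum_const_zero,
      add_zero, zero_add, Finset.sum_ite_eq, Finset.mem_univ, if_true]
    rw [← Finset.sum_neg_distrib, ← Finset.sum_add_distrib]
    exact Finset.sum_congr rfl fun i _ => by ring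
  let Φ : Matrix.symplecticGroup (Fin m) F →* (U ≃ₗ[F] U) :=
    { toFun := fun S => E.symm.trans ((spAct S).trans E)
      map_one' := LinearEquiv.ext fun x => by simp [spAct_apply, sp_one_mulVec]
      map_mul' := fun S T => LinearEquiv.ext fun x => by simp [spAct_apply, sp_mul_mulVec] }
  have hΦ : ∀ S x, Φ S (E x) = E (S.1 *ᵥ x) := fun S x => by simp [Φ, spAct_apply]
  have hS : LinearMap.toMatrix' (E.symm.toLinearMap ∘ₗ g.toLinearMap ∘ₗ E.toLinearMap) ∈
      Matrix.symplecticGroup (Fin m) F := mem_symplecticGroup_iff_sbil.2 fun u v => by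
    rw [LinearMap.toMatrix'_mulVec, LinearMap.toMatrix'_mulVec, ← neg_inj, ← hform, ← hform]
    simp [hg]
  have htop : H.comap Φ = ⊤ := sp_eq_top_of_stv_mem _ fun a v => by
    obtain ⟨k, hk, ek⟩ := h (E v) (-a)
    show Φ (stv a v) ∈ H
    rwa [show Φ (stv a v) = k from LinearEquiv.ext fun y => by
      obtain ⟨x, rfl⟩ := E.surjective y
      rw [hΦ, stv_mulVec, ek, hform, map_add, map_smul, neg_mul_neg]]
  have hm : Φ ⟨_, hS⟩ ∈ H := Subgroup.mem_comap.1 (htop ▸ Subgroup.mem_top _)
  rwa [show Φ ⟨_, hS⟩ = g from LinearEquiv.ext fun y => by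
    obtain ⟨x, rfl⟩ := E.surjective y
    rw [hΦ, LinearMap.toMatrix'_mulVec]
    simp] at hm

end CfsgLib.TensorWreathO
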