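import Cfsg.Agent.Lib.TensorWreathO.Odd
import Cfsg.Agent.Lib.TensorWreathO.SpGen
import Cfsg.Agent.Lib.TensorWreathSL.Final
import Cfsg.Agent.Lib.OrthMax.Bridge
import Cfsg.Agent.Lib.Geometry.GeoOmega

/-!
The tensor wreath group of a symplectic form meets `Ω` in a maximal subgroup.
-/

set_option autoImplicit false
set_option linter.unusedSectionVars false
set_option linter.unusedVariables false
set_option linter.unusedSimpArgs false

namespace CfsgLib.TensorWreathO

open CfsgLib.Aschbacher CfsgLib.AschbacherForm CfsgLib.TensorWreath CfsgLib.TensorWreathSL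
open CfsgLib.TensorSp (In TData)
open QuadraticMap CfsgLib.Geometry CfsgLib.OrthMax
open Cfsg.Geo (IsMaximalIn)
open scoped Matrix MatrixGroups

variable {F : Type*} [Field F] [Fintype F]

theorem eqv_surjective {ι : Type} [Fintype ι] [DecidableEq ι] : Function.Surjective (eqv (F := F) (ι := ι)) :=
  fun g => by
    obtain ⟨a, rfl⟩ := (LinearMap.GeneralLinearGroup.generalLinearEquiv F (ι → F)).surjective g
    obtain ⟨b, rfl⟩ := Matrix.GeneralLinearGroup.toLin.surjective a
    exact ⟨b, rfl⟩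

section model

variable {k s : ℕ} [NeZero k] {J₁ : GL (Fin k) F} {Qs : QuadraticForm F ((Fin (s + 1) → Fin k) → F)}

/-- The matrices acting as elements of the Siegel group. -/
noncomputable def omS {ι : Type} [Fintype ι] [DecidableEq ι] (Q : QuadraticForm F (ι → F)) : Subgroup (GL ι F) :=
  (siegelGroup Q).comap eqv

theorem map_omS {ι : Type} [Fintype ι] [DecidableEq ι] (Q : QuadraticForm F (ι → F)) :
    (omS Q).map eqv = siegelGroup Q := Subgroup.map_comap_eq_self_of_surjective eqv_surjective _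

variable (hF : Frame J₁ s) (hB : ∀ x y, polar Qs x y = BF (JT (s + 1) J₁ : TMat F k (s + 1)) x y)
  (hsing : ∀ i u w, Qs (tpL i u w) = 0)

include hF hB hsing

/-- A slot against the rest, as a tensor product with singular pure tensors. -/
noncomputable def td (i : Fin (s + 1)) : TData Qs ((Fin s → Fin k) → F) (Fin k → F) where
  tp := tpL i
  fU := (sd hF i).fU
  gW := (sd hF i).gW
  fAlt := (sd hF i).fAlt
  gAlt := (sd hF i).gAlt
  fnd := (sd hF i).fnd
  gnd := (sd hF i).gnd
  pol u u' w w' := by rw [hB]; exact (sd hF i).pol u u' w w'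
  sing := hsing i
  sep T hT := (sd hF i).sep T fun u w => by rw [← hB]; exact hT u w

/-- The root elements of a slot lie in the group. -/
theorem root_mem (i : Fin (s + 1)) (u : Fin k → F) (c : F) :
    ∃ g ∈ Std F k (s + 1) ⊓ omS Qs, g.1 = 1 + c • slot i (aR J₁ u) := by
  have hsq : (c • aR J₁ u) * (c • aR J₁ u) = 0 := by
    rw [smul_mul_smul_comm, hF.aR_sq, smul_zero]
  let A : GL (Fin k) F := ⟨1 + c • aR J₁ u, 1 - c • aR J₁ u,
    by rw [add_mul, one_mul, mul_sub, mul_one, hsq, sub_zero, sub_add_cancel],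
    by rw [sub_mul, one_mul, mul_add, mul_one, hsq, add_zero, add_sub_cancel_right]⟩
  have hA : (slotGL i A : GL (Fin (s + 1) → Fin k) F).1 = 1 + c • slot i (aR J₁ u) := by
    rw [slotGL_val, show (A : Matrix (Fin k) (Fin k) F) = 1 + c • aR J₁ u from rfl, TensorWreath.slot_one_add]
  refine ⟨slotGL i A, ⟨slotGL_mem i A, ?_⟩, hA⟩
  obtain ⟨τ, hτ, e⟩ := (td hF hB hsing i).tau_siegel u c
  show eqv (slotGL i A) ∈ siegelGroup Qs
  rwa [show eqv (slotGL i A) = τ from LinearEquiv.toLinearMap_injective (ext_tp i fun v x => by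
    show (slotGL i A).1 *ᵥ tpL i v x = τ (tpL i v x)
    rw [e, hA, Matrix.add_mulVec, Matrix.one_mulVec, Matrix.smul_mulVec, LinearMap.smul_apply, TData.P_apply,
      show tpL i v x = (td hF hB hsing i).tp v x from rfl, TData.c_tp, Module.End.one_apply]
    congr 2
    show slot i (aR J₁ u) *ᵥ tpL i v x = tpL i (BF (J₁ : Matrix (Fin k) (Fin k) F) u x • v) u
    rw [← mul_one (slot i (aR J₁ u) : TMat F k (s + 1)), ← map_one (embM (F := F) (m := k) i), slot_embM_mulVec,
      Matrix.one_mulVec, aR, rk_mulVec, BF_fo]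
    simp only [map_smul, LinearMap.smul_apply])]

/-- The isometries of all slots but one lie in the group. -/
theorem emb_mem (i : Fin (s + 1)) {g : GL (Fin s → Fin k) F}
    (hg : g.1ᵀ * (JT s J₁ : TMat F k s) * g.1 = (JT s J₁ : TMat F k s)) : emb i g ∈ omS Qs := by
  set B := BF (JT s J₁ : TMat F k s)
  have hmem : eqv g ∈ ((omS Qs).comap (emb i)).map eqv := by
    refine isometry_mem_of_tv B hF.alt_rest (BF_nondeg _) (fun v c => ?_) fun x y => ?_
    · have hsq : (c • Matrix.vecMulVec v (v ᵥ* (JT s J₁ : TMat F k s))) *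
          (c • Matrix.vecMulVec v (v ᵥ* (JT s J₁ : TMat F k s))) = 0 := by
        rw [smul_mul_smul_comm, Matrix.vecMulVec_mul_vecMulVec, ← Matrix.dotProduct_mulVec, ← BF_apply,
          hF.alt_rest]
        simp
      refine ⟨eqv (oneAdd _ hsq), ⟨oneAdd _ hsq, ?_, rfl⟩, fun x => ?_⟩
      · obtain ⟨τ, hτ, e⟩ := (td hF hB hsing i).swap.tau_siegel v c
        show eqv (emb i (oneAdd _ hsq)) ∈ siegelGroup Qs
        rwa [show eqv (emb i (oneAdd _ hsq)) = τ from LinearEquiv.toLinearMap_injective (ext_tp i fun u w => by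
          show (emb i (oneAdd _ hsq)).1 *ᵥ tpL i u w = τ (tpL i u w)
          rw [e, emb_val, ← one_mul (embM i (oneAdd _ hsq).1), ← slot_one i, slot_embM_mulVec, Matrix.one_mulVec,
            show (oneAdd (c • Matrix.vecMulVec v (v ᵥ* (JT s J₁ : TMat F k s))) hsq).1 =
              1 + c • Matrix.vecMulVec v (v ᵥ* (JT s J₁ : TMat F k s)) from rfl,
            Matrix.add_mulVec, Matrix.one_mulVec, Matrix.smul_mulVec, Matrix.vecMulVec_mulVec, op_smul_eq_smul,
            map_add, map_smul, map_smul, LinearMap.add_apply, LinearMap.smul_apply, LinearMap.smul_apply,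
            LinearMap.smul_apply, TData.P_apply, show tpL i u w = (td hF hB hsing i).swap.tp w u from rfl, TData.c_tp,
            Module.End.one_apply, map_smul, LinearMap.smul_apply]
          congr 2
          show _ = B v u • _
          rw [BF_apply, Matrix.dotProduct_mulVec]
          rfl)]
      · rw [eqv_apply, show (oneAdd (c • Matrix.vecMulVec v (v ᵥ* (JT s J₁ : TMat F k s))) hsq).1 =
          1 + c • Matrix.vecMulVec v (v ᵥ* (JT s J₁ : TMat F k s)) from rfl, Matrix.add_mulVec, Matrix.one_mulVec,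
          Matrix.smul_mulVec, Matrix.vecMulVec_mulVec, op_smul_eq_smul, smul_smul, BF_apply,
          Matrix.dotProduct_mulVec]
    · rw [BF_apply, BF_apply, eqv_apply, eqv_apply, ← Matrix.vecMul_transpose, ← Matrix.dotProduct_mulVec,
        Matrix.mulVec_mulVec, Matrix.mulVec_mulVec, hg]
  obtain ⟨g', hg', e⟩ := hmem
  exact eqv_injective e ▸ hg'

/-- A group between the stabiliser and `Ω` is the stabiliser or `Ω`. -/
theorem cases_of_le (hk : ((2 : F) = 0 → 6 ≤ k)) (hk3 : ¬ (Fintype.card F = 3 ∧ k = 2)) (hn : 13 ≤ k ^ (s + 1))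
    {M : Subgroup (GL (Fin (s + 1) → Fin k) F)} (hHM : Std F k (s + 1) ⊓ omS Qs ≤ M) (hMG : M ≤ omS Qs) :
    M ≤ Std F k (s + 1) ∨ omS Qs ≤ M := by
  have hle : M.map eqv ≤ orth Qs := (Subgroup.map_mono hMG).trans (map_omS Qs ▸ siegelGroup_le_orth)
  have hM : Slots J₁ M := by
    refine ⟨fun g hg => Matrix.ext fun a b => ?_, fun i u c => ?_⟩
    · have h1 := orth_polar (hle ⟨g, hg, rfl⟩) (Pi.single a 1) (Pi.single b 1)
      rw [hB, hB, BF_apply, BF_apply, eqv_apply, eqv_apply, ← Matrix.vecMul_transpose, ← Matrix.dotProduct_mulVec,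
        Matrix.mulVec_mulVec, Matrix.mulVec_mulVec] at h1
      simpa using h1
    · obtain ⟨g, hg, e⟩ := root_mem hF hB hsing i u c
      exact ⟨g, hHM hg, e⟩
  have hsw : ∀ (i : Fin (s + 1)) (a b : Fin s), emb i (permGL (Equiv.swap a b)) ∈ M := fun i a b => by
    refine hHM ⟨?_, emb_mem hF hB hsing i (TensorWreath.pres_perm J₁ _)⟩
    rw [TensorWreathSU.emb_permGL i _ (Equiv.swap (i.succAbove a) (i.succAbove b))
      (Equiv.swap_apply_of_ne_of_ne (Fin.succAbove_ne i a).symm (Fin.succAbove_ne i b).symm)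
      fun z => (Fin.succAbove_right_injective (p := i)).swap_apply a b z]
    exact permGL_mem _
  suffices h : M ≤ Std F k (s + 1) ∨ siegelGroup Qs ≤ M.map eqv by
    rcases h with h | h
    · exact Or.inl h
    · refine Or.inr fun g hg => ?_
      obtain ⟨m, hm, e⟩ := h hg
      exact eqv_injective e ▸ hm
  by_cases h2 : (2 : F) = 0
  · have h6 := hk h2
    by_cases ht : Twist hF M
    · refine Or.inr ?_
      obtain ⟨i, hall⟩ := Twist.all hM hF (by omega) hsw ht
      refine siegel_le_of_all (sd hF i) hB (hsing i) ?_ hle (by simp; omega) hall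
      rw [show polarBilin Qs = BF (JT (s + 1) J₁ : TMat F k (s + 1)) from
        LinearMap.ext fun x => LinearMap.ext fun y => hB x y]
      exact BF_nondeg _
    · exact Or.inl (le_std_even h2 h6 hF.skew hF.diag s M hM fun _ => ht)
  · exact odd_cases hM hF h2 hk3 hn hsw hB hsing hle

end model

section proper

variable {k s : ℕ} [NeZero k] {J₁ : GL (Fin k) F}

/-- A pure vector. -/
def pvec (x : Fin s → Fin k → F) : (Fin s → Fin k) → F := fun a => ∏ j, x j (a j)

theorem BF_pvec (p x : Fin s → Fin k → F) :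
    BF (JT s J₁ : TMat F k s) (pvec p) (pvec x) = ∏ j, fo J₁ (p j) (x j) := by
  rw [BF_apply]
  simp only [pvec, fo, fw, Matrix.vecMul, Matrix.mulVec, dotProduct, Finset.mul_sum, Finset.sum_mul]
  rw [Finset.sum_comm, Fintype.prod_sum]
  refine Finset.sum_congr rfl fun b _ => ?_
  rw [Fintype.prod_sum]
  refine Finset.sum_congr rfl fun a _ => ?_
  show (∏ j, p j (a j)) * ((∏ j, (J₁ : Matrix (Fin k) (Fin k) F) (a j) (b j)) * _) = _
  rw [← mul_assoc, ← Finset.prod_mul_distrib, ← Finset.prod_mul_distrib]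

theorem pvec_tpL (i : Fin (s + 1)) (x : Fin (s + 1) → Fin k → F) :
    pvec x = tpL i (pvec fun j => x (i.succAbove j)) (x i) := by
  funext a
  show ∏ j, x j (a j) = (∏ j, x (i.succAbove j) (i.removeNth a j)) * x i (a i)
  rw [Fin.prod_univ_succAbove _ i, mul_comm]
  rfl

theorem std_pvec {g : GL (Fin s → Fin k) F} (hg : g ∈ Std F k s) (x : Fin s → Fin k → F) :
    ∃ y, g.1 *ᵥ pvec x = pvec y := by
  obtain ⟨π, A, rfl, -⟩ := exists_rep_of_std hg
  refine ⟨fun j => (A (π.symm j) : Matrix (Fin k) (Fin k) F) *ᵥ x (π.symm j), ?_⟩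
  rw [Units.val_mul, ← Matrix.mulVec_mulVec]
  show ((permGL π : GL (Fin s → Fin k) F) : TMat F k s) *ᵥ
    (pure' (fun i => (A i : Matrix (Fin k) (Fin k) F)) *ᵥ fun a => ∏ j, x j (a j)) = _
  rw [TensorWreath.pure_mulVec]
  funext a
  simp only [pvec, permGL, Matrix.mulVec, dotProduct, Matrix.of_apply, ite_mul, one_mul, zero_mul,
    Finset.sum_ite_eq', Finset.mem_univ, if_true, Function.comp_apply]
  exact Fintype.prod_equiv π _ _ fun j => by simp

variable {Qs : QuadraticForm F ((Fin (s + 1) → Fin k) → F)}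

/-- Some element of the Siegel group moves a pure vector to a vector which is not pure. -/
theorem exists_notMem_std (hF : Frame J₁ s) (hB : ∀ x y, polar Qs x y = BF (JT (s + 1) J₁ : TMat F k (s + 1)) x y)
    (hsing : ∀ i u w, Qs (tpL i u w) = 0) (hn : 13 ≤ k ^ (s + 1)) : ∃ g ∈ omS Qs, g ∉ Std F k (s + 1) := by
  classical
  have hk1 : k ≠ 1 := fun e => by subst e; simp at hn
  have hk0 : k ≠ 0 := NeZero.ne k
  set d := sd hF (0 : Fin (s + 1)) with hd
  have hsk := hF.fo_neg
  set e₀ : Fin k → F := Pi.single 0 1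
  have he₀ : e₀ ≠ 0 := by simp [e₀]
  obtain ⟨f, hf⟩ := exists_partner J₁ he₀
  have hfe : fo J₁ f e₀ = -1 := by rw [hsk, hf]
  have hs0 := hF.pos
  let one' : Fin (s + 1) := (0 : Fin (s + 1)).succAbove ⟨0, hs0⟩
  -- the two factors in which the image is mixed
  obtain ⟨a₀, T₁, ha₀, hae, hT1, hT1f, hzero⟩ : ∃ a₀ T₁ : Fin k → F,
      (∀ α β : F, α • f + β • a₀ = 0 → α = 0 ∧ β = 0) ∧ fo J₁ e₀ a₀ = 0 ∧ fo J₁ T₁ e₀ ≠ 0 ∧
        (∀ α β : F, α • T₁ + β • f = 0 → α = 0 ∧ β = 0) ∧ (1 < s ∨ fo J₁ T₁ f = 0) := by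
    by_cases hs1 : 1 < s
    · refine ⟨e₀, e₀ + f, fun α β h => ?_, hF.fo_zero _, ?_, fun α β h => ?_, Or.inl hs1⟩
      · have h1 := congrArg (fo J₁ e₀) h
        have h2 := congrArg (fo J₁ f) h
        rw [fo_add_right, fo_smul_right, fo_smul_right, hf, hF.fo_zero, show fo J₁ e₀ 0 = 0 by simp [fo]] at h1
        rw [fo_add_right, fo_smul_right, fo_smul_right, hF.fo_zero, hfe, show fo J₁ f 0 = 0 by simp [fo]] at h2
        exact ⟨by linear_combination h1, by linear_combination -h2⟩
      · rw [fo_add_left, hF.fo_zero, hfe, zero_add]; exact neg_ne_zero.2 one_ne_zero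
      · have h1 := congrArg (fo J₁ e₀) h
        have h2 := congrArg (fo J₁ f) h
        rw [fo_add_right, fo_smul_right, fo_smul_right, fo_add_right, hf, hF.fo_zero,
          show fo J₁ e₀ 0 = 0 by simp [fo]] at h1
        rw [fo_add_right, fo_smul_right, fo_smul_right, fo_add_right, hF.fo_zero, hfe,
          show fo J₁ f 0 = 0 by simp [fo]] at h2
        exact ⟨by linear_combination -h2, by linear_combination h1 + h2⟩
    · obtain rfl : s = 1 := by omega
      have h4 : 4 ≤ k := by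
        by_contra hlt
        have : k ^ (1 + 1) ≤ 3 ^ (1 + 1) := Nat.pow_le_pow_left (by omega) _
        omega
      let φ : (Fin k → F) →ₗ[F] F × F := (d.gW e₀).prod (d.gW f)
      have hker : LinearMap.ker φ ≠ ⊥ := fun e => by
        have h1 := φ.finrank_range_add_finrank_ker
        have h2 := Submodule.finrank_le (LinearMap.range φ)
        rw [Module.finrank_prod, Module.finrank_self] at h2
        rw [e, finrank_bot, Module.finrank_fintype_fun_eq_card, Fintype.card_fin] at h1
        omega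
      obtain ⟨x, hx, hx0⟩ := Submodule.exists_mem_ne_zero_of_ne_bot hker
      have hex : fo J₁ e₀ x = 0 := (BF_fo e₀ x).symm.trans (congrArg Prod.fst (LinearMap.mem_ker.1 hx))
      have hfx : fo J₁ f x = 0 := (BF_fo f x).symm.trans (congrArg Prod.snd (LinearMap.mem_ker.1 hx))
      refine ⟨x, f + x, fun α β h => ?_, hex, ?_, fun α β h => ?_, Or.inr ?_⟩
      · have h1 := congrArg (fo J₁ e₀) h
        rw [fo_add_right, fo_smul_right, fo_smul_right, hf, hex, show fo J₁ e₀ 0 = 0 by simp [fo]] at h1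
        have hα : α = 0 := by linear_combination h1
        rw [hα, zero_smul, zero_add, smul_eq_zero] at h
        exact ⟨hα, h.resolve_right hx0⟩
      · rw [fo_add_left, hfe, hsk x e₀, hex, neg_zero, add_zero]; exact neg_ne_zero.2 one_ne_zero
      · have h1 := congrArg (fo J₁ e₀) h
        rw [fo_add_right, fo_smul_right, fo_smul_right, fo_add_right, hf, hex, show fo J₁ e₀ 0 = 0 by simp [fo]] at h1
        have hβ : β = -α := by linear_combination h1
        rw [hβ, smul_add, neg_smul, add_neg_cancel_comm, smul_eq_zero] at h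
        have hα := h.resolve_right hx0
        exact ⟨hα, by rw [hβ, hα, neg_zero]⟩
      · rw [fo_add_left, hF.fo_zero, hsk x f, hfx, neg_zero, add_zero]
  set E : Fin (s + 1) → Fin k → F := fun _ => e₀
  set W : Fin (s + 1) → Fin k → F := fun j => if j = 0 then a₀ else f
  set T : Fin (s + 1) → Fin k → F := fun j => if j = 0 then f else if j = one' then T₁ else f
  have hone : one' ≠ 0 := Fin.succAbove_ne _ _
  have hTE : BF (JT (s + 1) J₁ : TMat F k (s + 1)) (pvec T) (pvec E) ≠ 0 := by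
    rw [BF_pvec]
    refine Finset.prod_ne_zero_iff.2 fun j _ => ?_
    by_cases h0 : j = 0
    · simp [T, E, h0, hfe]
    by_cases h1 : j = one'
    · simp [T, E, h1, hone, hT1]
    · simp [T, E, h0, h1, hfe]
  have hTW : BF (JT (s + 1) J₁ : TMat F k (s + 1)) (pvec T) (pvec W) = 0 := by
    rw [BF_pvec]
    rcases hzero with hs1 | h
    · let two' : Fin (s + 1) := (0 : Fin (s + 1)).succAbove ⟨1, hs1⟩
      have h20 : two' ≠ 0 := Fin.succAbove_ne _ _
      have h21 : two' ≠ one' := fun e => by simpa [Fin.ext_iff] using Fin.succAbove_right_injective e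
      exact Finset.prod_eq_zero (Finset.mem_univ two') (by simp [T, W, h20, h21, hF.fo_zero])
    · exact Finset.prod_eq_zero (Finset.mem_univ one') (by simp [T, W, hone, h])
  have hEW : polar Qs (pvec E) (pvec W) = 0 := by
    rw [hB, BF_pvec]
    exact Finset.prod_eq_zero (Finset.mem_univ 0) (by simp [E, W, hae])
  have hQE : Qs (pvec E) = 0 := by rw [pvec_tpL 0]; exact hsing _ _ _
  have hQW : Qs (pvec W) = 0 := by rw [pvec_tpL 0]; exact hsing _ _ _
  obtain ⟨g, hg⟩ := eqv_surjective (siegel Qs (pvec E) (pvec W) hQE hEW)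
  refine ⟨g, show eqv g ∈ siegelGroup Qs from hg ▸ siegel_mem _ _ _ _, fun hstd => ?_⟩
  obtain ⟨y, hy⟩ := std_pvec hstd T
  set c := BF (JT (s + 1) J₁ : TMat F k (s + 1)) (pvec T) (pvec E) with hc
  have himg : pvec y = pvec T + c • pvec W := by
    rw [← hy, ← eqv_apply, hg, siegel_apply, hB, hB, hTW, hQW]
    simp [hc]
  rw [pvec_tpL 0 y, pvec_tpL 0 T, pvec_tpL 0 W] at himg
  set uT := pvec fun j => T ((0 : Fin (s + 1)).succAbove j)
  set uW := pvec fun j => W ((0 : Fin (s + 1)).succAbove j)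
  set uy := pvec fun j => y ((0 : Fin (s + 1)).succAbove j)
  have hproj : ∀ z, fo J₁ z (T 0) • uT + (c * fo J₁ z (W 0)) • uW = fo J₁ z (y 0) • uy := fun z => by
    have h1 := congrArg (d.c z) himg
    rw [map_add, map_smul, show tpL (0 : Fin (s + 1)) uy (y 0) = d.tp uy (y 0) from rfl,
      show tpL (0 : Fin (s + 1)) uT (T 0) = d.tp uT (T 0) from rfl,
      show tpL (0 : Fin (s + 1)) uW (W 0) = d.tp uW (W 0) from rfl, d.c_tp, d.c_tp, d.c_tp, smul_smul] at h1
    simpa only [hd, sd, BF_fo] using h1.symm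
  have ha0 : a₀ ≠ 0 := fun h => one_ne_zero (α := F) (ha₀ 0 1 (by rw [h]; simp)).2
  have hf0 : f ≠ 0 := fun h => one_ne_zero (α := F) (ha₀ 1 0 (by rw [h]; simp)).1
  obtain ⟨z₁, hz1, hz1'⟩ := d.exists_perp_one (w := a₀) (v := f) fun hm => by
    obtain ⟨α, hα⟩ := Submodule.mem_span_singleton.1 hm
    exact neg_ne_zero.2 one_ne_zero ((ha₀ (-1) α (by rw [hα]; simp)).1)
  obtain ⟨z₂, hz2, hz2'⟩ := d.exists_perp_one (w := f) (v := a₀) fun hm => by
    obtain ⟨α, hα⟩ := Submodule.mem_span_singleton.1 hm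
    exact neg_ne_zero.2 one_ne_zero ((ha₀ α (-1) (by rw [hα]; simp)).2)
  simp only [hd, sd, BF_fo] at hz1 hz1' hz2 hz2'
  have hT0 : T 0 = f := by simp [T]
  have hW0 : W 0 = a₀ := by simp [W]
  have e1 := hproj z₁
  have e2 := hproj z₂
  rw [hT0, hW0, hz1, hz1', mul_zero, zero_smul, add_zero, one_smul] at e1
  rw [hT0, hW0, hz2, hz2', zero_smul, zero_add, mul_one] at e2
  set α := fo J₁ z₁ (y 0)
  set β := fo J₁ z₂ (y 0)
  have hdep : β • uT + (-(α * c)) • uW = 0 := by
    rw [e1, neg_smul, mul_smul α c uW, e2, smul_smul, smul_smul, mul_comm β α, add_neg_cancel]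
  -- the two rest vectors are independent
  obtain ⟨r, rfl⟩ : ∃ r, s = r + 1 := ⟨s - 1, by omega⟩
  set rv := pvec fun j : Fin r => f
  have hr : ∀ u : Fin (r + 1) → Fin k → F, (∀ j, j ≠ 0 → u j = f) → pvec u = tpL 0 rv (u 0) := fun u hu => by
    rw [pvec_tpL 0 u]
    congr 2
    funext a
    simp [rv, pvec, hu]
  have hz : (⟨0, hs0⟩ : Fin (r + 1)) = 0 := rfl
  have hTone : T ((0 : Fin (r + 1 + 1)).succAbove 0) = T₁ := by simp [T, one', hz]
  rw [show uT = tpL 0 rv T₁ from (hr _ fun j hj => by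
      simp [T, one', hz, Fin.succAbove_ne]
      intro h
      exact absurd (Fin.succ_injective _ (h.trans Fin.succ_zero_eq_one.symm)) hj).trans (by rw [hTone]),
    show uW = tpL 0 rv f from (hr _ fun j hj => by simp [W, Fin.succAbove_ne]).trans (by simp [W])] at hdep
  rw [← map_smul, ← map_smul, ← map_add] at hdep
  have hcomb : β • T₁ + (-(α * c)) • f = 0 := by
    funext a
    obtain ⟨b, hb⟩ := Function.ne_iff.1 hf0
    have h1 := congrFun hdep ((0 : Fin (r + 1)).insertNth a fun _ => b)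
    rw [tpL_insertNth] at h1
    exact (mul_eq_zero.1 h1).resolve_left (by simpa [rv, pvec] using pow_ne_zero r hb)
  obtain ⟨hβ, -⟩ := hT1f _ _ hcomb
  rw [hβ, zero_smul, smul_eq_zero] at e2
  have huW : uW ≠ 0 := fun h => by
    obtain ⟨b, hb⟩ := Function.ne_iff.1 hf0
    refine pow_ne_zero (r + 1) hb ?_
    have := congrFun h fun _ => b
    simpa [uW, pvec, W, Fin.succAbove_ne] using this
  exact huW (e2.resolve_left (mul_ne_zero hTE one_ne_zero |> fun h => by simpa using h))

end proper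

section transport

variable {n k t : ℕ}

/-- The tensor wreath group meets `Ω` in a maximal subgroup. -/
theorem maximal_plus (hn : 13 ≤ n) {Q : QuadraticForm F (Fin n → F)} (hQ : (polarBilin Q).Nondegenerate)
    (ht : 2 ≤ t) (hqt : Odd (Fintype.card F) → Even t) (hex2 : ¬ (Fintype.card F = 3 ∧ k = 2))
    (hex3 : ¬ Odd (Fintype.card F) → 6 ≤ k) (e : Fin n ≃ (Fin t → Fin k)) (P : GL (Fin n) F)
    {f₁ : (Fin k → F) → (Fin k → F) → F} (hf₁ : Cfsg.Geo.IsSymplecticForm f₁)
    (hT : Cfsg.Geo.IsTensorPowerFormStructure id (QuadraticMap.polar Q) f₁ e P)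
    (hpure : ∀ xs : Fin t → Fin k → F, Q ((P : Matrix (Fin n) (Fin n) F) *ᵥ
      ((fun a : Fin t → Fin k => ∏ i, xs i (a i)) ∘ e)) = 0) :
    IsMaximalIn (Cfsg.Geo.omegaGL ⇑Q) (Cfsg.Geo.tensorWreathSubgroup k t e P ⊓ Cfsg.Geo.omegaGL ⇑Q) := by
  classical
  obtain ⟨s, rfl⟩ : ∃ s, t = s + 1 := ⟨t - 1, by omega⟩
  have hcard : n = k ^ (s + 1) := by simpa using Fintype.card_congr e
  haveI : NeZero k := ⟨fun h => by rw [h, zero_pow (by omega)] at hcard; omega⟩
  have hu : IsUnit (Cfsg.Geo.gramMatrix f₁) :=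
    isUnit_of_nondeg (RingEquiv.refl F) (bilinear_eq_gram hf₁.bilinear ▸ hf₁.nondegenerate)
  set J₁ : GL (Fin k) F := hu.unit with hJ₁
  have hF : Frame J₁ s := by
    refine ⟨Matrix.ext fun a b => ?_, fun a => hf₁.alternating _, ?_, by omega⟩
    · exact hf₁.skew _ _
    · by_cases hodd : Odd (Fintype.card F)
      · obtain ⟨j, hj⟩ := hqt hodd
        exact (show Odd s from ⟨j - 1, by omega⟩).neg_one_pow
      · have h2 : (2 : F) = 0 := by
          have hr : ringChar F = 2 := by
            by_contra h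
            exact hodd (Nat.odd_iff.2 (FiniteField.odd_card_of_char_ne_two h))
          haveI : CharP F 2 := hr ▸ ringChar.charP F
          exact CharP.cast_eq_zero F 2
        have e1 : (-1 : F) = 1 := by linear_combination -h2
        rw [e1, one_pow]
  obtain ⟨c, hc, hT⟩ := hT
  let ψ : ((Fin (s + 1) → Fin k) → F) ≃ₗ[F] (Fin n → F) := (LinearEquiv.funCongrLeft F F e).trans (eqv P)
  have hψ : ∀ x, ψ x = (P : Matrix (Fin n) (Fin n) F) *ᵥ (x ∘ e) := fun x => rfl
  set Qs : QuadraticForm F ((Fin (s + 1) → Fin k) → F) := c⁻¹ • Q.comp ψ.toLinearMap with hQs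
  have hQs' : ∀ x, Q (ψ x) = c * Qs x := fun x => by
    show Q (ψ x) = c * (c⁻¹ * Q (ψ x))
    rw [← mul_assoc, mul_inv_cancel₀ hc, one_mul]
  have hpol : ∀ x y, polar Q (ψ x) (ψ y) = c * polar Qs x y := fun x y => by
    simp only [QuadraticMap.polar, ← map_add, hQs']
    ring
  have hB : ∀ x y, polar Qs x y = BF (JT (s + 1) J₁ : TMat F k (s + 1)) x y := fun x y => by
    refine mul_left_cancel₀ hc ?_
    rw [← hpol, hψ, hψ, hT, BF_apply]
    congr 1
    simp only [dotProduct, Matrix.mulVec, Finset.mul_sum, id]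
    exact Finset.sum_congr rfl fun a _ => Finset.sum_congr rfl fun b _ => mul_assoc _ _ _
  have hsing : ∀ i u w, Qs (tpL i u w) = 0 := by
    intro i u w
    have hpu : ∀ p, Qs (tpL i (Pi.single p 1) w) = 0 := fun p => by
      refine (mul_eq_zero.1 ((hQs' _).symm.trans ?_)).resolve_left hc
      rw [hψ]
      convert hpure (i.insertNth w fun j => Pi.single (p j) 1) using 4
      funext a
      show (Pi.single p 1 : (Fin s → Fin k) → F) (i.removeNth a) * w (a i) = ∏ j, _
      rw [Fin.prod_univ_succAbove _ i]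
      simp only [Fin.insertNth_apply_same, Fin.insertNth_apply_succAbove]
      by_cases hp : i.removeNth a = p
      · subst hp; simp [Fin.removeNth]
      · obtain ⟨j, hj⟩ := Function.ne_iff.1 hp
        rw [Pi.single_eq_of_ne hp, Finset.prod_eq_zero (Finset.mem_univ j) (Pi.single_eq_of_ne hj _)]
        simp
    rw [show u = ∑ p, u p • (Pi.single p 1 : (Fin s → Fin k) → F) from funext fun q => by simp [Pi.single_apply]]
    induction (Finset.univ : Finset (Fin s → Fin k)) using Finset.induction_on with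
    | empty => simp
    | insert p S hp ih =>
      rw [Finset.sum_insert hp, map_add, LinearMap.add_apply, CfsgLib.Geometry.map_add', ih, map_smul,
        LinearMap.smul_apply, QuadraticMap.map_smul, hpu, hB, ← LinearMap.smul_apply, ← map_smul,
        show tpL i (u p • Pi.single p 1) w = (sd hF i).tp (u p • Pi.single p 1) w from rfl,
        show tpL i (∑ x ∈ S, u x • Pi.single x 1) w = (sd hF i).tp (∑ x ∈ S, u x • Pi.single x 1) w from rfl,
        (sd hF i).pol, (sd hF i).g_self]
      simp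
  set φ : GL (Fin (s + 1) → Fin k) F ≃* GL (Fin n) F := (Cfsg.Geo.glReindex e.symm).trans (MulAut.conj P) with hφ
  have hH : Cfsg.Geo.tensorWreathSubgroup k (s + 1) e P = (Std F k (s + 1)).map φ.toMonoidHom := by
    rw [Cfsg.Geo.tensorWreathSubgroup, Subgroup.map_map]; rfl
  have hact : ∀ g x, eqv (φ g) (ψ x) = ψ (eqv g x) := fun g x => by
    rw [eqv_apply, eqv_apply, hψ, hψ]
    show ((P * Cfsg.Geo.glReindex e.symm g * P⁻¹ : GL (Fin n) F) : Matrix (Fin n) (Fin n) F) *ᵥ _ = _
    rw [Units.val_mul, Units.val_mul, Matrix.mulVec_mulVec, mul_assoc _ (↑P⁻¹ : Matrix (Fin n) (Fin n) F),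
      Units.inv_mul, mul_one, ← Matrix.mulVec_mulVec]
    congr 1
    show (g.1.submatrix e e) *ᵥ (x ∘ e) = _
    rw [Matrix.submatrix_mulVec_equiv, Function.comp_assoc, Equiv.self_comp_symm, Function.comp_id]
  have hd5 : 5 ≤ Module.finrank F (Fin n → F) := by simp; omega
  let Γ : (((Fin (s + 1) → Fin k) → F) ≃ₗ[F] ((Fin (s + 1) → Fin k) → F)) ≃* ((Fin n → F) ≃ₗ[F] (Fin n → F)) :=
    { toFun := fun g => ψ.symm.trans (g.trans ψ)
      invFun := fun g => ψ.trans (g.trans ψ.symm)
      left_inv := fun g => LinearEquiv.ext fun x => by simp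
      right_inv := fun g => LinearEquiv.ext fun x => by simp
      map_mul' := fun g h => LinearEquiv.ext fun x => by simp }
  have hΓ : ∀ g x, Γ g (ψ x) = ψ (g x) := fun g x => by simp [Γ]
  have hsie : ∀ (e' w : (Fin (s + 1) → Fin k) → F) (he : Qs e' = 0) (hw : polar Qs e' w = 0)
      (he' : Q (ψ e') = 0) (hw' : polar Q (ψ e') (c⁻¹ • ψ w) = 0),
      Γ (siegel Qs e' w he hw) = siegel Q (ψ e') (c⁻¹ • ψ w) he' hw' := fun e' w he hw he' hw' => by
    refine LinearEquiv.ext fun v => ?_
    obtain ⟨x, rfl⟩ := ψ.surjective v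
    rw [hΓ, siegel_apply, siegel_apply, polar_smul_right', hpol, hpol, CfsgLib.Geometry.map_smul', hQs', map_sub,
      map_sub, map_add, map_smul, map_smul, map_smul]
    match_scalars <;> field_simp
  have hΓS : (siegelGroup Qs).map Γ.toMonoidHom = siegelGroup Q := by
    refine le_antisymm ?_ ?_
    · rw [Subgroup.map_le_iff_le_comap, siegelGroup, Subgroup.closure_le]
      rintro _ ⟨e', w, he, hw, rfl⟩
      show Γ _ ∈ siegelGroup Q
      rw [hsie e' w he hw (by rw [hQs', he, mul_zero]) (by rw [polar_smul_right', hpol, hw, mul_zero, mul_zero])]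
      exact siegel_mem _ _ _ _
    · rw [siegelGroup, Subgroup.closure_le]
      rintro _ ⟨e', w, he, hw, rfl⟩
      obtain ⟨e₀, rfl⟩ := ψ.surjective e'
      obtain ⟨w₀, rfl⟩ := ψ.surjective w
      have he₀ : Qs e₀ = 0 := by rw [hQs'] at he; exact (mul_eq_zero.1 he).resolve_left hc
      have hw₀ : polar Qs e₀ (c • w₀) = 0 := by rw [hpol] at hw; rw [polar_smul_right', hw]
      refine ⟨siegel Qs e₀ (c • w₀) he₀ hw₀, siegel_mem _ _ _ _, ?_⟩
      show Γ _ = _
      rw [hsie _ _ he₀ hw₀ (by rw [hQs', he₀, mul_zero])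
        (by rw [polar_smul_right', hpol, hw₀, mul_zero, mul_zero])]
      exact LinearEquiv.ext fun v => by
        rw [siegel_apply, siegel_apply, map_smul, inv_smul_smul₀ hc]
  have hmem : ∀ x : GL (Fin n) F, x ∈ Cfsg.Geo.omegaGL ⇑Q ↔ eqv x ∈ siegelGroup Q := fun x => by
    rw [CfsgLib.Geometry.omegaGL_eq_map]
    have hcom := fun g => mem_commutator_iff_siegelGroup hQ hd5 (Q := Q) g
    constructor
    · rintro ⟨g, hg, rfl⟩
      rw [show eqv (orthToGL Q g) = (g : (Fin n → F) ≃ₗ[F] (Fin n → F)) from LinearEquiv.ext fun v =>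
        (eqv_apply _ v).trans (orthToGL_mulVec Q g v)]
      exact (hcom g).1 hg
    · intro hx
      exact ⟨⟨eqv x, siegelGroup_le_orth hx⟩, (hcom _).2 hx, eqv_injective (LinearEquiv.ext fun v =>
        (eqv_apply _ v).trans (orthToGL_mulVec Q _ v))⟩
  have hO : Cfsg.Geo.omegaGL ⇑Q = (omS Qs).map φ.toMonoidHom := by
    ext x
    obtain ⟨g, rfl⟩ := φ.surjective x
    rw [hmem, show φ g = φ.toMonoidHom g from rfl, Subgroup.mem_map_iff_mem φ.injective, ← hΓS,
      show eqv (φ.toMonoidHom g) = Γ.toMonoidHom (eqv g) from LinearEquiv.ext fun v => by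
        obtain ⟨y, rfl⟩ := ψ.surjective v
        exact (hact g y).trans (hΓ _ y).symm, Subgroup.mem_map_iff_mem Γ.injective]
    rfl
  rw [hH, hO, ← Subgroup.map_inf_eq _ _ _ φ.injective]
  refine TensorWreathSL.isMaximalIn_map φ ⟨lt_of_le_of_ne inf_le_right fun heq => ?_, fun M hHM hMG => ?_⟩
  · obtain ⟨g, hg, hgn⟩ := exists_notMem_std hF hB hsing (hcard ▸ hn)
    exact hgn (heq.symm ▸ hg : g ∈ Std F k (s + 1) ⊓ omS Qs).1
  · have hk : (2 : F) = 0 → 6 ≤ k := fun h2 => hex3 fun hodd => by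
      have hne : ringChar F ≠ 2 := fun hr => by
        obtain ⟨j, hj⟩ := hodd
        have := FiniteField.even_card_of_char_two hr
        omega
      exact Ring.two_ne_zero hne h2
    rcases cases_of_le hF hB hsing hk hex2 (hcard ▸ hn) hHM hMG with h | h
    · exact Or.inl (le_antisymm (le_inf h hMG) hHM)
    · exact Or.inr (le_antisymm hMG h)

end transport

end CfsgLib.TensorWreathO
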