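import Cfsg.Agent.Lib.TensorWreathO.Data
import Cfsg.Agent.Lib.OrthMax.TensorSp.Full

/-!
All coefficients at the roots of the second factor: the whole Siegel group.
-/

set_option autoImplicit false
set_option linter.unusedSectionVars false
set_option linter.unusedVariables false
set_option linter.unusedSimpArgs false

namespace CfsgLib.TensorWreathO

open QuadraticMap CfsgLib.Geometry CfsgLib.OrthMax
open CfsgLib.TensorSp (In TData)

variable {F V U W : Type*} [Field F] [Finite F] [AddCommGroup V] [Module F V] [AddCommGroup U] [Module F U]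
  [AddCommGroup W] [Module F W]
variable [FiniteDimensional F V] [FiniteDimensional F U] [FiniteDimensional F W] [Nontrivial U] [Nontrivial W]
variable {Q : QuadraticForm F V} {M : Subgroup (V ≃ₗ[F] V)}

/-- Root elements at pure tensors. -/
theorem siegIn_of_all (h : TData Q U W)
    (hall : ∀ (x r : U) (w v : W), w ≠ 0 → v ∉ Submodule.span F {w} → h.gW w v = 0 →
      In M (h.P w v (h.rk x r) + h.P v w (h.rk r (-x)))) {w v : W} (hw : w ≠ 0) (hv : v ∉ Submodule.span F {w})
    (hwv : h.gW w v = 0) (z z' : U) : SiegIn Q M (h.tp z w) (h.tp z' v) := by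
  intro he hx
  obtain ⟨g, hg, eg⟩ := hall (-z) z' w v hw hv hwv
  convert hg using 1
  refine LinearEquiv.ext fun T => ?_
  rw [eg, siegel_apply, h.sing, h.polar_tp', h.polar_tp']
  simp only [LinearMap.add_apply, TData.P_apply, TData.rk_apply, map_smul, map_neg, LinearMap.smul_apply,
    LinearMap.neg_apply, neg_neg]
  module

theorem exists_perp_pair (h : TData Q U W) (h4 : 4 ≤ Module.finrank F W) {w w' : W} (hww' : h.gW w w' = 1) :
    ∃ b, h.gW w b = 0 ∧ h.gW w' b = 0 ∧ b ∉ Submodule.span F ({w, w'} : Set W) := by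
  let φ : W →ₗ[F] F × F := (h.gW w).prod (h.gW w')
  have hk : LinearMap.ker φ ≠ ⊥ := fun e => by
    have h1 := φ.finrank_range_add_finrank_ker
    have h2 := Submodule.finrank_le (LinearMap.range φ)
    rw [Module.finrank_prod, Module.finrank_self] at h2
    rw [e, finrank_bot] at h1
    omega
  obtain ⟨b, hb, hb0⟩ := Submodule.exists_mem_ne_zero_of_ne_bot hk
  have hwb : h.gW w b = 0 := congrArg Prod.fst (LinearMap.mem_ker.1 hb)
  have hw'b : h.gW w' b = 0 := congrArg Prod.snd (LinearMap.mem_ker.1 hb)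
  refine ⟨b, hwb, hw'b, fun hm => hb0 ?_⟩
  obtain ⟨s, t, rfl⟩ := Submodule.mem_span_pair.1 hm
  rw [map_add, map_smul, map_smul, h.g_self, hww', smul_zero, zero_add, smul_eq_mul, mul_one] at hwb
  rw [map_add, map_smul, map_smul, h.g_self, h.g_swap, hww', smul_zero, add_zero, smul_eq_mul, mul_neg_one,
    neg_eq_zero] at hw'b
  rw [hwb, hw'b, zero_smul, zero_smul, add_zero]

/-- All root elements at a pure tensor. -/
theorem full_of_all (h : TData Q U W) (hle : M ≤ orth Q) (hQ : (polarBilin Q).Nondegenerate)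
    (h4 : 4 ≤ Module.finrank F W)
    (hall : ∀ (x r : U) (w v : W), w ≠ 0 → v ∉ Submodule.span F {w} → h.gW w v = 0 →
      In M (h.P w v (h.rk x r) + h.P v w (h.rk r (-x)))) {z : U} {w : W} (hw : w ≠ 0) :
    Full Q M (h.tp z w) := by
  have he := h.sing z w
  set R := rootSpace Q M he
  obtain ⟨w₁, hw₁⟩ := h.exists_g_one hw
  have hw2 : h.gW w (-w₁) = 1 := by rw [map_neg, h.g_swap, hw₁, neg_neg]
  have hne : -w₁ ≠ 0 := fun e => by rw [e, map_zero] at hw2; exact zero_ne_one hw2
  have h2w : -w₁ ∉ Submodule.span F {w} := fun hm => by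
    obtain ⟨s, hs⟩ := Submodule.mem_span_singleton.1 hm
    rw [← hs, map_smul, h.g_self, smul_zero] at hw2
    exact zero_ne_one hw2
  obtain ⟨v', hwv', h2v', hv'⟩ := exists_perp_pair h h4 hw2
  obtain ⟨v, hvw, hv2, hvv'⟩ := CfsgLib.TensorSp.TData.exists_two (h := h) h2w hv'
  have hv'w : v' ∉ Submodule.span F {w} := fun hm => hv' (Submodule.span_mono (by simp) hm)
  have hv'2 : v' ∉ Submodule.span F {-w₁} := fun hm => hv' (Submodule.span_mono (by simp) hm)
  have hmem : ∀ u x, h.gW x w = 0 → x ∉ Submodule.span F {w} → h.tp u x ∈ R := fun u x hx hxn => by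
    have hwx := h.g_swap_zero hx
    refine ⟨by rw [h.pol, hwx, mul_zero], fun t => ?_⟩
    have := siegIn_of_all h hall hw hxn hwx z (t • u)
    rwa [map_smul, LinearMap.smul_apply] at this
  have hperp : ∀ u x, h.gW x w = 0 → h.tp u x ∈ R := fun u x hx => by
    by_cases hm : x ∈ Submodule.span F {w}
    · have := R.sub_mem (hmem u (x + v') (by rw [map_add, LinearMap.add_apply, hx, h.g_swap_zero hwv', add_zero])
        fun hs => hv'w (by simpa using Submodule.sub_mem _ hs hm)) (hmem u v' (h.g_swap_zero hwv') hv'w)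
      simpa [map_add] using this
    · exact hmem u x hx hm
  intro T he' hT
  have hker : T - h.tp (h.c w T) (-w₁) ∈ R := by
    refine (Submodule.span_le.2 ?_) (h.mem_span_perp hQ hw (by rw [map_sub, h.c_tp, hw2, one_smul, sub_self]))
    rintro _ ⟨u, x, hx, rfl⟩
    exact hperp u x hx
  have hy : h.fU z (h.c w T) = 0 := by rw [h.pol_c]; exact hT
  set y := h.c w T
  suffices hY : h.tp y (-w₁) ∈ R by
    have := R.add_mem hker hY
    rw [sub_add_cancel] at this
    exact this.2.one he' hT
  obtain ⟨u₀, hu₀⟩ := exists_ne (0 : U)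
  obtain ⟨u', hu'⟩ := h.swap.exists_g_one hu₀
  change h.fU u' u₀ = 1 at hu'
  have hpq : polar Q (h.tp y (-w₁)) (h.tp u' v') = 0 := by rw [h.pol, h2v', mul_zero]
  have hp := h.sing y (-w₁)
  have hg := siegIn_of_all h hall hne hv'2 h2v' y u' hp hpq
  have hx₀ := hmem u₀ v hvw fun hm => by
    obtain ⟨s, rfl⟩ := Submodule.mem_span_singleton.1 hm
    rw [map_smul, LinearMap.smul_apply, hwv', smul_zero] at hvv'
    exact zero_ne_one hvv'
  refine ⟨by rw [h.pol, hy, zero_mul], hx₀.2.diff hg (hle hg) he hx₀.1 ?_ ?_⟩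
  · rw [siegel_apply, h.sing, h.pol, h.pol, hy, hwv']
    module
  · rw [siegel_apply, h.sing, h.pol, h.pol, hv2, hvv', h.f_swap u₀ u', hu']
    module

/-- All coefficients give the Siegel group. -/
theorem siegel_le_of_all {B : LinearMap.BilinForm F V} (d : BData B U W) (hB : ∀ x y, polar Q x y = B x y)
    (hsing : ∀ u w, Q (d.tp u w) = 0) (hQ : (polarBilin Q).Nondegenerate) (hle : M ≤ orth Q)
    (h4 : 4 ≤ Module.finrank F W) (hall : ∀ D, d.InD M D) : siegelGroup Q ≤ M := by
  let h : TData Q U W :=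
    { tp := d.tp
      fU := d.fU
      gW := d.gW
      fAlt := d.fAlt
      gAlt := d.gAlt
      fnd := d.fnd
      gnd := d.gnd
      pol := fun u u' w w' => by rw [hB, d.pol]
      sing := hsing
      sep := fun T hT => d.sep T fun u w => by rw [← hB]; exact hT u w }
  have hc : ∀ w T, h.c w T = d.c w T := fun w T => d.ext_f fun u => by
    show h.fU u (h.c w T) = _
    rw [h.pol_c, d.pol_c, hB]
  have hP : ∀ a b D, h.P a b D = d.P a b D := fun a b D => LinearMap.ext fun T => by
    rw [TData.P_apply, BData.P_apply, hc]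
  have hall' : ∀ (x r : U) (w v : W), w ≠ 0 → v ∉ Submodule.span F {w} → h.gW w v = 0 →
      In M (h.P w v (h.rk x r) + h.P v w (h.rk r (-x))) := by
    intro x r w v hw hv hwv
    obtain ⟨D', hD', hIn⟩ := hall (h.rk x r)
    have e : D' = h.rk r (-x) := d.adj_unique hD' fun u y => by
      show h.fU (h.rk x r u) y = h.fU u (h.rk r (-x) y)
      simp only [TData.rk_apply, map_smul, map_neg, LinearMap.smul_apply, LinearMap.neg_apply, smul_eq_mul]
      rw [h.f_swap u r]
      ring
    rw [hP, hP, ← e]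
    exact hIn w v hw hv hwv
  obtain ⟨z, hz⟩ := exists_ne (0 : U)
  obtain ⟨z', hz'⟩ := h.swap.exists_g_one hz
  change h.fU z' z = 1 at hz'
  obtain ⟨w, hw⟩ := exists_ne (0 : W)
  obtain ⟨w', hw'⟩ := h.exists_g_one hw
  have hw'0 : w' ≠ 0 := fun e => by rw [e, map_zero, LinearMap.zero_apply] at hw'; exact zero_ne_one hw'
  exact siegelGroup_le_of_full hQ (h.sing z' w') (h.sing z w) (by rw [h.pol, hz', hw', one_mul])
    (full_of_all h hle hQ h4 hall' hw'0) (full_of_all h hle hQ h4 hall' hw)

end CfsgLib.TensorWreathO
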