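import Cfsg.Agent.Lib.TensorWreathO.Twist

/-!
Odd characteristic, four dimensions or more in a slot: the self-adjoint coefficients at the long roots of a slot
generate an algebra of coefficients, so one such coefficient outside the scalars gives all endomorphisms of the other
slots.
-/

set_option autoImplicit false
set_option linter.unusedSectionVars false
set_option linter.unusedVariables false
set_option linter.unusedSimpArgs false

namespace CfsgLib.TensorWreathO

open CfsgLib.Aschbacher CfsgLib.AschbacherForm CfsgLib.TensorWreath CfsgLib.TensorWreathSL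
open CfsgLib.TensorSp (In)
open scoped Matrix MatrixGroups

namespace BData

variable {F V U W : Type*} [Field F] [AddCommGroup V] [Module F V] [AddCommGroup U] [Module F U]
  [AddCommGroup W] [Module F W]
variable [FiniteDimensional F V] [FiniteDimensional F U] [FiniteDimensional F W]
variable [Nontrivial U] [Nontrivial W]
variable {B : LinearMap.BilinForm F V} {M : Subgroup (V ≃ₗ[F] V)} {h : BData B U W}

/-- A self-adjoint endomorphism giving all root elements of the lines. -/
def Long (h : BData B U W) (M : Subgroup (V ≃ₗ[F] V)) (G : Module.End F U) : Prop :=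
  (∀ u x, h.fU (G u) x = h.fU u (G x)) ∧ ∀ (a : W) (c : F), In M (c • h.P a a G)

theorem Long.smul {G : Module.End F U} (hG : h.Long M G) (c : F) : h.Long M (c • G) :=
  ⟨fun u x => by simp only [LinearMap.smul_apply, map_smul, hG.1 u x], fun a s => by
    rw [h.P_smul, smul_smul]; exact hG.2 a _⟩

theorem Long.scalar (hT : h.Tau M) (c : F) : h.Long M (c • 1) :=
  ⟨fun u x => by simp, fun a s => by rw [h.P_smul, smul_smul]; exact hT.tau a _⟩

theorem Long.inD (hT : h.Tau M) {G : Module.End F U} (hG : h.Long M G) : h.InD M G := by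
  obtain ⟨w, hw⟩ := exists_ne (0 : W)
  exact InD.of_tau hT hG.1 hw (by simpa using hG.2 w 1)

/-- The product of a coefficient and a long coefficient. -/
theorem InD.mul_long (h2 : (2 : F) ≠ 0) {D G : Module.End F U} (hD : h.InD M D) (hG : h.Long M G) :
    h.InD M (D * G) := by
  obtain ⟨D', hD', hD⟩ := hD
  refine ⟨G * D', fun u x => by rw [Module.End.mul_apply, hD', hG.1, Module.End.mul_apply],
    fun w v hw hv hwv => ?_⟩
  obtain ⟨x, hxw, hxv⟩ := h.exists_perp_one hv
  have hwx := h.g_swap_zero hxw
  have hvw := h.g_swap_zero hwv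
  have hvx : h.gW v x = -1 := by rw [h.g_swap, hxv]
  have hxn : x ∉ Submodule.span F {w} := fun hm => by
    obtain ⟨c, rfl⟩ := Submodule.mem_span_singleton.1 hm
    rw [map_smul, LinearMap.smul_apply, hwv, smul_zero] at hxv
    exact zero_ne_one hxv
  have hX := hD w x hw hxn hwx
  set X := h.P w x D + h.P x w D' with hXdef
  set Y := h.P v v ((2 : F)⁻¹ • G) with hYdef
  have hY : In M Y := by rw [hYdef, h.P_smul]; exact hG.2 v _
  set S := h.P w v (D * ((2 : F)⁻¹ • G)) + h.P v w (((2 : F)⁻¹ • G) * D') with hSdef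
  set L := h.P w w (D * ((2 : F)⁻¹ • G) * D') with hLdef
  have hXX : X * X = 0 := by simp [hXdef, add_mul, mul_add, P_mul, h.g_self, hwx, hxw]
  have hXY : X * Y = h.P w v (D * ((2 : F)⁻¹ • G)) := by
    simp [hXdef, hYdef, add_mul, P_mul, hxv, hwv]
  have hYX : Y * X = -h.P v w (((2 : F)⁻¹ • G) * D') := by
    simp [hXdef, hYdef, mul_add, P_mul, hvx, hvw]
  have hXYX : X * (Y * X) = -L := by
    rw [← mul_assoc, hXY]
    simp [hXdef, hLdef, mul_add, P_mul, hvx, hvw, mul_assoc]
  have hPX : h.P w v (D * ((2 : F)⁻¹ • G)) * X = -L := by rw [← hXY, mul_assoc]; exact hXYX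
  have hneg := hX.neg hXX
  have e1 : In M (Y + S + L) := by
    have e := (hX.mul hY).mul hneg
    convert e using 1
    simp only [hSdef, add_mul, mul_neg, neg_mul, mul_assoc, hXX, hXYX, hYX, hXY, hPX, neg_neg, neg_zero, add_zero]
    abel
  have e2 : In M (Y - S + L) := by
    have e := (hneg.mul hY).mul hX
    convert e using 1
    simp only [hSdef, add_mul, mul_neg, neg_mul, mul_assoc, hXX, hXYX, hYX, hXY, hPX, neg_neg, neg_zero, add_zero]
    abel
  have ab : ∀ {P Q : Module.End F V}, (P = Y ∨ P = S ∨ P = L) → (Q = Y ∨ Q = S ∨ Q = L) → P * Q = 0 := by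
    have hz : ∀ {a b : W}, (a = w ∨ a = v) → (b = w ∨ b = v) → h.gW a b = 0 := by
      rintro a b (rfl | rfl) (rfl | rfl)
      exacts [h.g_self _, hwv, hvw, h.g_self _]
    rintro P Q (rfl | rfl | rfl) (rfl | rfl | rfl) <;>
      simp [hYdef, hSdef, hLdef, add_mul, mul_add, P_mul, hz, h.g_self, hwv, hvw]
  have e3 := e1.add (e2.neg (by simp [add_mul, sub_mul, mul_add, mul_sub, ab]))
    (by simp [add_mul, sub_mul, mul_add, mul_sub, ab])
  convert e3 using 1
  rw [show Y + S + L + -(Y - S + L) = (2 : F) • S by rw [two_smul]; abel, hSdef, smul_add, ← h.P_smul, ← h.P_smul,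
    mul_smul_comm, smul_mul_assoc, smul_smul, smul_smul, mul_inv_cancel₀ h2, one_smul, one_smul]

end BData

variable {F : Type*} [Field F] [Finite F] {k s : ℕ} [NeZero k] {J₁ : GL (Fin k) F}
variable {M : Subgroup (GL (Fin (s + 1) → Fin k) F)}

/-- The coefficient matrices of long roots. -/
def longSet (hF : Frame J₁ s) (i : Fin (s + 1)) (M : Subgroup (GL (Fin (s + 1) → Fin k) F)) : Set (TMat F k s) :=
  {C | (sd hF i).Long (M.map eqv) (Matrix.toLin' C)}

theorem longSet_adj {hF : Frame J₁ s} {i : Fin (s + 1)} {C : TMat F k s} (hC : C ∈ longSet hF i M) :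
    adjJ (JT s J₁) C = C :=
  Matrix.toLin'.injective ((sd hF i).adj_unique (adj_toLin C) hC.1)

theorem long_conj (hM : Slots J₁ M) (hF : Frame J₁ s) {i : Fin (s + 1)} {g : GL (Fin s → Fin k) F}
    (hg : emb i g ∈ M) {C : TMat F k s} (hC : C ∈ longSet hF i M) : cj g C ∈ longSet hF i M := by
  have hT := hM.tau hF i
  have hact : (sd hF i).swap.Act (M.map eqv) (Matrix.toLin' g.1) := by
    refine ⟨eqv (emb i g), ⟨_, hg, rfl⟩, fun x u => ?_⟩
    show (emb i g).1 *ᵥ tpL i u x = tpL i (Matrix.toLin' g.1 u) x
    rw [Matrix.toLin'_apply, emb_val, ← one_mul (embM i g.1), ← slot_one i, slot_embM_mulVec, Matrix.one_mulVec]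
  have e : Matrix.toLin' g.1 * Matrix.toLin' C = Matrix.toLin' (cj g C) * Matrix.toLin' g.1 := by
    rw [Module.End.mul_eq_comp, Module.End.mul_eq_comp, ← Matrix.toLin'_mul, ← Matrix.toLin'_mul, cj_apply,
      mul_assoc _ (↑g⁻¹ : TMat F k s), Units.inv_mul, mul_one]
  refine ⟨fun u x => ?_, fun a c => ?_⟩
  · obtain ⟨u', rfl⟩ := hact.surjective hT.iso u
    obtain ⟨x', rfl⟩ := hact.surjective hT.iso x
    have hp := hact.preserves hT.iso
    rw [← Module.End.mul_apply, ← Module.End.mul_apply, ← e, Module.End.mul_apply, Module.End.mul_apply]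
    exact (hp _ _).trans ((hC.1 u' x').trans (hp _ _).symm)
  · have hX : In (M.map eqv) ((sd hF i).P a a (c • Matrix.toLin' C) + (sd hF i).P a a 0) := by
      rw [BData.P_smul, show (sd hF i).P a a 0 = 0 from LinearMap.ext fun T => by simp [BData.P_apply], add_zero]
      exact hC.2 a c
    have := In.actBU hT.iso hact (E := c • Matrix.toLin' (cj g C)) (E' := 0)
      (by rw [mul_smul_comm, e, smul_mul_assoc]) (by simp) hX
    rwa [BData.P_smul, show (sd hF i).P a a 0 = 0 from LinearMap.ext fun T => by simp [BData.P_apply], add_zero] at this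

/-- One long coefficient outside the scalars gives everything. -/
theorem all_of_long (hM : Slots J₁ M) (hF : Frame J₁ s) (h2 : (2 : F) ≠ 0) (h4 : 4 ≤ k) {i : Fin (s + 1)}
    (hsw : ∀ a b : Fin s, emb i (permGL (Equiv.swap a b)) ∈ M) {C : TMat F k s} (hC : C ∈ longSet hF i M)
    (hns : ∀ c : F, C ≠ c • 1) (D : Module.End F ((Fin s → Fin k) → F)) : (sd hF i).InD (M.map eqv) D := by
  have hT := hM.tau hF i
  set h := sd hF i
  set A := Algebra.adjoin F (longSet hF i M) with hA
  let mult : Subalgebra F (TMat F k s) :=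
    { carrier := {E | ∀ D, h.InD (M.map eqv) D → h.InD (M.map eqv) (D * Matrix.toLin' E)}
      mul_mem' := fun {a b} ha hb D hD => by
        rw [Matrix.toLin'_mul, ← Module.End.mul_eq_comp, ← mul_assoc]
        exact hb _ (ha _ hD)
      one_mem' := fun D hD => by
        rwa [Matrix.toLin'_one, show (LinearMap.id : Module.End F ((Fin s → Fin k) → F)) = 1 from rfl, mul_one]
      add_mem' := fun {a b} ha hb D hD => by
        rw [map_add, mul_add]
        exact (ha _ hD).add hT (hb _ hD)
      zero_mem' := fun D hD => by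
        rw [map_zero, mul_zero, ← zero_smul F (1 : Module.End F ((Fin s → Fin k) → F))]
        exact BData.InD.scalar hT 0
      algebraMap_mem' := fun c D hD => by
        rw [Algebra.algebraMap_eq_smul_one, toLin_smul_one]
        exact hD.mul_long h2 (BData.Long.scalar hT c) }
  have hsub : A ≤ mult := Algebra.adjoin_le fun E hE D hD => hD.mul_long h2 hE
  have hinv : InvAlg J₁ A := by
    have hcj : ∀ g : GL (Fin s → Fin k) F, emb i g ∈ M → ∀ X ∈ A, cj g X ∈ A := by
      intro g hg X hX
      induction hX using Algebra.adjoin_induction with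
      | mem x hx => exact Algebra.subset_adjoin (long_conj hM hF hg hx)
      | algebraMap c => rw [AlgEquiv.commutes]; exact A.algebraMap_mem c
      | add x y _ _ ihx ihy => rw [map_add]; exact A.add_mem ihx ihy
      | mul x y _ _ ihx ihy => rw [map_mul]; exact A.mul_mem ihx ihy
    refine ⟨hF.skew, hF.fo_zero, h4, fun l u c X hX => ?_, fun X hX => ?_, fun a b X hX => hcj _ (hsw a b) X hX⟩
    · have hsq : (c • slot l (aR J₁ u)) * (c • slot l (aR J₁ u)) = (0 : TMat F k s) := by
        rw [Matrix.smul_mul, Matrix.mul_smul, ← slot_mul, hF.aR_sq, slot_zero, smul_zero, smul_zero]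
      obtain ⟨x, hx, e⟩ := hM.root (i.succAbove l) u c
      have := hcj (oneAdd _ hsq) (by
        rwa [show emb i (oneAdd _ hsq) = x from Units.ext (by
          rw [emb_val, e, show (oneAdd _ hsq : TMat F k s) = 1 + c • slot l (aR J₁ u) from rfl, map_add, map_one,
            map_smul, embM_slot])]) X hX
      rwa [cj_apply] at this
    · induction hX using Algebra.adjoin_induction with
      | mem x hx => rw [longSet_adj hx]; exact Algebra.subset_adjoin hx
      | algebraMap c =>
        rw [Algebra.algebraMap_eq_smul_one, adjJ_smul, adjJ_one, ← Algebra.algebraMap_eq_smul_one]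
        exact A.algebraMap_mem c
      | add x y _ _ ihx ihy => rw [adjJ_add]; exact A.add_mem ihx ihy
      | mul x y _ _ ihx ihy => rw [adjJ_mul]; exact A.mul_mem ihy ihx
  obtain ⟨D, rfl⟩ := Matrix.toLin'.surjective D
  have htop := hinv.eq_top (Algebra.subset_adjoin hC) hns
  have hDA : D ∈ A := htop ▸ Algebra.mem_top
  have := hsub hDA 1 (by simpa using BData.InD.scalar hT (1 : F))
  rwa [one_mul] at this

end CfsgLib.TensorWreathO
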