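import Cfsg.Agent.Lib.TensorWreathO.OddTwo
import Cfsg.Agent.Lib.TensorWreath.RepThree

/-!
Odd characteristic: a group of isometries of a tensor power of a symplectic form containing the roots of all slots
lies in the tensor wreath group or contains the Siegel group.
-/

set_option autoImplicit false
set_option linter.unusedSectionVars false
set_option linter.unusedVariables false
set_option linter.unusedSimpArgs false

namespace CfsgLib.TensorWreathO

open CfsgLib.Aschbacher CfsgLib.AschbacherForm CfsgLib.TensorWreath CfsgLib.TensorWreathSL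
open CfsgLib.TensorSp (In)
open QuadraticMap CfsgLib.Geometry CfsgLib.OrthMax
open scoped Matrix MatrixGroups

variable {F : Type*} [Field F] [Fintype F] {k s : ℕ} [NeZero k] {J₁ : GL (Fin k) F}
variable {M : Subgroup (GL (Fin (s + 1) → Fin k) F)}

/-- A twisted root in four dimensions or more gives every coefficient. -/
theorem all_of_nonRoot (hM : Slots J₁ M) (hF : Frame J₁ s) (h2 : (2 : F) ≠ 0) (h4 : 4 ≤ k)
    (hsw : ∀ (i : Fin (s + 1)) (a b : Fin s), emb i (permGL (Equiv.swap a b)) ∈ M) (h : NonRoot J₁ M) :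
    ∃ i : Fin (s + 1), ∀ D, (sd hF i).InD (M.map eqv) D := by
  obtain ⟨i, u, hu, Y, hYc, hYa, hYn, hYu⟩ := h
  obtain ⟨C, rfl⟩ := (cent_iff i Y).1 hYc
  have hC : adjJ (JT s J₁) C = C := embM_injective i (by rw [← adj_embM, hYa])
  have hT := hM.tau hF i
  refine ⟨i, all_of_long hM hF h2 h4 (hsw i) (C := C) ⟨fun x y => ?_, fun a c => ?_⟩
    fun c e => hYn c (by rw [e, map_smul, map_one])⟩
  · exact (adj_toLin C x y).trans (by rw [hC]; rfl)
  · rcases eq_or_ne a 0 with rfl | ha
    · rw [show (sd hF i).P 0 0 (Matrix.toLin' C) = 0 from LinearMap.ext fun T => by simp [BData.P_apply], smul_zero]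
      exact In.zero _
    · obtain ⟨ρ, hρ, e⟩ := BData.exists_move_zero hT hu ha
      have h1 : In (M.map eqv) ((sd hF i).P u u (c • Matrix.toLin' C)) := by
        rw [← map_smul, P_eq, in_iff, map_smul, Matrix.mul_smul]
        exact hYu.mem c
      have := h1.actB₁ hT.iso hρ
      rwa [e, BData.P_smul] at this

/-- The dichotomy in odd characteristic. -/
theorem odd_cases (hM : Slots J₁ M) (hF : Frame J₁ s) (h2 : (2 : F) ≠ 0)
    (hk3 : ¬ (Fintype.card F = 3 ∧ k = 2)) (hn : 13 ≤ k ^ (s + 1))
    (hsw : ∀ (i : Fin (s + 1)) (a b : Fin s), emb i (permGL (Equiv.swap a b)) ∈ M)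
    {Q : QuadraticForm F ((Fin (s + 1) → Fin k) → F)}
    (hB : ∀ x y, polar Q x y = BF (JT (s + 1) J₁ : TMat F k (s + 1)) x y)
    (hsing : ∀ i u w, Q (tpL i u w) = 0) (hle : M.map eqv ≤ orth Q) :
    M ≤ Std F k (s + 1) ∨ siegelGroup Q ≤ M.map eqv := by
  classical
  have hk0 : k ≠ 0 := NeZero.ne k
  have hkeven : Even k := by
    by_contra hodd
    rw [Nat.not_even_iff_odd] at hodd
    have hdet := (Matrix.isUnit_iff_isUnit_det _).1 J₁.isUnit
    have e := congrArg Matrix.det hF.skew
    rw [Matrix.det_transpose, Matrix.det_neg, Fintype.card_fin, hodd.neg_one_pow] at e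
    exact hdet.ne_zero ((mul_eq_zero.1 (show (2 : F) * (J₁ : Matrix (Fin k) (Fin k) F).det = 0 by
      linear_combination e)).resolve_left h2)
  have hc := hM.ctx hF.skew h2
  by_cases hnr : NonRoot J₁ M
  · refine Or.inr ?_
    by_cases h4 : 4 ≤ k
    · obtain ⟨i, hall⟩ := all_of_nonRoot hM hF h2 h4 hsw hnr
      refine siegel_le_of_all (sd hF i) hB (hsing i) ?_ hle (by simpa using h4) hall
      rw [show polarBilin Q = BF (JT (s + 1) J₁ : TMat F k (s + 1)) from
        LinearMap.ext fun x => LinearMap.ext fun y => hB x y]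
      exact BF_nondeg _
    · obtain rfl : k = 2 := by
        obtain ⟨j, hj⟩ := hkeven
        omega
      obtain ⟨r, rfl⟩ : ∃ r, s = r + 1 := ⟨s - 1, by have := hF.pos; omega⟩
      have hr : 2 ≤ r := by
        by_contra hlt
        have : 2 ^ (r + 1 + 1) ≤ 2 ^ 3 := Nat.pow_le_pow_right (by norm_num) (by omega)
        omega
      have h5 : 5 ≤ Fintype.card F := by
        have hodd : Odd (Fintype.card F) := Nat.odd_iff.2 (FiniteField.odd_card_of_char_ne_two fun e => h2 (by
          haveI : CharP F 2 := e ▸ ringChar.charP F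
          exact CharP.cast_eq_zero F 2))
        have := Fintype.one_lt_card (α := F)
        obtain ⟨j, hj⟩ := hodd
        by_contra hlt
        exact hk3 ⟨by omega, rfl⟩
      exact siegel_le_two hM hF h2 h5 hr hsw hnr hB hsing hle
  · refine Or.inl fun g hg => ?_
    have hodd : Odd (Fintype.card F) := Nat.odd_iff.2 (FiniteField.odd_card_of_char_ne_two fun e => h2 (by
      haveI : CharP F 2 := e ▸ ringChar.charP F
      exact CharP.cast_eq_zero F 2))
    have hone := Fintype.one_lt_card (α := F)
    obtain ⟨j, hj⟩ := hodd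
    obtain ⟨a, ha⟩ := hkeven
    have hs : Singles J₁ M := by
      by_cases h5 : 5 ≤ Fintype.card F
      · exact hc.singles J₁ (by rwa [Nat.card_eq_fintype_card]) hnr
      · exact hc.singles_three J₁ (by rw [Nat.card_eq_fintype_card]; omega)
          (by by_contra hlt; exact hk3 ⟨by omega, by omega⟩) hnr
    obtain ⟨π, A, rfl⟩ := hs.decomp J₁ hc s.succ_pos (by omega) hg
    exact mul_mem (permGL_mem π) (pureGL_mem A)

end CfsgLib.TensorWreathO
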