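import Cfsg.Agent.Lib.TensorWreathO.Long
import Cfsg.Agent.Lib.TensorWreathO.Full
import Cfsg.Agent.Lib.TensorWreathO.Even
import Cfsg.Agent.Lib.TensorWreath.SpMain
import Cfsg.Agent.Lib.TensorWreathSU.Rest
import Cfsg.Agent.Lib.TensorWreathSU.Spread

/-!
Two dimensions in a slot, odd characteristic: a twisted root gives the whole symplectic group of all slots but one.
-/

set_option autoImplicit false
set_option linter.unusedSectionVars false
set_option linter.unusedVariables false
set_option linter.unusedSimpArgs false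

namespace CfsgLib.TensorWreathO

open CfsgLib.Aschbacher CfsgLib.AschbacherForm CfsgLib.TensorWreath CfsgLib.TensorWreathSL
open CfsgLib.TensorSp (In TData)
open QuadraticMap CfsgLib.Geometry CfsgLib.OrthMax
open scoped Matrix MatrixGroups

variable {F : Type*} [Field F] [Fintype F]

section tv

variable {ι : Type} [Fintype ι] [DecidableEq ι] {G : GL ι F} {M : Subgroup (GL ι F)}

/-- The centres all whose transvections lie in a group. -/
def TSet (G : GL ι F) (M : Subgroup (GL ι F)) (v : ι → F) : Prop :=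
  ∀ c : F, InM M (1 + c • Matrix.vecMulVec v (v ᵥ* (G : Matrix ι ι F)))

theorem TSet.smul {v : ι → F} (h : TSet G M v) (a : F) : TSet G M (a • v) := fun c => by
  rw [Matrix.smul_vecMul, Matrix.smul_vecMulVec, Matrix.vecMulVec_smul, smul_smul, smul_smul]
  exact h _

/-- Two centres which are not orthogonal give their sum. -/
theorem TSet.add (hM : ∀ g ∈ M, g.1ᵀ * (G : Matrix ι ι F) * g.1 = (G : Matrix ι ι F)) {v u : ι → F}
    (hv : TSet G M v) (hu : TSet G M u) (h : (u ᵥ* (G : Matrix ι ι F)) ⬝ᵥ v ≠ 0) : TSet G M (v + u) := fun c => by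
  obtain ⟨g, hg, eg⟩ := hu ((u ᵥ* (G : Matrix ι ι F)) ⬝ᵥ v)⁻¹
  obtain ⟨x, hx, ex⟩ := hv c
  refine ⟨g * x * g⁻¹, mul_mem (mul_mem hg hx) (inv_mem hg), ?_⟩
  have hgv : g.1 *ᵥ v = v + u := by
    rw [eg, Matrix.add_mulVec, Matrix.one_mulVec, Matrix.smul_mulVec, Matrix.vecMulVec_mulVec, op_smul_eq_smul,
      smul_smul, inv_mul_cancel₀ h, one_smul]
  rw [Units.val_mul, Units.val_mul, ex, mul_add, mul_one, add_mul, Units.mul_inv, mul_smul_comm, smul_mul_assoc,
    Matrix.mul_vecMulVec, Matrix.vecMulVec_mul, hgv]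
  congr 3
  rw [← hgv, ← Matrix.vecMul_transpose, Matrix.vecMul_vecMul, Matrix.vecMul_vecMul]
  conv_lhs => rw [← hM g hg, mul_assoc, Units.mul_inv, mul_one]

/-- The centres are everything if they contain enough. -/
theorem TSet.all (hM : ∀ g ∈ M, g.1ᵀ * (G : Matrix ι ι F) * g.1 = (G : Matrix ι ι F))
    (hG : ∀ v : ι → F, (v ᵥ* (G : Matrix ι ι F)) ⬝ᵥ v = 0)
    (hsingle : ∀ a, TSet G M (Pi.single a 1))
    (hthree : ∀ v : Fin 3 → ι → F, (∀ r, v r ≠ 0) →
      ∃ x, TSet G M x ∧ ∀ r, (v r ᵥ* (G : Matrix ι ι F)) ⬝ᵥ x ≠ 0)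
    (y : ι → F) : TSet G M y := by
  classical
  set b : (ι → F) → (ι → F) → F := fun v w => (v ᵥ* (G : Matrix ι ι F)) ⬝ᵥ w with hb
  have bl : ∀ u v w, b (u + v) w = b u w + b v w := fun u v w => by simp [b, Matrix.add_vecMul, add_dotProduct]
  have br : ∀ u v w, b u (v + w) = b u v + b u w := fun u v w => by simp [b, dotProduct_add]
  have bs : ∀ (c : F) u v, b u (c • v) = c * b u v := fun c u v => by simp [b, dotProduct_smul]
  have bt : ∀ (c : F) u v, b (c • u) v = c * b u v := fun c u v => by simp [b, Matrix.smul_vecMul, smul_dotProduct]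
  have ba : ∀ v w, b v w = -b w v := fun v w => by
    have h1 : b (v + w) (v + w) = 0 := hG _
    rw [bl, br, br, show b v v = 0 from hG v, show b w w = 0 from hG w] at h1
    linear_combination h1
  have hadd : ∀ v u, TSet G M v → TSet G M u → TSet G M (v + u) := by
    intro v u hv hu
    rcases eq_or_ne v 0 with rfl | hv0
    · rwa [zero_add]
    rcases eq_or_ne u 0 with rfl | hu0
    · rwa [add_zero]
    rcases eq_or_ne (v + u) 0 with h0 | h0
    · rw [h0, ← zero_smul F v]; exact hv.smul 0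
    rcases ne_or_eq (b u v) 0 with h | h
    · exact TSet.add hM hv hu h
    obtain ⟨z, hz, hf⟩ := hthree ![v, u, v + u] fun r => by fin_cases r <;> simpa
    have f1 : b v z ≠ 0 := hf 0
    have f2 : b u z ≠ 0 := hf 1
    have f3 : b (v + u) z ≠ 0 := hf 2
    rw [bl] at f3
    have a1 := TSet.add hM hv hz (show b z v ≠ 0 by rw [ba]; exact neg_ne_zero.2 f1)
    have a2 := TSet.add hM hu (hz.smul (-1)) (show b ((-1 : F) • z) u ≠ 0 by
      rw [bt, ba]; simpa using f2)
    have a3 := TSet.add hM a1 a2 (show b (u + (-1 : F) • z) (v + z) ≠ 0 by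
      rw [bl, br, br, bt, bt, h, show b z z = 0 from hG z, ba z v]
      intro e
      exact f3 (by linear_combination e))
    convert a3 using 1
    module
  rw [show y = ∑ a, y a • (Pi.single a 1 : ι → F) from funext fun c => by simp [Pi.single_apply]]
  induction (Finset.univ : Finset ι) using Finset.induction_on with
  | empty =>
    rw [Finset.sum_empty]
    intro c
    rw [Matrix.zero_vecMul, Matrix.zero_vecMulVec, smul_zero, add_zero]
    exact InM.one
  | insert a S ha ih => rw [Finset.sum_insert ha]; exact hadd _ _ ((hsingle a).smul _) ih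

end tv

variable {k s : ℕ} [NeZero k] {J₁ : GL (Fin k) F}

theorem adj_pure' (f : Fin s → Matrix (Fin k) (Fin k) F) :
    adjJ (JT s J₁) (pure' f) = pure' fun l => adjJ J₁ (f l) := by
  refine adjJ_eq _ ?_
  show (pure' f)ᵀ * pure' (fun _ : Fin s => (J₁ : Matrix (Fin k) (Fin k) F)) =
    pure' (fun _ : Fin s => (J₁ : Matrix (Fin k) (Fin k) F)) * pure' fun l => adjJ J₁ (f l)
  rw [trans_pure, pure'_mul, pure'_mul]
  exact congrArg _ (funext fun l => adjJ_gram J₁ (f l))

/-- The hypotheses in the form of the symplectic case. -/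
theorem Slots.ctx {M : Subgroup (GL (Fin (s + 1) → Fin k) F)} (hM : Slots J₁ M)
    (hskew : (J₁ : Matrix (Fin k) (Fin k) F)ᵀ = -(J₁ : Matrix (Fin k) (Fin k) F)) (h2 : (2 : F) ≠ 0) :
    Ctx J₁ M := by
  refine ⟨hskew, h2, fun g hg => adjJ_eq _ ?_, fun i u => ⟨?_, hM.root i u⟩⟩
  · conv_rhs => rw [← hM.iso g hg, mul_assoc, Units.mul_inv, mul_one]
  · rw [← slot_mul, TensorWreath.aR_sq J₁ hskew h2, slot_zero]

theorem Frame.odd (hF : Frame J₁ s) (h2 : (2 : F) ≠ 0) : Odd s := by
  rcases Nat.even_or_odd s with h | h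
  · have := hF.sgn
    rw [h.neg_one_pow] at this
    exact absurd (show (2 : F) = 0 by linear_combination this) h2
  · exact h

theorem nR_two {J : GL (Fin 2) F} (hskew : (J : Matrix (Fin 2) (Fin 2) F)ᵀ = -(J : Matrix (Fin 2) (Fin 2) F))
    (h2 : (2 : F) ≠ 0) {v w : Fin 2 → F} (h : fo J v w = 0) : nR J v w = 0 := by
  have e : ∀ a b, (J : Matrix (Fin 2) (Fin 2) F) a b = -(J : Matrix (Fin 2) (Fin 2) F) b a := fun a b => by
    have := congrFun (congrFun hskew b) a
    rwa [Matrix.transpose_apply, Matrix.neg_apply] at this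
  have d : ∀ a, (J : Matrix (Fin 2) (Fin 2) F) a a = 0 := fun a =>
    (mul_eq_zero.1 (show (2 : F) * (J : Matrix (Fin 2) (Fin 2) F) a a = 0 by linear_combination e a a)).resolve_left h2
  have hj : (J : Matrix (Fin 2) (Fin 2) F) 0 1 ≠ 0 := fun h0 => by
    have hdet := (Matrix.isUnit_iff_isUnit_det _).1 J.isUnit
    rw [Matrix.det_fin_two, d, d, h0] at hdet
    simp at hdet
  have hvw : v 0 * w 1 = v 1 * w 0 := by
    simp only [fo, fw, Matrix.vecMul, dotProduct, Fin.sum_univ_two, d, e 1 0] at h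
    refine mul_left_cancel₀ hj ?_
    linear_combination h
  ext a b
  simp only [nR, rk, fw, Matrix.sub_apply, Matrix.vecMulVec_apply, Matrix.vecMul, dotProduct, Fin.sum_univ_two,
    Matrix.zero_apply]
  fin_cases a <;> simp only [Fin.zero_eta, Fin.mk_one]
  · linear_combination (J : Matrix (Fin 2) (Fin 2) F) 1 b * hvw
  · linear_combination (-(J : Matrix (Fin 2) (Fin 2) F) 0 b) * hvw

variable {r : ℕ} {J : GL (Fin 2) F} {M : Subgroup (GL (Fin (r + 1 + 1) → Fin 2) F)}

/-- A twisted root leaves some slot out. -/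
theorem exists_rest (hM : Slots J M) (hF : Frame J (r + 1)) (h2 : (2 : F) ≠ 0) (h : NonRoot J M) :
    ∃ l : Fin (r + 1 + 1), NonRoot J (M.comap (emb l)) := by
  classical
  have hc := hM.ctx hF.skew h2
  obtain ⟨i, u, hu, Y, hYc, -, hYn, hYu⟩ := h
  obtain ⟨S, A, hne, hP⟩ := exists_pat J hc hu (Y := Y) ⟨hYc, by simpa using hYu.mem 1⟩ hYn
  have haR : ∀ j ∈ S, ∃ w, w ≠ 0 ∧ A j = aR J w := fun j hj => by
    rcases hP.nil j hj with h | ⟨v, w, hvw, hne', -⟩
    · exact h
    · exact absurd (nR_two hF.skew h2 hvw) hne'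
  set X := slot i (aR J u) * pure' A with hX
  have hXu := hP.coef.unip J hc hu
  have hadj : adjJ (JT (r + 1 + 1) J) (pure' A) = pure' A := by
    have hsk := hM.skew (by simpa using hXu.mem 1) hXu.sq
    have hc' : Cent i (adjJ (JT (r + 1 + 1) J) (pure' A)) := cent_adj J hF.skew hP.coef.1
    rw [adjJ_mul, adj_slot, adj_aR J hF.skew, slot_neg, mul_neg, neg_inj, ← hc'] at hsk
    refine sub_eq_zero.1 (eq_zero_of_slot_mul J i (rk_ne_zero J hu hu) (X := _ - _) (fun B => ?_) ?_)
    · rw [mul_sub, sub_mul, hc', hP.coef.1]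
    · rw [mul_sub]; exact sub_eq_zero.2 hsk
  have hA0 : pure' A ≠ 0 := by
    obtain ⟨j, hj⟩ := hne
    intro e
    choose w hw using haR
    have hwit : ∀ l, ∃ x y : Fin 2, A l x y ≠ 0 := fun l => by
      by_cases hl : l ∈ S
      · have h0 : A l ≠ 0 := by rw [(hw l hl).2]; exact rk_ne_zero J (hw l hl).1 (hw l hl).1
        by_contra hcon
        push Not at hcon
        exact h0 (Matrix.ext fun x y => hcon x y)
      · exact ⟨0, 0, by rw [hP.one l hl]; simp⟩
    choose x y hxy using hwit
    exact Finset.prod_ne_zero_iff.2 (fun l _ => hxy l) (show ∏ l, A l (x l) (y l) = 0 from congrFun (congrFun e x) y)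
  obtain ⟨l, hli, hlS⟩ : ∃ l, l ≠ i ∧ l ∉ S := by
    by_contra hcon
    push Not at hcon
    have hS : S = Finset.univ.erase i := Finset.ext fun j => by
      simp only [Finset.mem_erase, Finset.mem_univ, and_true]
      exact ⟨fun hj e => hP.notMem (e ▸ hj), hcon j⟩
    have hodd : Odd S.card := by
      rw [hS, Finset.card_erase_of_mem (Finset.mem_univ i), Finset.card_univ, Fintype.card_fin, Nat.add_sub_cancel]
      exact hF.odd h2
    have e : adjJ (JT (r + 1 + 1) J) (pure' A) = -pure' A := by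
      rw [adj_pure', show (fun j => adjJ J (A j)) = fun j => (if j ∈ S then (-1 : F) else 1) • A j from
        funext fun j => by
          by_cases hj : j ∈ S
          · obtain ⟨w, -, ew⟩ := haR j hj
            rw [if_pos hj, ew, adj_aR J hF.skew, neg_one_smul]
          · rw [if_neg hj, hP.one j hj, adjJ_one, one_smul], pure'_smul]
      rw [Finset.prod_ite_mem, Finset.univ_inter, Finset.prod_const, hodd.neg_one_pow, neg_one_smul]
    rw [hadj] at e
    have : (2 : F) • pure' A = 0 := by rw [two_smul]; nth_rewrite 2 [e]; rw [add_neg_cancel]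
    exact hA0 ((smul_eq_zero.1 this).resolve_left h2)
  refine ⟨l, ?_⟩
  obtain ⟨i', rfl⟩ := Fin.exists_succAbove_eq (Ne.symm hli)
  set A' : Fin (r + 1) → Matrix (Fin 2) (Fin 2) F := fun j => A (l.succAbove j) with hA'
  have hemb : embM l (pure' A') = pure' A := by
    rw [TensorWreathSU.embM_pure]
    congr 1
    refine funext ((Fin.forall_iff_succAbove l).2 ⟨?_, fun j => ?_⟩)
    · simp [hP.one l hlS]
    · simp [hA']
  have hsq : (slot i' (aR J u) * pure' A') * (slot i' (aR J u) * pure' A') = (0 : TMat F 2 (r + 1)) :=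
    embM_injective l (by rw [map_mul, map_mul, embM_slot, hemb, map_zero]; exact hXu.sq)
  have hcent : Cent i' (pure' A') := fun B => embM_injective l (by
    rw [map_mul, map_mul, embM_slot, hemb]; exact hP.coef.1 B)
  have hc' : Ctx J (M.comap (emb l)) := (hM.comap hF l).ctx hF.skew h2
  refine ⟨i', u, hu, pure' A', hcent, embM_injective l (by rw [← adj_embM, hemb, hadj]), fun c e => ?_,
    hc'.scale_mem J hu hcent ?_⟩
  · have e' : pure' A = c • (1 : TMat F 2 (r + 1 + 1)) := by rw [← hemb, e, map_smul, map_one]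
    have h0 := hP.unip_sq J hc hne
    rw [e', smul_mul_smul_comm, one_mul, smul_eq_zero] at h0
    exact hA0 (by rw [e', mul_self_eq_zero.1 (h0.resolve_right one_ne_zero), zero_smul])
  · exact TensorWreathSU.inM_rest hsq (by rw [map_mul, embM_slot, hemb]; simpa using hXu.mem 1)

/-- All transvections of all slots but one. -/
theorem exists_tvs (hM : Slots J M) (hF : Frame J (r + 1)) (h2 : (2 : F) ≠ 0) (h3 : 3 ≤ Fintype.card F)
    (hsw : ∀ (i : Fin (r + 1 + 1)) (a b : Fin (r + 1)), emb i (permGL (Equiv.swap a b)) ∈ M) (h : NonRoot J M) :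
    ∃ l : Fin (r + 1 + 1), ∀ v, TSet (JT (r + 1) J) (M.comap (emb l)) v := by
  classical
  obtain ⟨l, hl⟩ := exists_rest hM hF h2 h
  set K := M.comap (emb l)
  have hK : Slots J K := hM.comap hF l
  have hc' : Ctx J K := hK.ctx hF.skew h2
  obtain ⟨w, hw, hU⟩ := hl.spread J hc' (hF.odd h2) fun a b => hsw l a b
  have hpure : ∀ x : Fin (r + 1) → Fin 2 → F, (∀ j, x j ≠ 0) → TSet (JT (r + 1) J) K fun a => ∏ j, x j (a j) := by
    intro x hx c
    convert (aR_move J hc' hU hw x hx).mem c using 3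
    ext a b
    show (∏ j, x j (a j)) * _ = pure' (fun j => aR J (x j)) a b
    simp only [pure', Matrix.of_apply, aR, rk, Matrix.vecMulVec_apply, Finset.prod_mul_distrib, fw, Matrix.vecMul,
      dotProduct]
    congr 1
    rw [Fintype.prod_sum]
    refine Finset.sum_congr rfl fun z _ => ?_
    show (∏ j, x j (z j)) * ∏ j, (J : Matrix (Fin 2) (Fin 2) F) (z j) (b j) = _
    rw [← Finset.prod_mul_distrib]
  refine ⟨l, fun v => TSet.all hK.iso (fun v => ?_) (fun a => ?_) (fun vs hvs => ?_) v⟩
  · rw [← Matrix.dotProduct_mulVec, ← BF_apply]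
    exact hF.alt_rest v
  · convert hpure (fun j => Pi.single (a j) 1) (fun j e => one_ne_zero (α := F) (by simpa using congrFun e (a j)))
      using 1
    funext b
    by_cases hb : b = a
    · subst hb; simp
    · obtain ⟨j, hj⟩ := Function.ne_iff.1 hb
      rw [Pi.single_eq_of_ne hb, Finset.prod_eq_zero (Finset.mem_univ j) (Pi.single_eq_of_ne hj _)]
  · obtain ⟨x, hx⟩ := exists_pure_three (d := 2) h3 (r + 1)
      (fun i => vs i ᵥ* (JT (r + 1) J : TMat F 2 (r + 1))) fun i e => hvs i (by
        have := congrArg (fun u => u ᵥ* ((JT (r + 1) J)⁻¹ : GL (Fin (r + 1) → Fin 2) F).1) e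
        simpa [Matrix.vecMul_vecMul] using this)
    refine ⟨_, hpure x fun j e => hx 0 (Finset.sum_eq_zero fun a _ => ?_), fun i => ?_⟩
    · rw [Finset.prod_eq_zero (Finset.mem_univ j) (by rw [e]; rfl), mul_zero]
    · exact hx i

/-- With twisted roots the group contains the Siegel group. -/
theorem siegel_le_two (hM : Slots J M) (hF : Frame J (r + 1)) (h2 : (2 : F) ≠ 0) (h5 : 5 ≤ Fintype.card F)
    (hr : 2 ≤ r) (hsw : ∀ (i : Fin (r + 1 + 1)) (a b : Fin (r + 1)), emb i (permGL (Equiv.swap a b)) ∈ M)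
    (h : NonRoot J M) {Q : QuadraticForm F ((Fin (r + 1 + 1) → Fin 2) → F)}
    (hB : ∀ x y, polar Q x y = BF (JT (r + 1 + 1) J : TMat F 2 (r + 1 + 1)) x y)
    (hsing : ∀ i u w, Q (tpL i u w) = 0) (hle : M.map eqv ≤ orth Q) : siegelGroup Q ≤ M.map eqv := by
  classical
  obtain ⟨l, hl⟩ := exists_tvs hM hF h2 (by omega) hsw h
  have hQ : (polarBilin Q).Nondegenerate := by
    rw [show polarBilin Q = BF (JT (r + 1 + 1) J : TMat F 2 (r + 1 + 1)) from
      LinearMap.ext fun x => LinearMap.ext fun y => hB x y]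
    exact BF_nondeg _
  let d := sd hF l
  let h : TData Q ((Fin (r + 1) → Fin 2) → F) (Fin 2 → F) :=
    { tp := tpL l
      fU := d.fU
      gW := d.gW
      fAlt := d.fAlt
      gAlt := d.gAlt
      fnd := d.fnd
      gnd := d.gnd
      pol := fun u u' w w' => by rw [hB]; exact d.pol u u' w w'
      sing := hsing l
      sep := fun T hT => d.sep T fun u w => by rw [← hB]; exact hT u w }
  have hW : Module.finrank F ((Fin (r + 1) → Fin 2) → F) = 2 ^ (r + 1) := by simp
  have hW8 : 8 ≤ 2 ^ (r + 1) := le_trans (le_of_eq (by norm_num : 8 = 2 ^ 3)) (Nat.pow_le_pow_right (by norm_num) (by omega))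
  have hG : h.swap.Gens (M.map eqv) := by
    refine ⟨hle, fun w c => ?_, fun z c => ?_⟩
    · obtain ⟨g, hg, eg⟩ := hl w c
      refine ⟨eqv (emb l g), ⟨_, hg, rfl⟩, fun T => LinearMap.congr_fun
        (ext_tp l (φ := (eqv (emb l g)).toLinearMap) (ψ := 1 + c • h.swap.P w w 1) fun u x => ?_) T⟩
      show (emb l g).1 *ᵥ tpL l u x = tpL l u x + c • h.swap.P w w 1 (tpL l u x)
      rw [emb_val, ← one_mul (embM l g.1), ← slot_one l, slot_embM_mulVec, Matrix.one_mulVec, eg, Matrix.add_mulVec,
        Matrix.one_mulVec, Matrix.smul_mulVec, Matrix.vecMulVec_mulVec, op_smul_eq_smul, map_add, map_smul, map_smul,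
        LinearMap.add_apply, LinearMap.smul_apply, LinearMap.smul_apply, TData.P_apply,
        show tpL l u x = h.swap.tp x u from rfl, TData.c_tp, Module.End.one_apply, map_smul, LinearMap.smul_apply]
      congr 2
      show _ = BF (JT (r + 1) J : TMat F 2 (r + 1)) w u • _
      rw [BF_apply, Matrix.dotProduct_mulVec]
      rfl
    · obtain ⟨g, hg, eg⟩ := hM.root l z c
      refine ⟨eqv g, ⟨_, hg, rfl⟩, fun T => LinearMap.congr_fun
        (ext_tp l (φ := (eqv g).toLinearMap) (ψ := 1 + c • h.P z z 1) fun u x => ?_) T⟩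
      show g.1 *ᵥ tpL l u x = tpL l u x + c • h.P z z 1 (tpL l u x)
      rw [eg, Matrix.add_mulVec, Matrix.one_mulVec, Matrix.smul_mulVec, TData.P_apply,
        show tpL l u x = h.tp u x from rfl, TData.c_tp, Module.End.one_apply]
      congr 2
      show slot l (aR J z) *ᵥ tpL l u x = tpL l (BF (J : Matrix (Fin 2) (Fin 2) F) z x • u) z
      rw [← mul_one (slot l (aR J z) : TMat F 2 (r + 1 + 1)), ← map_one (embM (F := F) (m := 2) l), slot_embM_mulVec,
        Matrix.one_mulVec, aR, rk_mulVec, BF_fo]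
      simp only [map_smul, LinearMap.smul_apply]
  rcases TData.dichotomy hG hQ (by rw [hW]; simp; omega) (by rw [hW]; omega) (by simp)
    (Or.inr (by
      by_contra hcon
      push Not at hcon
      have hsub : (Finset.univ : Finset F) ⊆ {0, 1} := fun x _ => by
        rcases eq_or_ne x 0 with rfl | hx
        · simp
        · simp [hcon x hx]
      have := Finset.card_le_card hsub
      rw [Finset.card_univ] at this
      have := this.trans Finset.card_le_two
      omega)) with hs | hperm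
  · exact hs
  exfalso
  -- an exchange of slots moves a line
  set j' : Fin (r + 1) := 0
  set j := l.succAbove j' with hj
  obtain ⟨i, hil, hij⟩ : ∃ i, i ≠ l ∧ i ≠ j := by
    have h3 : ({l, j} : Finset (Fin (r + 1 + 1))).card < (Finset.univ : Finset (Fin (r + 1 + 1))).card := by
      rw [Finset.card_univ, Fintype.card_fin]
      exact lt_of_le_of_lt Finset.card_le_two (by omega)
    obtain ⟨i, -, hi⟩ := Finset.exists_mem_notMem_of_card_lt_card h3
    simp only [Finset.mem_insert, Finset.mem_singleton, not_or] at hi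
    exact ⟨i, hi.1, hi.2⟩
  obtain ⟨a, ha⟩ := Fin.exists_succAbove_eq (Ne.symm hil)
  obtain ⟨b, hb⟩ := Fin.exists_succAbove_eq (Ne.symm hij)
  have hmem : permGL (Equiv.swap l j) ∈ M := by
    rw [← TensorWreathSU.emb_permGL i (Equiv.swap a b) (Equiv.swap l j)
      (Equiv.swap_apply_of_ne_of_ne hil hij) fun z => by
        rw [← ha, ← hb, (Fin.succAbove_right_injective (p := i)).swap_apply]]
    exact hsw i a b
  set y₀ : Fin (r + 1) → Fin 2 := fun _ => 0
  obtain ⟨w', hw', hA⟩ := hperm _ ⟨_, hmem, rfl⟩ (Pi.single y₀ 1) (by simp)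
  have himg : ∀ x : Fin 2, Pi.single (Function.update y₀ j' x) (1 : F) ∈ Submodule.span F {w'} := fun x => by
    set y : Fin (r + 1 + 1) → Fin 2 := l.insertNth x y₀
    have hy : h.swap.tp (Pi.single x 1) (Pi.single y₀ (1 : F)) = Pi.single y 1 := by
      show tpL l (Pi.single y₀ 1) (Pi.single x 1) = _
      rw [← tpL_single l y]
      simp [y]
    have h1 := hA (Pi.single x 1)
    rw [hy, eqv_apply, show (permGL (Equiv.swap l j) : GL (Fin (r + 1 + 1) → Fin 2) F).1 *ᵥ Pi.single y 1 =
        Pi.single (y ∘ Equiv.swap l j) 1 from funext fun z => by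
      rw [Matrix.mulVec_single_one]
      show (if y = z ∘ Equiv.swap l j then (1 : F) else 0) = _
      rw [Pi.single_apply]
      refine if_congr ⟨fun e => ?_, fun e => ?_⟩ rfl rfl
      · rw [e, Function.comp_assoc]; simp [← Equiv.coe_trans]
      · rw [e, Function.comp_assoc]; simp [← Equiv.coe_trans],
      ← tpL_single l] at h1
    refine h.swap.tp_mem_A_iff (u := Pi.single ((y ∘ Equiv.swap l j) l) (1 : F)) (by simp) ?_
    convert h1 using 3
    funext z
    have : l.removeNth (y ∘ Equiv.swap l j) = Function.update y₀ j' x := by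
      funext p
      simp only [Fin.removeNth, Function.comp_apply]
      rcases eq_or_ne p j' with rfl | hp
      · simp [y, hj]
      · rw [Equiv.swap_apply_of_ne_of_ne (Fin.succAbove_ne l p)
          (fun e => hp (Fin.succAbove_right_injective e)), Function.update_of_ne hp]
        simp [y]
    rw [this]
    rfl
  obtain ⟨c₀, e₀⟩ := Submodule.mem_span_singleton.1 (himg 0)
  obtain ⟨c₁, e₁⟩ := Submodule.mem_span_singleton.1 (himg 1)
  have hne : Function.update y₀ j' (1 : Fin 2) ≠ Function.update y₀ j' 0 := fun e => by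
    simpa using congrFun e j'
  have a1 := congrFun e₁ (Function.update y₀ j' 1)
  have a0 := congrFun e₀ (Function.update y₀ j' 1)
  have b0 := congrFun e₀ (Function.update y₀ j' 0)
  simp only [Pi.smul_apply, smul_eq_mul, Pi.single_eq_same] at a1 b0
  rw [Pi.smul_apply, smul_eq_mul, Pi.single_eq_of_ne hne] at a0
  rcases mul_eq_zero.1 a0 with e | e
  · rw [e, zero_mul] at b0; exact zero_ne_one b0
  · rw [e, mul_zero] at a1; exact zero_ne_one a1

end CfsgLib.TensorWreathO
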