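import Cfsg.Agent.Lib.TensorWreathO.Data

/-! A root element whose image is orthogonal to a line of the second factor. -/

set_option autoImplicit false
set_option linter.unusedSectionVars false
set_option linter.unusedVariables false
set_option linter.unusedSimpArgs false

namespace CfsgLib.TensorWreathO

open CfsgLib.Geometry CfsgLib.OrthMax
open CfsgLib.TensorSp (In)

variable {F V U W : Type*} [Field F] [AddCommGroup V] [Module F V] [AddCommGroup U] [Module F U]
  [AddCommGroup W] [Module F W]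
variable [FiniteDimensional F V] [FiniteDimensional F U] [FiniteDimensional F W]
variable {B : LinearMap.BilinForm F V} {M : Subgroup (V ≃ₗ[F] V)}

theorem _root_.CfsgLib.TensorSp.In.polar_eqB (hM : Iso B M) {X : Module.End F V} (hX : In M X) (S T : V) :
    B (X S) T + B S (X T) + B (X S) (X T) = 0 := by
  obtain ⟨g, hg, eg⟩ := hX
  have e := hM _ hg S T
  rw [eg, eg, LinearMap.BilinForm.add_left, LinearMap.BilinForm.add_right, LinearMap.BilinForm.add_right] at e
  linear_combination e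

theorem _root_.CfsgLib.TensorSp.In.divB {A X Z : Module.End F V} (hA : In M A) (hX : In M X) (e : Z + X + Z * X = A) : In M Z := by
  obtain ⟨a, ha, ea⟩ := hA
  obtain ⟨x, hx, ex⟩ := hX
  refine ⟨a * x⁻¹, mul_mem ha (inv_mem hx), fun T => ?_⟩
  obtain ⟨S, rfl⟩ := x.surjective T
  show a (x.symm (x S)) = _
  rw [x.symm_apply_apply, ea, ← e, ex, map_add]
  simp only [LinearMap.add_apply, Module.End.mul_apply]
  abel

namespace BData

variable {h : BData B U W} [Nontrivial U] [Nontrivial W] (hG : h.Tau M)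

include hG

/-- The root elements obtained from one element of the radical. -/
theorem radical_InD (h5 : 5 ≤ Module.finrank F W) {X : Module.End F V} (hX : In M X) {w : W} (hw : w ≠ 0)
    (hA : ∀ u, X (h.tp u w) = 0) (hV : ∀ T, h.c w (X T) = 0) {v : W} (hvw : h.gW v w = 0)
    (hv : v ∉ Submodule.span F {w}) {D : Module.End F U} (hD : ∀ u, X (h.tp u v) = h.tp (D u) w) :
    h.InD M D := by
  obtain ⟨w₁, hw₁⟩ := h.exists_g_one hw
  have hw2 : h.gW w (-w₁) = 1 := by rw [map_neg, h.g_swap, hw₁, neg_neg]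
  let D' : Module.End F U := - (h.c v ∘ₗ X ∘ₗ h.tp.flip (-w₁))
  have key : ∀ u T, h.fU (D u) (h.c w T) + h.fU u (h.c v (X T)) = 0 := fun u T => by
    have := hX.polar_eqB hG.iso (h.tp u v) T
    rw [hD, h.polar_tp, h.polar_tp, h.polar_tp, hV, map_zero, add_zero] at this
    exact this
  have hadj : ∀ u x, h.fU (D u) x = h.fU u (D' x) := fun u x => by
    have := key u (h.tp x (-w₁))
    rw [h.c_tp, hw2, one_smul] at this
    rw [eq_neg_of_add_eq_zero_left this, ← map_neg]; rfl
  have hcX : ∀ T, h.c v (X T) = - D' (h.c w T) := fun T => h.ext_f fun u => by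
    rw [map_neg, ← hadj]
    linear_combination key u T
  have hwv := h.g_swap_zero hvw
  have hPX : h.P v v 1 * X = - h.P v w D' := LinearMap.ext fun T => by
    simp [P_apply, hcX]
  have hXP : X * h.P v v 1 = h.P w v D := LinearMap.ext fun T => by
    simp [P_apply, hD]
  set G : Module.End F U := - (D * D') with hGdef
  set N₀ : W → Module.End F V := fun b => h.P w b (-D) + h.P b w (-D') with hN₀
  have hZ : In M (N₀ v + h.P w w G) := by
    have hk := hG.tau v 1
    rw [one_smul] at hk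
    obtain ⟨k, hk, ek⟩ := hk
    have hconj : In M (X + h.P v v 1 * X - X * h.P v v 1) := hX.conj hk fun T => by
      rw [ek, ek, hPX, hXP]
      have e1 : h.P v v 1 (X T) = - h.P v w D' T := LinearMap.congr_fun hPX T
      have e2 : X (h.P v v 1 T) = h.P w v D T := LinearMap.congr_fun hXP T
      simp only [LinearMap.add_apply, LinearMap.sub_apply, LinearMap.neg_apply, map_add, e1, e2]
      simp [P_apply, hvw, hwv, h.g_self]
    refine hconj.divB hX ?_
    rw [hPX, hXP, hN₀]
    refine LinearMap.ext fun T => ?_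
    simp [P_apply, hGdef, hcX, hV]
    abel
  have hE : ∀ b, h.gW w b = 0 → b ∉ Submodule.span F {w} → In M (N₀ b + h.P w w G) := fun b hwb hb => by
    obtain ⟨ρ, ⟨k, hk, ek⟩, e1, e2⟩ := exists_move_fix hG hvw (h.g_swap_zero hwb) hv hb
    refine hZ.conj hk fun T => ?_
    have c1 : h.c w (k T) = h.c w T := by
      have := c_act (h := h) hG.iso hk ek w T; rwa [e1] at this
    have c2 : h.c b (k T) = h.c v T := by
      have := c_act (h := h) hG.iso hk ek v T; rwa [e2] at this
    simp only [hN₀, LinearMap.add_apply, map_add, P_apply, ek, e1, e2, c1, c2]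
  obtain ⟨b, hwb, hvb, hb⟩ := exists_perp_two (h := h) h5 w v
  have hbv := h.g_swap_zero hvb
  have hbw := h.g_swap_zero hwb
  have hbn : b ∉ Submodule.span F {w} := fun hm => hb (Submodule.span_mono (by simp) hm)
  have hsn : v + b ∉ Submodule.span F {w} := fun hm => hb (by
    obtain ⟨s, hs⟩ := Submodule.mem_span_singleton.1 hm
    exact Submodule.mem_span_pair.2 ⟨s, -1, by rw [hs]; module⟩)
  have hsum : N₀ (v + b) = N₀ v + N₀ b := by
    simp only [hN₀]
    refine LinearMap.ext fun T => ?_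
    simp [P_apply]
    abel
  have hneg : In M (-(N₀ (v + b) + h.P w w G)) := (hE _ (by rw [map_add, hwv, hwb, add_zero]) hsn).neg
    (by simp [hN₀, add_mul, mul_add, P_mul, h.g_self, hwv, hwb, hvw, hbw, hvb, hbv])
  have hGG := (hZ.add (hE b hwb hbn) (by
      simp [hN₀, add_mul, mul_add, P_mul, h.g_self, hwv, hwb, hvw, hbw, hvb, hbv])).add hneg (by
      simp [hN₀, add_mul, mul_add, P_mul, h.g_self, hwv, hwb, hvw, hbw, hvb, hbv])
  rw [hsum, show N₀ v + h.P w w G + (N₀ b + h.P w w G) + -(N₀ v + N₀ b + h.P w w G) = h.P w w G by abel] at hGG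
  have hadjn : ∀ u x, h.fU ((-D) u) x = h.fU u ((-D') x) := fun u x => by simp [hadj]
  have hnegD : h.InD M (-D) := InD.of_single hG hadjn hw fun b hwb hb => by
    have hbw := h.g_swap_zero hwb
    have := (hE b hwb hb).add (hGG.neg (h.P_mul_zero (h.g_self w) _ _ _ _))
      (by simp [hN₀, add_mul, P_mul, h.g_self, hwb, hbw])
    rwa [show N₀ b + h.P w w G + -h.P w w G = N₀ b by abel] at this
  have := hnegD.smul hG h5 (-1)
  rwa [neg_one_smul, neg_neg] at this

/-- An element of the radical gives a non-scalar member or acts on the second factor only. -/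
theorem radical_dichotomy (hQ : (B).Nondegenerate) (h5 : 5 ≤ Module.finrank F W)
    {X : Module.End F V} (hX : In M X) {w : W} (hw : w ≠ 0) (hA : ∀ u, X (h.tp u w) = 0)
    (hP : ∀ u v, h.gW v w = 0 → X (h.tp u v) ∈ h.A w) (hV : ∀ T, h.c w (X T) = 0) :
    (∃ D, h.InD M D ∧ ∀ s : F, D ≠ s • 1) ∨
      ∃ κ : Module.End F W, ∀ u y, X (h.tp u y) = h.tp u (κ y) := by
  refine or_iff_not_imp_left.2 fun hno => ?_
  have hsc : ∀ D, h.InD M D → ∃ s : F, D = s • 1 := fun D hD => by
    by_contra e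
    push Not at e
    exact hno ⟨D, hD, e⟩
  obtain ⟨w₁, hw₁⟩ := h.exists_g_one hw
  have hw2 : h.gW w (-w₁) = 1 := by rw [map_neg, h.g_swap, hw₁, neg_neg]
  obtain ⟨u₀, hu₀⟩ := exists_ne (0 : U)
  obtain ⟨a, ha⟩ := h.swap.exists_g_one hu₀
  change h.fU a u₀ = 1 at ha
  let Λ : Module.Dual F W := h.fU a ∘ₗ h.c w₁ ∘ₗ X ∘ₗ h.tp u₀
  have hdiag : ∀ u v, h.gW v w = 0 → X (h.tp u v) = h.tp u (Λ v • w) := by
    intro u v hv
    by_cases hm : v ∈ Submodule.span F {w}
    · obtain ⟨s, rfl⟩ := Submodule.mem_span_singleton.1 hm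
      have : Λ (s • w) = 0 := by simp [Λ, hA]
      rw [this, zero_smul, map_zero, map_smul, map_smul, hA, smul_zero]
    let D : Module.End F U := h.c w₁ ∘ₗ X ∘ₗ h.tp.flip v
    have hD : ∀ u, X (h.tp u v) = h.tp (D u) w := fun u => by
      obtain ⟨y, hy⟩ := hP u v hv
      simp only [D, LinearMap.comp_apply, LinearMap.flip_apply, ← hy]
      rw [h.c_tp, hw₁, one_smul]
    obtain ⟨s, hs⟩ := hsc D (radical_InD hG h5 hX hw hA hV hv hm hD)
    have hΛ : Λ v = s := by
      show h.fU a (D u₀) = s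
      rw [hs, LinearMap.smul_apply, Module.End.one_apply, map_smul, ha, smul_eq_mul, mul_one]
    rw [hD, hs, hΛ, LinearMap.smul_apply, Module.End.one_apply, map_smul, LinearMap.smul_apply, map_smul]
  obtain ⟨b, hb⟩ : ∃ b, ∀ y, h.gW b y = Λ y :=
    ⟨(h.gW.toDual h.gnd).symm Λ, fun y => LinearMap.BilinForm.apply_toDual_symm_apply Λ y⟩
  have hbw : h.gW b w = 0 := by rw [hb]; simp [Λ, hA]
  have hwb := h.g_swap_zero hbw
  set N : Module.End F V := h.P w b 1 + h.P b w 1 with hNdef
  have hN : In M N := by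
    by_cases hm : b ∈ Submodule.span F {w}
    · obtain ⟨s, rfl⟩ := Submodule.mem_span_singleton.1 hm
      have := hG.tau w (s + s)
      rwa [show (s + s) • h.P w w 1 = N from LinearMap.ext fun T => by simp [hNdef, P_apply, add_smul]] at this
    · obtain ⟨E, hE, hIn⟩ := InD.scalar hG (1 : F) (h := h)
      obtain rfl : E = 1 := h.adj_unique hE fun u x => by simp
      have := hIn w b hw hm hwb
      rwa [one_smul] at this
  have hNN : N * N = 0 := by simp [hNdef, add_mul, mul_add, P_mul, h.g_self, hwb, hbw]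
  set X₁ : Module.End F V := -N + X + -N * X with hX₁def
  have hX₁ : In M X₁ := (hN.neg hNN).mul hX
  have hzero : ∀ u v, h.gW v w = 0 → X₁ (h.tp u v) = 0 := fun u v hv => by
    simp only [hX₁def, hNdef, LinearMap.add_apply, Module.End.mul_apply, LinearMap.neg_apply, hdiag u v hv]
    simp [P_apply, h.g_swap_zero hv, hb, h.g_self, hwb]
    simp [← hb, hbw]
  have hcV : ∀ T, h.c w (X₁ T) = 0 := fun T => by
    simp [hX₁def, hNdef, P_apply, hV, h.g_self, hwb]
  have hin : ∀ T, X₁ T ∈ h.A w := fun T => h.mem_A_of_perp hw fun u v hv => by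
    have := hX₁.polar_eqB hG.iso (h.tp u v) T
    rwa [hzero u v hv, LinearMap.BilinForm.zero_left, LinearMap.BilinForm.zero_left, zero_add, add_zero] at this
  let G : Module.End F U := h.c w₁ ∘ₗ X₁ ∘ₗ h.tp.flip (-w₁)
  have hG₁ : ∀ T, X₁ T = h.tp (G (h.c w T)) w := fun T => by
    have e1 : X₁ (T - h.tp (h.c w T) (-w₁)) = 0 := h.map_eq_zero_of_tp hQ X₁ hw hzero (by
      rw [map_sub, h.c_tp, hw2, one_smul, sub_self])
    rw [map_sub, sub_eq_zero] at e1
    obtain ⟨y, hy⟩ := hin T
    have e2 : G (h.c w T) = h.c w₁ (X₁ T) := by rw [e1]; rfl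
    rw [e2, ← hy, LinearMap.flip_apply, h.c_tp, hw₁, one_smul]
  have hadj : ∀ u x, h.fU (G u) x = h.fU u (G x) := fun u x => by
    have := hX₁.polar_eqB hG.iso (h.tp u (-w₁)) (h.tp x (-w₁))
    rw [hG₁, hG₁, h.polar_tp, h.polar_tp', h.polar_tp, h.c_tp, h.c_tp, hw2, one_smul, one_smul, h.c_tp, h.g_self,
      zero_smul, map_zero, add_zero] at this
    rw [eq_neg_of_add_eq_zero_left this, ← h.f_swap]
  have hX₁e : X₁ = h.P w w G := LinearMap.ext hG₁
  rw [hX₁e] at hX₁
  obtain ⟨s, hs⟩ := hsc G (InD.of_tau hG hadj hw hX₁)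
  refine ⟨(h.gW w).smulRight b + (h.gW b).smulRight w + s • (h.gW w).smulRight w, fun u y => ?_⟩
  have e3 : X = N + X₁ + N * X₁ := by
    have : N * N * X = 0 := by rw [hNN, zero_mul]
    rw [hX₁def]
    simp only [mul_add, mul_neg, neg_mul, hNN, ← mul_assoc, zero_mul, neg_zero, zero_add]
    abel
  rw [e3, hX₁e, hs, hNdef]
  simp [P_apply, h.g_self, hwb, hbw, smul_smul]
  module

/-- The element attached to an orthogonal pair of the second factor. -/
theorem in_pair {w a : W} (hwa : h.gW w a = 0) :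
    In M (h.P w a 1 + h.P a w 1) := by
  by_cases hw : w = 0
  · subst hw
    rw [show h.P 0 a 1 + h.P a 0 1 = 0 from LinearMap.ext fun T => by simp [P_apply]]
    exact In.zero M
  by_cases hm : a ∈ Submodule.span F {w}
  · obtain ⟨s, rfl⟩ := Submodule.mem_span_singleton.1 hm
    have := hG.tau w (s + s)
    rwa [show (s + s) • h.P w w 1 = h.P w (s • w) 1 + h.P (s • w) w 1 from
      LinearMap.ext fun T => by simp [P_apply, add_smul]] at this
  obtain ⟨E, hE, hIn⟩ := InD.scalar hG (1 : F) (h := h)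
  obtain rfl : E = 1 := h.adj_unique hE fun u x => by simp
  have := hIn w a hw hm hwa
  rwa [one_smul] at this

theorem exists_nonscalar (hQ : B.Nondegenerate) (h5 : 5 ≤ Module.finrank F W)
    {C : Module.End F V} (hC : In M C) (hiso : ∀ S T, B (C S) (C T) = 0)
    (hdim : Module.finrank F (LinearMap.range C) = Module.finrank F U)
    (hne : ∀ y : W, y ≠ 0 → LinearMap.range C ≠ h.A y) {w : W} (hw : w ≠ 0) (hp : ∀ T, h.c w (C T) = 0) :
    ∃ D, h.InD M D ∧ ∀ s : F, D ≠ s • 1 := by
  by_contra hno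
  obtain ⟨w₁, hw₁⟩ := h.exists_g_one hw
  have hskew : ∀ S T, B (C S) T + B S (C T) = 0 := fun S T => by
    have := hC.polar_eqB hG.iso S T
    rwa [hiso, add_zero] at this
  set L := LinearMap.range C with hLdef
  have hCL : ∀ T, C T ∈ L := fun T => LinearMap.mem_range_self C T
  have hCw : ∀ T, h.c w (C T) = 0 := hp
  have hCA : ∀ u, C (h.tp u w) = 0 := fun u => h.sep _ fun x y => by
    have := hskew (h.tp x y) (h.tp u w)
    rwa [h.polar_tp' u w, hp, map_zero, zero_add] at this
  have hCC : ∀ T, C (C T) = 0 := fun T => h.sep _ fun u y => by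
    have := hskew (h.tp u y) (C T)
    rwa [hiso, zero_add] at this
  have hdich : ∀ {X : Module.End F V}, In M X → (∀ u, X (h.tp u w) = 0) →
      (∀ u v, h.gW v w = 0 → X (h.tp u v) ∈ h.A w) → (∀ T, h.c w (X T) = 0) →
      ∃ κ : Module.End F W, ∀ u y, X (h.tp u y) = h.tp u (κ y) := fun hX h1 h2 h3 =>
    (radical_dichotomy hG hQ h5 hX hw h1 h2 h3).resolve_left hno
  -- the components of `C` on the orthogonal of `A w` are scalar
  have hscal : ∀ a v, h.gW a w = 0 → h.gW v w = 0 → ∃ s : F, ∀ u, h.c a (C (h.tp u v)) = s • u := by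
    intro a v ha hv
    have hwa := h.g_swap_zero ha
    set N : Module.End F V := h.P w a 1 + h.P a w 1 with hNdef
    obtain ⟨k, hk, ek⟩ := in_pair hG hwa
    have hNN : ∀ T, N (N T) = 0 := fun T => by simp [hNdef, P_apply, h.g_self, ha, hwa]
    have hC' : In M (C + N * C - C * N - N * C * N) := hC.conj hk fun T => by
      simp only [ek, ← hNdef, LinearMap.add_apply, LinearMap.sub_apply, Module.End.mul_apply, map_add, hNN,
        map_zero]
      abel
    have hCN : ∀ T, C (N (C T)) = 0 := fun T => by simp [hNdef, P_apply, hCw, hCA]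
    have hE : In M (N * C - C * N - N * C * N) := hC'.divB hC (LinearMap.ext fun T => by
      simp only [LinearMap.add_apply, LinearMap.sub_apply, Module.End.mul_apply, hCC, hCN, map_zero]
      abel)
    have hNA : ∀ u, N (h.tp u w) = 0 := fun u => by simp [hNdef, P_apply, h.g_self, ha]
    have hEv : ∀ u x, h.gW x w = 0 → (N * C - C * N - N * C * N) (h.tp u x) = h.tp (h.c a (C (h.tp u x))) w := by
      intro u x hx
      have e1 : N (h.tp u x) = h.tp (h.gW a x • u) w := by simp [hNdef, P_apply, h.g_swap_zero hx]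
      simp only [LinearMap.sub_apply, Module.End.mul_apply, e1, hCA, map_zero, sub_zero]
      simp [hNdef, P_apply, hCw]
    obtain ⟨κ, hκ⟩ := hdich hE (fun u => by simp [hCA, hNA])
      (fun u x hx => by rw [hEv u x hx]; exact h.tp_mem_A _ w)
      (fun T => by simp [hNdef, P_apply, hCw, h.g_self, hwa])
    refine ⟨h.gW w₁ (κ v), fun u => ?_⟩
    have e := congrArg (h.c w₁) ((hEv u v hv).symm.trans (hκ u v))
    rwa [h.c_tp, h.c_tp, hw₁, one_smul] at e
  obtain ⟨u₀, hu₀⟩ := exists_ne (0 : U)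
  obtain ⟨a₀, ha₀⟩ := h.swap.exists_g_one hu₀
  change h.fU a₀ u₀ = 1 at ha₀
  obtain ⟨β, hβ⟩ : ∃ β : Module.End F W, ∀ a v, h.gW a (β v) = h.fU a₀ (h.c a (C (h.tp u₀ v))) := by
    let Λ : W →ₗ[F] Module.Dual F W :=
      LinearMap.mk₂ F (fun v a => h.fU a₀ (h.c a (C (h.tp u₀ v))))
        (fun v v' a => by simp) (fun s v a => by simp) (fun v a a' => by simp) (fun s v a => by simp)
    have hgnd : h.gW.flip.Nondegenerate := LinearMap.flip_nondegenerate.2 h.gnd
    refine ⟨(h.gW.flip.toDual hgnd).symm.toLinearMap ∘ₗ Λ, fun a v => ?_⟩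
    show h.gW.flip _ a = _
    exact LinearMap.BilinForm.apply_toDual_symm_apply (hB := hgnd) (Λ v) a
  have hβw : ∀ v, h.gW w (β v) = 0 := fun v => by rw [hβ, hCw, map_zero]
  have hmod : ∀ u v, h.gW v w = 0 → C (h.tp u v) - h.tp u (β v) ∈ h.A w := fun u v hv =>
    h.mem_A_of_c hw fun a ha => by
      obtain ⟨s, hs⟩ := hscal a v ha hv
      rw [map_sub, hs, h.c_tp, hβ, hs, map_smul, ha₀, smul_eq_mul, mul_one, sub_self]
  -- a single vector carries all components
  obtain ⟨b, hwb, hb⟩ : ∃ b, h.gW w b = 0 ∧ ∀ v, h.gW v w = 0 → β v ∈ Submodule.span F ({w, b} : Set W) := by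
    by_cases h0 : ∀ v, h.gW v w = 0 → β v ∈ Submodule.span F {w}
    · exact ⟨0, map_zero _, fun v hv => Submodule.span_mono (by simp) (h0 v hv)⟩
    push Not at h0
    obtain ⟨v₁, hv₁, hb₁⟩ := h0
    refine ⟨β v₁, hβw v₁, fun v hv => by_contra fun hn => ?_⟩
    obtain ⟨x, hxw, hxb, hxv⟩ := exists_two (h := h) hb₁ hn
    obtain ⟨y, hyw, hyb⟩ := h.exists_perp_one hb₁
    let φ : U × U →ₗ[F] V ⧸ h.A w := (h.A w).mkQ ∘ₗ (h.tp.flip (β v₁)).coprod (h.tp.flip (β v))
    have hinj : Function.Injective φ := (injective_iff_map_eq_zero _).2 fun ⟨p, q⟩ e => by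
      have hm : h.tp p (β v₁) + h.tp q (β v) ∈ h.A w := (Submodule.Quotient.mk_eq_zero _).1 e
      have h1 := h.c_A hxw hm
      rw [map_add, h.c_tp, h.c_tp, hxb, hxv, zero_smul, zero_add, one_smul] at h1
      subst h1
      have h2 := h.c_A hyw hm
      rw [map_add, h.c_tp, h.c_tp, hyb, smul_zero, one_smul, add_zero] at h2
      subst h2
      rfl
    have hrange : LinearMap.range φ ≤ L.map (h.A w).mkQ := by
      rintro _ ⟨⟨p, q⟩, rfl⟩
      refine ⟨C (h.tp p v₁) + C (h.tp q v), L.add_mem (hCL _) (hCL _), (Submodule.Quotient.eq _).2 ?_⟩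
      have := (h.A w).add_mem (hmod p v₁ hv₁) (hmod q v hv)
      rwa [show C (h.tp p v₁) - h.tp p (β v₁) + (C (h.tp q v) - h.tp q (β v)) =
        C (h.tp p v₁) + C (h.tp q v) - (h.tp p (β v₁) + h.tp q (β v)) by abel] at this
    have h1 := Submodule.finrank_mono hrange
    rw [LinearMap.finrank_range_of_inj hinj, Module.finrank_prod] at h1
    have h2 := Submodule.finrank_map_le (h.A w).mkQ L
    rw [hdim] at h2
    have h3 : 0 < Module.finrank F U := Module.finrank_pos
    omega
  have hbw := h.g_swap_zero hwb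
  have hμ : ∀ v, h.gW v w = 0 → ∃ μ : F, ∀ u, C (h.tp u v) - μ • h.tp u b ∈ h.A w := fun v hv => by
    obtain ⟨s, μ, hs⟩ := Submodule.mem_span_pair.1 (hb v hv)
    refine ⟨μ, fun u => ?_⟩
    have := (h.A w).add_mem (hmod u v hv) ((h.A w).smul_mem s (h.tp_mem_A u w))
    rwa [← hs, map_add, map_smul, map_smul,
      show C (h.tp u v) - (s • h.tp u w + μ • h.tp u b) + s • h.tp u w = C (h.tp u v) - μ • h.tp u b by abel] at this
  obtain ⟨lam, hlam⟩ : ∃ lam : F, ∀ u v, h.gW v w = 0 → C (h.tp u v) - (lam * h.gW b v) • h.tp u b ∈ h.A w := by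
    by_cases hbs : b ∈ Submodule.span F {w}
    · refine ⟨0, fun u v hv => ?_⟩
      obtain ⟨μ, hμ⟩ := hμ v hv
      obtain ⟨s, rfl⟩ := Submodule.mem_span_singleton.1 hbs
      have := (h.A w).add_mem (hμ u) ((h.A w).smul_mem μ ((h.A w).smul_mem s (h.tp_mem_A u w)))
      rw [map_smul, sub_add_cancel] at this
      simpa using this
    obtain ⟨x, hxw, hxb⟩ := h.exists_perp_one hbs
    have hv₁ : h.gW (-x) w = 0 := by rw [map_neg, LinearMap.neg_apply, hxw, neg_zero]
    obtain ⟨lam, hlam⟩ := hμ _ hv₁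
    refine ⟨lam, fun u v hv => ?_⟩
    obtain ⟨μ, hμv⟩ := hμ v hv
    have h1 : ∀ {S : V} {p : U} {y : W}, S ∈ h.A w → h.gW y w = 0 → B S (h.tp p y) = 0 := fun hS hy => by
      rw [h.polar_tp', h.c_A hy hS, map_zero]
    have e := hskew (h.tp a₀ v) (h.tp u₀ (-x))
    rw [← sub_add_cancel (C (h.tp a₀ v)) (μ • h.tp a₀ b), ← sub_add_cancel (C (h.tp u₀ (-x))) (lam • h.tp u₀ b),
      LinearMap.BilinForm.add_left, LinearMap.BilinForm.add_right, h1 (hμv a₀) hv₁, h.symm (h.tp a₀ v),
      h1 (hlam u₀) hv, LinearMap.BilinForm.smul_left, LinearMap.BilinForm.smul_right, h.pol, h.pol, ha₀, one_mul, one_mul, zero_add,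
      zero_add, map_neg, h.g_swap b x, hxb, neg_neg, h.g_swap v b, mul_one] at e
    rw [show lam * h.gW b v = μ by linear_combination -e]
    exact hμv u
  -- subtract the transvection at `b`
  have hPb : ∀ T, h.P b b 1 (h.P b b 1 T) = 0 := fun T => by simp [P_apply, h.g_self]
  set X : Module.End F V := C + (-lam) • h.P b b 1 + C * ((-lam) • h.P b b 1) with hXdef
  have hXv : ∀ u y, X (h.tp u y) = C (h.tp u y) - (lam * h.gW b y) • h.tp u b -
      (lam * h.gW b y) • C (h.tp u b) := fun u y => by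
    simp only [hXdef, LinearMap.add_apply, Module.End.mul_apply, LinearMap.smul_apply, P_apply,
      Module.End.one_apply, h.c_tp, map_smul, smul_smul]
    module
  obtain ⟨κ, hκ⟩ := hdich (hC.mul (hG.tau b (-lam)))
    (fun u => by rw [← hXdef, hXv, hCA, hbw]; simp)
    (fun u v hv => by
      rw [← hXdef, hXv]
      refine (h.A w).sub_mem (hlam u v hv) ((h.A w).smul_mem _ ?_)
      have := hlam u b hbw
      rwa [h.g_self, mul_zero, zero_smul, sub_zero] at this)
    (fun T => by simp [P_apply, hCw, hwb])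
  rw [← hXdef] at hκ
  have hC' : ∀ u y, C (h.tp u y) = h.tp u (κ y + (lam * h.gW b y) • b + (lam * h.gW b y) • κ b) := fun u y => by
    have e1 := hXv u y
    have e2 := hXv u b
    rw [h.g_self, mul_zero, zero_smul, zero_smul, sub_zero, sub_zero] at e2
    rw [hκ] at e1 e2
    rw [map_add, map_add, map_smul, map_smul, e1, e2]
    abel
  obtain ⟨y, hy⟩ : ∃ y, κ y + (lam * h.gW b y) • b + (lam * h.gW b y) • κ b ≠ 0 := by
    by_contra hall
    push Not at hall
    obtain ⟨S, hS, hS0⟩ := Submodule.exists_mem_ne_zero_of_ne_bot (p := L) fun e => by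
      rw [e, finrank_bot] at hdim
      exact absurd hdim.symm (Module.finrank_pos (R := F) (M := U)).ne'
    obtain ⟨T, rfl⟩ := hS
    refine hS0 ?_
    refine h.sep _ fun u y => ?_
    have := hskew (h.tp u y) T
    rwa [hC', hall, map_zero, LinearMap.BilinForm.zero_left, zero_add] at this
  refine hne _ hy (Submodule.eq_of_le_of_finrank_le ?_ (by rw [h.finrank_A hy, hdim])).symm
  rintro _ ⟨u, rfl⟩
  rw [LinearMap.flip_apply, ← hC']
  exact hCL _

end BData

end CfsgLib.TensorWreathO
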