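import Cfsg.Agent.Lib.TensorWreathO.Radical
import Cfsg.Agent.Lib.TensorWreathSL.Block
import Cfsg.Agent.Lib.TensorWreath.Rep

/-!
One slot against all the others in a tensor power of a symplectic form: the root elements of the slot, and root
elements whose image is orthogonal to one of its lines.
-/

set_option autoImplicit false
set_option linter.unusedSectionVars false
set_option linter.unusedVariables false

namespace CfsgLib.TensorWreathO

open CfsgLib.Aschbacher CfsgLib.AschbacherForm CfsgLib.TensorWreath CfsgLib.TensorWreathSL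
open CfsgLib.TensorSp (In)
open scoped Matrix MatrixGroups

variable {F : Type*} [Field F] {k s : ℕ}

/-- The bilinear form of a Gram matrix. -/
noncomputable def BF {ι : Type} [Fintype ι] [DecidableEq ι] (G : Matrix ι ι F) : LinearMap.BilinForm F (ι → F) :=
  Matrix.toLinearMap₂' F G

theorem BF_apply {ι : Type} [Fintype ι] [DecidableEq ι] (G : Matrix ι ι F) (x y : ι → F) :
    BF G x y = x ⬝ᵥ G *ᵥ y := Matrix.toLinearMap₂'_apply' G x y

theorem BF_nondeg {ι : Type} [Fintype ι] [DecidableEq ι] (G : GL ι F) :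
    (BF (G : Matrix ι ι F)).Nondegenerate := by
  refine ⟨fun x hx => ?_, fun y hy => ?_⟩
  · refine dotProduct_eq_zero _ fun z => ?_
    have := hx ((↑G⁻¹ : Matrix ι ι F) *ᵥ z)
    rwa [BF_apply, Matrix.mulVec_mulVec, Units.mul_inv, Matrix.one_mulVec] at this
  · have h1 : (G : Matrix ι ι F) *ᵥ y = 0 := dotProduct_eq_zero _ fun z => by
      have := hy z
      rwa [BF_apply, dotProduct_comm] at this
    have := congrArg ((↑G⁻¹ : Matrix ι ι F) *ᵥ ·) h1
    simpa [Matrix.mulVec_mulVec] using this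

/-- An alternating Gram matrix gives an alternating form. -/
theorem quad_zero {ι : Type} [Fintype ι] [DecidableEq ι] {G : Matrix ι ι F} (hT : Gᵀ = -G)
    (hd : ∀ a, G a a = 0) (x : ι → F) : x ⬝ᵥ G *ᵥ x = 0 := by
  simp only [dotProduct, Matrix.mulVec, Finset.mul_sum]
  rw [← Finset.sum_product']
  refine Finset.sum_involution (fun p _ => p.swap) (fun p _ => ?_) (fun p _ hne e => ?_)
    (fun p _ => Finset.mem_univ _) fun p _ => Prod.swap_swap p
  · have := congrFun (congrFun hT p.1) p.2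
    rw [Matrix.transpose_apply, Matrix.neg_apply] at this
    simp only [Prod.fst_swap, Prod.snd_swap, this]
    ring
  · have e' : p.2 = p.1 := congrArg Prod.fst e
    rw [e', hd] at hne
    simp at hne

/-- The hypotheses on the Gram matrix of one slot and the number of the other slots. -/
structure Frame (J₁ : GL (Fin k) F) (s : ℕ) : Prop where
  skew : (J₁ : Matrix (Fin k) (Fin k) F)ᵀ = -(J₁ : Matrix (Fin k) (Fin k) F)
  diag : ∀ a, (J₁ : Matrix (Fin k) (Fin k) F) a a = 0
  sgn : (-1 : F) ^ s = -1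
  pos : 0 < s

variable {J₁ : GL (Fin k) F}

theorem BF_fo (v w : Fin k → F) : BF (J₁ : Matrix (Fin k) (Fin k) F) v w = fo J₁ v w := by
  rw [BF_apply, fo, fw, Matrix.dotProduct_mulVec]

theorem Frame.fo_zero (hF : Frame J₁ s) (v : Fin k → F) : fo J₁ v v = 0 := by
  rw [← BF_fo, BF_apply, quad_zero hF.skew hF.diag]

theorem Frame.fo_neg (hF : Frame J₁ s) (v w : Fin k → F) : fo J₁ v w = -fo J₁ w v := fo_skew J₁ hF.skew v w

theorem Frame.aR_sq (hF : Frame J₁ s) (v : Fin k → F) : aR J₁ v * aR J₁ v = 0 := by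
  rw [aR, rk_mul, hF.fo_zero, zero_smul]

theorem Frame.alt_rest (hF : Frame J₁ s) (x : (Fin s → Fin k) → F) :
    BF (JT s J₁ : TMat F k s) x x = 0 := by
  rw [BF_apply]
  refine quad_zero ?_ (fun a => Finset.prod_eq_zero (Finset.mem_univ (⟨0, hF.pos⟩ : Fin s)) (hF.diag _)) x
  rw [JT_transpose J₁ hF.skew, hF.sgn, neg_one_smul]

theorem Frame.JT_symm (hF : Frame J₁ s) : (JT (s + 1) J₁ : TMat F k (s + 1))ᵀ = (JT (s + 1) J₁ : TMat F k (s + 1)) := by
  rw [JT_transpose J₁ hF.skew, pow_succ, hF.sgn, neg_mul_neg, one_mul, one_smul]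

/-- The pure tensors along one slot. -/
def tpL (i : Fin (s + 1)) :
    ((Fin s → Fin k) → F) →ₗ[F] (Fin k → F) →ₗ[F] ((Fin (s + 1) → Fin k) → F) :=
  LinearMap.mk₂ F (fun u w x => u (i.removeNth x) * w (x i))
    (fun u u' w => funext fun x => add_mul _ _ _) (fun c u w => funext fun x => mul_assoc _ _ _)
    (fun u w w' => funext fun x => mul_add _ _ _) (fun c u w => funext fun x => mul_left_comm _ _ _)

theorem tpL_insertNth (i : Fin (s + 1)) (u : (Fin s → Fin k) → F) (w : Fin k → F) (a : Fin k) (p : Fin s → Fin k) :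
    tpL i u w (i.insertNth a p) = u p * w a := by
  simp [tpL]

theorem tpL_single (i : Fin (s + 1)) (x : Fin (s + 1) → Fin k) :
    tpL (F := F) i (Pi.single (i.removeNth x) 1) (Pi.single (x i) 1) = Pi.single x 1 := by
  funext y
  obtain ⟨a, p, rfl⟩ : ∃ a p, i.insertNth a p = y := ⟨y i, i.removeNth y, Fin.insertNth_self_removeNth i y⟩
  rw [tpL_insertNth, Pi.single_apply, Pi.single_apply, Pi.single_apply]
  by_cases h : i.insertNth a p = x
  · subst h; simp
  · rw [if_neg h]
    by_cases hp : p = i.removeNth x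
    · rw [if_neg (fun ha : a = x i => h (by rw [ha, hp, Fin.insertNth_self_removeNth])), mul_zero]
    · rw [if_neg hp, zero_mul]

theorem sum_ins (i : Fin (s + 1)) (φ : (Fin (s + 1) → Fin k) → F) :
    ∑ x, φ x = ∑ a, ∑ p, φ (i.insertNth a p) := by
  rw [← (Fin.insertNthEquiv (fun _ => Fin k) i).sum_comp, Fintype.sum_prod_type]
  rfl

theorem tpL_dot (i : Fin (s + 1)) (u u' : (Fin s → Fin k) → F) (w w' : Fin k → F) :
    tpL i u w ⬝ᵥ tpL i u' w' = (u ⬝ᵥ u') * (w ⬝ᵥ w') := by
  simp only [dotProduct, sum_ins i, tpL_insertNth, Finset.mul_sum, Finset.sum_mul]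
  exact Finset.sum_congr rfl fun a _ => Finset.sum_congr rfl fun p _ => by ring

variable [NeZero k]

theorem slot_embM_entry (i : Fin (s + 1)) (A : Matrix (Fin k) (Fin k) F) (C : TMat F k s) (a b : Fin k)
    (p q : Fin s → Fin k) :
    (slot i A * embM i C : TMat F k (s + 1)) (i.insertNth a p) (i.insertNth b q) = A a b * C p q := by
  show blk i (slot i A * embM i C : TMat F k (s + 1)) a b p q = _
  rw [map_mul, blk_slot_self, blk_embM, up_dg_apply, Matrix.smul_apply, smul_eq_mul]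

theorem slot_embM_mulVec (i : Fin (s + 1)) (A : Matrix (Fin k) (Fin k) F) (C : TMat F k s)
    (u : (Fin s → Fin k) → F) (w : Fin k → F) :
    (slot i A * embM i C : TMat F k (s + 1)) *ᵥ tpL i u w = tpL i (C *ᵥ u) (A *ᵥ w) := by
  funext y
  obtain ⟨a, p, rfl⟩ : ∃ a p, i.insertNth a p = y := ⟨y i, i.removeNth y, Fin.insertNth_self_removeNth i y⟩
  simp only [Matrix.mulVec, dotProduct, sum_ins i, tpL_insertNth, slot_embM_entry, Finset.mul_sum, Finset.sum_mul]
  exact Finset.sum_congr rfl fun b _ => Finset.sum_congr rfl fun q _ => by ring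

theorem JT_split (i : Fin (s + 1)) :
    (JT (s + 1) J₁ : TMat F k (s + 1)) = slot i (J₁ : Matrix (Fin k) (Fin k) F) * embM i (JT s J₁ : TMat F k s) :=
  (blk i).injective (by
    rw [show (JT (s + 1) J₁ : TMat F k (s + 1)) = pure' fun _ => (J₁ : Matrix (Fin k) (Fin k) F) from rfl, blk_pure',
      map_mul, blk_slot_self, blk_embM]
    rfl)

theorem trans_embM (i : Fin (s + 1)) (C : TMat F k s) : (embM i C)ᵀ = embM i Cᵀ := by
  ext x y
  obtain ⟨a, p, rfl⟩ : ∃ a p, i.insertNth a p = x := ⟨x i, i.removeNth x, Fin.insertNth_self_removeNth i x⟩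
  obtain ⟨b, q, rfl⟩ : ∃ b q, i.insertNth b q = y := ⟨y i, i.removeNth y, Fin.insertNth_self_removeNth i y⟩
  have e : ∀ (D : TMat F k s) a b p q, (embM i D : TMat F k (s + 1)) (i.insertNth a p) (i.insertNth b q) =
      (1 : Matrix (Fin k) (Fin k) F) a b * D p q := fun D a b p q => by
    rw [← slot_embM_entry, slot_one, one_mul]
  rw [Matrix.transpose_apply, e, e, Matrix.one_apply, Matrix.one_apply, Matrix.transpose_apply]
  simp [eq_comm]

theorem adj_embM (i : Fin (s + 1)) (C : TMat F k s) :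
    adjJ (JT (s + 1) J₁) (embM i C) = embM i (adjJ (JT s J₁) C) := by
  refine adjJ_eq _ ?_
  rw [trans_embM, JT_split i, ← mul_assoc, ← slot_embM_comm, mul_assoc, mul_assoc, ← map_mul, ← map_mul, adjJ_gram]

/-- A slot against the rest, as a product of two forms. -/
noncomputable def sd (hF : Frame J₁ s) (i : Fin (s + 1)) :
    BData (BF (JT (s + 1) J₁ : TMat F k (s + 1))) ((Fin s → Fin k) → F) (Fin k → F) where
  tp := tpL i
  fU := BF (JT s J₁ : TMat F k s)
  gW := BF (J₁ : Matrix (Fin k) (Fin k) F)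
  fAlt := hF.alt_rest
  gAlt v := by rw [BF_fo, hF.fo_zero]
  fnd := BF_nondeg _
  gnd := BF_nondeg _
  symm x y := by
    rw [BF_apply, BF_apply, Matrix.dotProduct_mulVec, ← Matrix.mulVec_transpose, hF.JT_symm, dotProduct_comm]
  pol u u' w w' := by
    rw [BF_apply, BF_apply, BF_apply, JT_split i, slot_embM_mulVec, tpL_dot]
  sep T hT := (BF_nondeg (JT (s + 1) J₁)).2 T fun x => by
    have hz : (BF (JT (s + 1) J₁ : TMat F k (s + 1))).flip T = 0 := LinearMap.pi_ext' fun y => LinearMap.ext_ring (by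
      show BF (JT (s + 1) J₁ : TMat F k (s + 1)) (Pi.single y 1) T = 0
      rw [← tpL_single i y]
      exact hT _ _)
    exact LinearMap.congr_fun hz x

/-- Linear maps agreeing on the pure tensors of a slot. -/
theorem ext_tp (i : Fin (s + 1)) {φ ψ : Module.End F ((Fin (s + 1) → Fin k) → F)}
    (h : ∀ u w, φ (tpL i u w) = ψ (tpL i u w)) : φ = ψ :=
  LinearMap.pi_ext' fun y => LinearMap.ext_ring (by
    show φ (Pi.single y 1) = ψ (Pi.single y 1)
    rw [← tpL_single i y, h])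

theorem P_eq (hF : Frame J₁ s) (i : Fin (s + 1)) (v w : Fin k → F) (C : TMat F k s) :
    (sd hF i).P v w (Matrix.toLin' C) = Matrix.toLin' (slot i (rk J₁ v w) * embM i C) := by
  refine ext_tp i fun u x => ?_
  rw [BData.P_apply, show tpL i u x = (sd hF i).tp u x from rfl, BData.c_tp, Matrix.toLin'_apply, Matrix.toLin'_apply]
  show tpL i (C *ᵥ (BF (J₁ : Matrix (Fin k) (Fin k) F) w x • u)) v = _ *ᵥ tpL i u x
  rw [slot_embM_mulVec, rk_mulVec, BF_fo, Matrix.mulVec_smul, map_smul, LinearMap.smul_apply, map_smul]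

theorem P_one (hF : Frame J₁ s) (i : Fin (s + 1)) (v w : Fin k → F) :
    (sd hF i).P v w 1 = Matrix.toLin' (slot i (rk J₁ v w)) := by
  have := P_eq hF i v w 1
  rwa [map_one (embM (F := F) i), mul_one, show Matrix.toLin' (1 : TMat F k s) = (1 : Module.End F _) from Matrix.toLin'_one] at this

/-- Invertible matrices as linear automorphisms. -/
noncomputable def eqv {ι : Type} [Fintype ι] [DecidableEq ι] : GL ι F →* ((ι → F) ≃ₗ[F] (ι → F)) :=
  (LinearMap.GeneralLinearGroup.generalLinearEquiv F (ι → F)).toMonoidHom.comp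
    Matrix.GeneralLinearGroup.toLin.toMonoidHom

theorem eqv_apply {ι : Type} [Fintype ι] [DecidableEq ι] (g : GL ι F) (x : ι → F) : eqv g x = g.1 *ᵥ x := rfl

theorem eqv_injective {ι : Type} [Fintype ι] [DecidableEq ι] : Function.Injective (eqv (F := F) (ι := ι)) := fun g g' e =>
  Units.ext (CfsgLib.Geometry.matrix_eq_of_mulVec fun x => by rw [← eqv_apply, e, eqv_apply])

variable {M : Subgroup (GL (Fin (s + 1) → Fin k) F)}

theorem in_iff {X : TMat F k (s + 1)} : In (M.map eqv) (Matrix.toLin' X) ↔ InM M (1 + X) := by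
  constructor
  · rintro ⟨_, ⟨g, hg, rfl⟩, e⟩
    refine ⟨g, hg, CfsgLib.Geometry.matrix_eq_of_mulVec fun x => ?_⟩
    rw [← eqv_apply, e, Matrix.add_mulVec, Matrix.one_mulVec, Matrix.toLin'_apply]
  · rintro ⟨g, hg, e⟩
    exact ⟨eqv g, ⟨g, hg, rfl⟩, fun x => by
      rw [eqv_apply, e, Matrix.add_mulVec, Matrix.one_mulVec, Matrix.toLin'_apply]⟩

/-- Isometries containing the root elements of all slots. -/
structure Slots (J₁ : GL (Fin k) F) (M : Subgroup (GL (Fin (s + 1) → Fin k) F)) : Prop where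
  iso : ∀ g ∈ M, g.1ᵀ * (JT (s + 1) J₁ : TMat F k (s + 1)) * g.1 = (JT (s + 1) J₁ : TMat F k (s + 1))
  root : ∀ i u, ∀ c : F, InM M (1 + c • slot i (aR J₁ u))

theorem Slots.skew (hM : Slots J₁ M) {X : TMat F k (s + 1)} (h : InM M (1 + X)) (hX : X * X = 0) :
    adjJ (JT (s + 1) J₁) X = -X := by
  obtain ⟨g, hg, e⟩ := h
  have hadj : adjJ (JT (s + 1) J₁) g.1 = g⁻¹.1 := by
    refine adjJ_eq _ ?_
    conv_rhs => rw [← hM.iso g hg, mul_assoc, Units.mul_inv, mul_one]
  have hinv : g⁻¹.1 = 1 - X := left_inv_eq_right_inv (Units.inv_mul g) (by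
    rw [e, add_mul, one_mul, mul_sub, mul_one, hX, sub_zero, sub_add_cancel])
  rw [e, adjJ_add, adjJ_one, hinv, sub_eq_add_neg] at hadj
  exact add_left_cancel hadj

theorem Slots.tau (hM : Slots J₁ M) (hF : Frame J₁ s) (i : Fin (s + 1)) : (sd hF i).Tau (M.map eqv) := by
  refine ⟨?_, fun w c => ?_⟩
  · rintro _ ⟨g, hg, rfl⟩ x y
    rw [BF_apply, BF_apply, eqv_apply, eqv_apply, ← Matrix.vecMul_transpose, ← Matrix.dotProduct_mulVec,
      Matrix.mulVec_mulVec, Matrix.mulVec_mulVec, hM.iso g hg]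
  · rw [P_one, ← map_smul]
    exact in_iff.2 (hM.root i w c)

/-- A coefficient of a root element outside the scalars. -/
def Twist (hF : Frame J₁ s) (M : Subgroup (GL (Fin (s + 1) → Fin k) F)) : Prop :=
  ∃ (i : Fin (s + 1)) (D : Module.End F ((Fin s → Fin k) → F)), (sd hF i).InD (M.map eqv) D ∧ ∀ c : F, D ≠ c • 1

theorem adj_toLin (C : TMat F k s) (u x : (Fin s → Fin k) → F) :
    BF (JT s J₁ : TMat F k s) (Matrix.toLin' C u) x =
      BF (JT s J₁ : TMat F k s) u (Matrix.toLin' (adjJ (JT s J₁) C) x) := by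
  rw [BF_apply, BF_apply, Matrix.toLin'_apply, Matrix.toLin'_apply, ← Matrix.vecMul_transpose,
    ← Matrix.dotProduct_mulVec, Matrix.mulVec_mulVec, Matrix.mulVec_mulVec, adjJ_gram]

theorem toLin_ne_smul {C : TMat F k s} (h : ∀ c : F, C ≠ c • 1) (c : F) :
    Matrix.toLin' C ≠ c • (1 : Module.End F ((Fin s → Fin k) → F)) := fun e => h c (Matrix.toLin'.injective (by
  rw [e, map_smul, Matrix.toLin'_one]
  rfl))

/-- A root element times a self-adjoint coefficient. -/
theorem Slots.inD_of_root (hM : Slots J₁ M) (hF : Frame J₁ s) {i : Fin (s + 1)} {w : Fin k → F} (hw : w ≠ 0)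
    {C : TMat F k s} (hC : adjJ (JT s J₁) C = C) (h : InM M (1 + slot i (aR J₁ w) * embM i C)) :
    (sd hF i).InD (M.map eqv) (Matrix.toLin' C) := by
  refine BData.InD.of_tau (hM.tau hF i) (fun u x => ?_) hw (by rw [P_eq]; exact in_iff.2 h)
  have := adj_toLin (J₁ := J₁) C u x
  rwa [hC] at this

/-- A root of the slot. -/
def IsRt (J₁ : GL (Fin k) F) (i : Fin (s + 1)) (X : TMat F k (s + 1)) : Prop :=
  ∃ (y : Fin k → F) (c : F), y ≠ 0 ∧ c ≠ 0 ∧ X = c • slot i (aR J₁ y)

theorem IsRt.inM (hM : Slots J₁ M) {i : Fin (s + 1)} {X : TMat F k (s + 1)} (h : IsRt J₁ i X) : InM M (1 + X) := by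
  obtain ⟨y, c, -, -, rfl⟩ := h
  exact hM.root i y c

theorem IsRt.sq (hF : Frame J₁ s) {i : Fin (s + 1)} {X : TMat F k (s + 1)} (h : IsRt J₁ i X) : X * X = 0 := by
  obtain ⟨y, c, -, -, rfl⟩ := h
  rw [Matrix.smul_mul, Matrix.mul_smul, ← slot_mul, hF.aR_sq, slot_zero, smul_zero, smul_zero]

theorem range_root (hF : Frame J₁ s) (i : Fin (s + 1)) {y : Fin k → F} (hy : y ≠ 0) :
    LinearMap.range (Matrix.toLin' (slot i (aR J₁ y))) = (sd hF i).A y := by
  obtain ⟨z, hz⟩ := (sd hF i).exists_g_one hy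
  rw [show slot i (aR J₁ y) = slot i (rk J₁ y y) from rfl, ← P_one hF]
  refine le_antisymm ?_ ?_
  · rintro _ ⟨T, rfl⟩
    exact (sd hF i).tp_mem_A _ _
  · rintro _ ⟨u, rfl⟩
    refine ⟨(sd hF i).tp u (-z), ?_⟩
    rw [BData.P_apply, BData.c_tp, map_neg, (sd hF i).g_swap, hz, neg_neg, one_smul]
    rfl

theorem IsRt.rank_eq (hF : Frame J₁ s) {i : Fin (s + 1)} {X : TMat F k (s + 1)} (h : IsRt J₁ i X) :
    X.rank = k ^ s := by
  obtain ⟨y, c, hy, hc, rfl⟩ := h
  rw [← Units.smul_mk0 hc]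
  rw [Matrix.rank, show (Units.mk0 c hc • slot i (aR J₁ y)).mulVecLin = c • Matrix.toLin' (slot i (aR J₁ y)) from
    LinearMap.ext fun x => by simp [Units.smul_mk0, Matrix.smul_mulVec], LinearMap.range_smul _ _ hc, range_root hF i hy,
    (sd hF i).finrank_A hy]
  simp

/-- An element of root shape with image orthogonal to a line of a slot is a root of that slot, without twists. -/
theorem Slots.root_of_perp (hM : Slots J₁ M) (hF : Frame J₁ s) (h5 : 5 ≤ k) (hn : ¬ Twist hF M)
    {X : TMat F k (s + 1)} (hX : InM M (1 + X)) (hsq : X * X = 0) (hrk : X.rank = k ^ s) {i : Fin (s + 1)}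
    {w : Fin k → F} (hw : w ≠ 0) (hperp : slot i (aR J₁ w) * X = 0) : IsRt J₁ i X := by
  set h := sd hF i
  have hG := hM.tau hF i
  have hQ : (BF (JT (s + 1) J₁ : TMat F k (s + 1))).Nondegenerate := BF_nondeg _
  have h5' : 5 ≤ Module.finrank F (Fin k → F) := by simpa using h5
  set C := Matrix.toLin' X with hCdef
  have hC : In (M.map eqv) C := in_iff.2 hX
  have hdim : Module.finrank F (LinearMap.range C) = Module.finrank F ((Fin s → Fin k) → F) := by
    rw [show LinearMap.range C = LinearMap.range X.mulVecLin from rfl]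
    simpa [Matrix.rank] using hrk
  have hCC : ∀ T, C (C T) = 0 := fun T => by
    rw [hCdef, Matrix.toLin'_apply, Matrix.toLin'_apply, Matrix.mulVec_mulVec, hsq, Matrix.zero_mulVec]
  have hiso : ∀ S T, BF (JT (s + 1) J₁ : TMat F k (s + 1)) (C S) (C T) = 0 := fun S T => by
    rw [hCdef, BF_apply, Matrix.toLin'_apply, Matrix.toLin'_apply, ← Matrix.vecMul_transpose,
      ← Matrix.dotProduct_mulVec, Matrix.mulVec_mulVec, Matrix.mulVec_mulVec, adjJ_gram, hM.skew hX hsq, mul_neg,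
      neg_mul, mul_assoc, hsq, mul_zero, neg_zero, Matrix.zero_mulVec, dotProduct_zero]
  have hp : ∀ T, h.c w (C T) = 0 := fun T => by
    have e : h.P w w 1 (C T) = 0 := by
      rw [P_one, hCdef, ← LinearMap.comp_apply, ← Matrix.toLin'_mul]
      show Matrix.toLin' (slot i (aR J₁ w) * X) T = 0
      rw [hperp, map_zero, LinearMap.zero_apply]
    rw [BData.P_apply, Module.End.one_apply] at e
    exact h.tp_injective hw (e.trans (map_zero _).symm)
  obtain ⟨y, hy, hLy⟩ : ∃ y : Fin k → F, y ≠ 0 ∧ LinearMap.range C = h.A y := by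
    by_contra hne
    push Not at hne
    obtain ⟨D, hD, hns⟩ := BData.exists_nonscalar hG hQ h5' hC hiso hdim hne hw hp
    exact hn ⟨i, D, hD, hns⟩
  have hm : ∀ T, C T ∈ h.A y := fun T => hLy ▸ LinearMap.mem_range_self C T
  obtain ⟨κ, hκ⟩ := (BData.radical_dichotomy hG hQ h5' hC hy (fun u => by
      obtain ⟨S, hS⟩ := hLy.ge (h.tp_mem_A u y)
      rw [← hS, hCC]) (fun u v _ => hm _) (fun T => by
      obtain ⟨u, hu⟩ := hm T
      rw [← hu, LinearMap.flip_apply, h.c_tp, h.g_self, zero_smul])).resolve_left fun ⟨D, hD, hns⟩ =>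
        hn ⟨i, D, hD, hns⟩
  obtain ⟨z, hz⟩ := h.exists_g_one hy
  obtain ⟨u₀, hu₀⟩ := exists_ne (0 : (Fin s → Fin k) → F)
  obtain ⟨u₁, hu₁⟩ := h.swap.exists_g_one hu₀
  change h.fU u₁ u₀ = 1 at hu₁
  have hspan : ∀ x, ∃ φ : F, φ • y = κ x := fun x =>
    Submodule.mem_span_singleton.1 (h.tp_mem_A_iff hu₀ (hκ u₀ x ▸ hm _))
  choose φ hφ using hspan
  have hsym : ∀ x x', φ x * h.gW y x' = φ x' * h.gW y x := fun x x' => by
    have e := hC.polar_eqB hG.iso (h.tp u₁ x) (h.tp u₀ x')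
    rw [hiso, add_zero, hκ, hκ, ← hφ, ← hφ, h.pol, h.pol, hu₁, one_mul, one_mul, map_smul, map_smul,
      LinearMap.smul_apply, smul_eq_mul, smul_eq_mul, h.g_swap x y] at e
    linear_combination e
  have hz' : h.gW y (-z) = 1 := by rw [map_neg, h.g_swap, hz, neg_neg]
  have hCe : C = φ (-z) • h.P y y 1 := ext_tp i fun u x => by
    show C (h.tp u x) = φ (-z) • h.P y y 1 (h.tp u x)
    have e := hsym x (-z)
    rw [hz', mul_one] at e
    rw [hκ, ← hφ, e, BData.P_apply, BData.c_tp, Module.End.one_apply, map_smul, map_smul, LinearMap.smul_apply,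
      smul_smul]
  rw [P_one, ← map_smul] at hCe
  have hXe := Matrix.toLin'.injective hCe
  refine ⟨y, φ (-z), hy, fun e => ?_, hXe⟩
  rw [hXe, e, zero_smul, Matrix.rank_zero] at hrk
  exact absurd hrk.symm (pow_ne_zero _ (NeZero.ne k))

end CfsgLib.TensorWreathO
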