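import Cfsg.Agent.Lib.TensorWreathO.Alg
import Cfsg.Agent.Lib.TensorWreathO.Slot

/-!
With one twisted root every endomorphism of the other slots is a coefficient of a root element.
-/

set_option autoImplicit false
set_option linter.unusedSectionVars false
set_option linter.unusedVariables false

namespace CfsgLib.TensorWreathO

open CfsgLib.Aschbacher CfsgLib.AschbacherForm CfsgLib.TensorWreath CfsgLib.TensorWreathSL
open CfsgLib.TensorSp (In)
open scoped Matrix MatrixGroups

variable {F : Type*} [Field F] [Finite F] {k s : ℕ} [NeZero k] {J₁ : GL (Fin k) F}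
variable {M : Subgroup (GL (Fin (s + 1) → Fin k) F)}

theorem toLin_smul_one (c : F) : Matrix.toLin' (c • (1 : TMat F k s)) = c • (1 : Module.End F ((Fin s → Fin k) → F)) := by
  rw [map_smul, Matrix.toLin'_one]
  rfl

/-- The coefficient matrices of the roots of one slot. -/
noncomputable def coef (hM : Slots J₁ M) (hF : Frame J₁ s) (h5 : 5 ≤ k) (i : Fin (s + 1)) : Subalgebra F (TMat F k s) where
  carrier := {C | (sd hF i).InD (M.map eqv) (Matrix.toLin' C)}
  mul_mem' {C D} hC hD := by
    show (sd hF i).InD _ (Matrix.toLin' (C * D))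
    rw [Matrix.toLin'_mul]
    exact hC.mul (hM.tau hF i) (by simpa using h5) hD
  add_mem' {C D} hC hD := by
    show (sd hF i).InD _ (Matrix.toLin' (C + D))
    rw [map_add]
    exact hC.add (hM.tau hF i) hD
  one_mem' := by
    show (sd hF i).InD _ (Matrix.toLin' 1)
    rw [← one_smul F (1 : TMat F k s), toLin_smul_one]
    exact BData.InD.scalar (hM.tau hF i) 1
  zero_mem' := by
    show (sd hF i).InD _ (Matrix.toLin' 0)
    rw [← zero_smul F (1 : TMat F k s), toLin_smul_one]
    exact BData.InD.scalar (hM.tau hF i) 0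
  algebraMap_mem' c := by
    show (sd hF i).InD _ (Matrix.toLin' (algebraMap F (TMat F k s) c))
    rw [Algebra.algebraMap_eq_smul_one, toLin_smul_one]
    exact BData.InD.scalar (hM.tau hF i) c

variable {hM : Slots J₁ M} {hF : Frame J₁ s} {h5 : 5 ≤ k} {i : Fin (s + 1)}

theorem mem_coef {C : TMat F k s} :
    C ∈ coef hM hF h5 i ↔ (sd hF i).InD (M.map eqv) (Matrix.toLin' C) := Iff.rfl

theorem coef_conj {g : GL (Fin s → Fin k) F} (hg : emb i g ∈ M) {C : TMat F k s} (hC : C ∈ coef hM hF h5 i) :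
    cj g C ∈ coef hM hF h5 i := by
  have hact : (sd hF i).swap.Act (M.map eqv) (Matrix.toLin' g.1) := by
    refine ⟨eqv (emb i g), ⟨_, hg, rfl⟩, fun x u => ?_⟩
    show (emb i g).1 *ᵥ tpL i u x = tpL i (Matrix.toLin' g.1 u) x
    rw [Matrix.toLin'_apply, emb_val, ← one_mul (embM i g.1), ← slot_one i, slot_embM_mulVec, Matrix.one_mulVec]
  obtain ⟨E, hE, e⟩ := BData.InD.conj (hM.tau hF i) hact (mem_coef.1 hC)
  obtain ⟨E', rfl⟩ := Matrix.toLin'.surjective E
  rw [Module.End.mul_eq_comp, Module.End.mul_eq_comp, ← Matrix.toLin'_mul, ← Matrix.toLin'_mul] at e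
  rw [mem_coef]
  convert hE using 2
  rw [cj_apply, Matrix.toLin'.injective e, mul_assoc, Units.mul_inv, mul_one]

theorem coef_inv (h5' : 5 ≤ k) (hsw : ∀ a b : Fin s, emb i (permGL (Equiv.swap a b)) ∈ M) :
    InvAlg J₁ (coef hM hF h5' i) := by
  refine ⟨hF.skew, hF.fo_zero, by omega, fun l u c C hC => ?_, fun C hC => ?_, fun a b C hC => coef_conj (hsw a b) hC⟩
  · have hsq : (c • slot l (aR J₁ u)) * (c • slot l (aR J₁ u)) = (0 : TMat F k s) := by
      rw [Matrix.smul_mul, Matrix.mul_smul, ← slot_mul, hF.aR_sq, slot_zero, smul_zero, smul_zero]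
    obtain ⟨x, hx, e⟩ := hM.root (i.succAbove l) u c
    have := coef_conj (g := oneAdd _ hsq) (by
      rwa [show emb i (oneAdd _ hsq) = x from Units.ext (by
        rw [emb_val, e, show (oneAdd _ hsq : TMat F k s) = 1 + c • slot l (aR J₁ u) from rfl, map_add, map_one,
          map_smul, embM_slot])]) hC
    rw [cj_apply] at this
    exact this
  · exact BData.InD.star (mem_coef.1 hC) (adj_toLin C)

/-- With a twist, some slot has every endomorphism of the others as a coefficient. -/
theorem Twist.all (hM : Slots J₁ M) (hF : Frame J₁ s) (h5 : 5 ≤ k)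
    (hsw : ∀ (i : Fin (s + 1)) (a b : Fin s), emb i (permGL (Equiv.swap a b)) ∈ M) (h : Twist hF M) :
    ∃ i : Fin (s + 1), ∀ D, (sd hF i).InD (M.map eqv) D := by
  obtain ⟨i, D, hD, hns⟩ := h
  obtain ⟨C, rfl⟩ := Matrix.toLin'.surjective D
  refine ⟨i, fun E => ?_⟩
  obtain ⟨E', rfl⟩ := Matrix.toLin'.surjective E
  have htop := (coef_inv (hM := hM) (hF := hF) h5 (hsw i)).eq_top (mem_coef.2 hD)
    fun c e => hns c (by rw [e, toLin_smul_one])
  exact mem_coef.1 (htop ▸ Algebra.mem_top (R := F) (x := E'))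

end CfsgLib.TensorWreathO
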